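import Groth.Agent.RelVA.Ample
import Groth.Agent.Chow.VeryAmplePn

/-!
# Immersions into projective space through finitely many sections
-/

universe u

open CategoryTheory CategoryTheory.Limits AlgebraicGeometry Opposite TopologicalSpace

set_option backward.isDefEq.respectTransparency.types false

noncomputable section

namespace Groth.RelVA

open Groth.PicAux Groth.PropsBasic.Ample
open Groth.RelTw

variable {X Y : Scheme.{u}} (q : X ⟶ Y)

/-- The functions made from the base and the ratios of finitely many sections. -/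
def ratioRing {L : X.Modules} {κ : Type*} (s : κ → Γ(L, ⊤)) (j : κ) : Subring Γ(X, gloc (s j)) :=
  Subring.closure (Set.range (q.appLE ⊤ (gloc (s j)) le_top).hom ∪
    {g | ∃ l, res L (le_top : gloc (s j) ≤ ⊤) (s l) = g • res L (le_top : gloc (s j) ≤ ⊤) (s j)})

/-- Finitely many sections of `L` embedding `X` over an affine base. -/
def HasPnData (L : X.Modules) : Prop :=
  ∃ (m : ℕ) (s : Fin (m + 1) → Γ(L, ⊤)),
    ∀ x, ∃ j, x ∈ gloc (s j) ∧ Imm (gloc (s j)) (ratioRing q s j)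

variable {q}

theorem gloc_co (n : ℕ) (R : Type u) [CommRing R] (i : Fin (n + 1)) :
    gloc (L := Groth.Chow.ToPn.O1 n R) (Groth.Chow.ToPn.co n R i) =
      Proj.basicOpen (CohB1.polyGrading n R) (MvPolynomial.X i) := by
  refine le_antisymm (fun y hy => ?_) (le_gloc (Groth.Chow.ToPn.res_coord i i).1)
  obtain ⟨j, hj⟩ := Opens.mem_iSup.1 ((Proj.iSup_basicOpen_eq_top (CohB1.polyGrading n R)
    (fun k : Fin (n + 1) => (MvPolynomial.X k : MvPolynomial (Fin (n + 1)) R))
    (Groth.Chow.ToPn.irrelevant_le_span_X)).ge (Opens.mem_top y))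
  have h1 := (gloc_inf_eq_basicOpen (Groth.Chow.ToPn.res_coord j j).1
    (Groth.Chow.ToPn.res_coord j i).2).le ⟨hy, hj⟩
  rw [show (Proj.awayToSection (CohB1.polyGrading n R) (MvPolynomial.X j : MvPolynomial (Fin (n + 1)) R))
      (HomogeneousLocalization.Away.mk (CohB1.polyGrading n R) (Groth.Chow.ToPn.X_mem j) 1 (MvPolynomial.X i)
        (by rw [one_smul]; exact Groth.Chow.ToPn.X_mem i)) = _ from rfl] at h1
  exact (Groth.RelTw.mem_basicOpen_iff_of_frac (CohB1.polyGrading n R) _ (a := MvPolynomial.X i)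
    (b := MvPolynomial.X j ^ 1) (hb := fun h => hj (y.isPrime.mem_of_pow_mem _ h)) hj
    (Groth.RelTw.awayToSection_mk_val (Groth.Chow.ToPn.X_mem j) 1 _ y hj)).1 h1

/-- An immersion into projective space gives data. -/
theorem hasPnData_of_pn [IsAffine Y] {L : X.Modules} (h : RelAmple.IsRelVeryAmplePn q L) : HasPnData q L := by
  obtain ⟨m, i, hi, hq, ⟨τ⟩⟩ := h
  let R := ULift.{u} ℤ
  let 𝒜 := CohB1.polyGrading m R
  let r : X ⟶ Proj (CohB1.polyGrading m R) := i ≫ Groth.Chow.PEmb.prZ m Y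
  let M := Groth.Chow.ToPn.O1 m R
  have hM : PicF.IsInvertible M := Groth.Chow.ToPn.twist_isInvertible
  let ψ : (Scheme.Modules.pullback r).obj M ≅ L :=
    ((Scheme.Modules.pullbackComp i (Groth.Chow.PEmb.prZ m Y)).app _).symm ≪≫ τ.symm
  let s : Fin (m + 1) → Γ(L, ⊤) := fun j => ψ.hom.app ⊤ (pullSec r M (Groth.Chow.ToPn.co m R j))
  let D : Fin (m + 1) → (Proj (CohB1.polyGrading m R)).Opens := fun j => Proj.basicOpen 𝒜 (MvPolynomial.X j)
  have hs : ∀ j, gloc (s j) = r ⁻¹ᵁ D j := fun j => by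
    rw [gloc_map ψ.hom, gloc_pullSec r hM, gloc_co]
  refine ⟨m, s, fun x => ?_⟩
  obtain ⟨j, hj⟩ := Opens.mem_iSup.1 ((Proj.iSup_basicOpen_eq_top 𝒜
      (fun k : Fin (m + 1) => (MvPolynomial.X k : MvPolynomial (Fin (m + 1)) R))
      (Groth.Chow.ToPn.irrelevant_le_span_X)).ge (Opens.mem_top (r x)))
  refine ⟨j, (hs j).ge hj, ?_⟩
  have hpair : IsImmersion (pair r q) := by
    have e : i ≫ pair (Groth.Chow.PEmb.prZ m Y) (CohB1.ProjSpaceOver.toBase m Y) = pair r q := by
      refine pullback.hom_ext ?_ ?_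
      · exact (Category.assoc _ _ _).trans ((congrArg (i ≫ ·) (pullback.lift_fst _ _ _)).trans
          (pullback.lift_fst _ _ _).symm)
      · exact (Category.assoc _ _ _).trans ((congrArg (i ≫ ·) (pullback.lift_snd _ _ _)).trans
          (hq.trans (pullback.lift_snd _ _ _).symm))
    rw [← e]
    have := hi
    have h' : IsImmersion (pair (Groth.Chow.PEmb.prZ m Y) (CohB1.ProjSpaceOver.toBase m Y)) :=
      isImmersion_pair_of_isPullback (IsPullback.of_hasPullback
        (CohB1.ProjSpace.toSpec m (ULift.{u} ℤ)) (specULiftZIsTerminal.from Y))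
    exact IsImmersion.comp i (pair (Groth.Chow.PEmb.prZ m Y) (CohB1.ProjSpaceOver.toBase m Y))
  let G := gloc (s j)
  have hG : G ≤ r ⁻¹ᵁ D j := (hs j).le
  refine imm_pair r q (imm_of_isAffineOpen (Proj.isAffineOpen_basicOpen 𝒜 _ (Groth.Chow.ToPn.X_mem j) one_pos))
    (imm_of_isAffineOpen (isAffineOpen_top Y)) hG le_top (fun F _ => ?_)
    fun x _ => Subring.subset_closure (Or.inl ⟨x, rfl⟩)
  let φ : HomogeneousLocalization.Away 𝒜 (MvPolynomial.X j) →+* Γ(X, G) :=
    (r.appLE (D j) G hG).hom.comp (Proj.awayToSection 𝒜 (MvPolynomial.X j)).hom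
  obtain ⟨w, rfl⟩ := (ConcreteCategory.bijective_of_isIso
    (Proj.basicOpenIsoAway 𝒜 (MvPolynomial.X j) (Groth.Chow.ToPn.X_mem j) one_pos).hom).2 F
  change φ w ∈ ratioRing q s j
  let b : Fin (m + 1) → HomogeneousLocalization.Away 𝒜 (MvPolynomial.X j) := fun l =>
    HomogeneousLocalization.Away.mk 𝒜 (Groth.Chow.ToPn.X_mem j) 1 (MvPolynomial.X l)
      (by rw [one_smul]; exact Groth.Chow.ToPn.X_mem l)
  have hb : ∀ l, φ (b l) ∈ ratioRing q s j := by
    intro l
    refine Subring.subset_closure (Or.inr ⟨l, ?_⟩)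
    have h1 : ∀ k, res L (le_top : G ≤ ⊤) (s k) =
        ψ.hom.app G (res _ hG (pullSec r M (res M (le_top : D j ≤ ⊤) (Groth.Chow.ToPn.co m R k)))) := fun k => by
      rw [← res_pullSec, PicAux.res_res, PicAux.app_res]
      rfl
    rw [h1, h1, (Groth.Chow.ToPn.res_coord j l).2, pullSec_smul, PicAux.res_smul,
      Scheme.Modules.Hom.app_smul]
    congr 1
  let f : R →+* HomogeneousLocalization.Away 𝒜 (MvPolynomial.X j) :=
    (Int.castRingHom _).comp ULift.ringEquiv.toRingHom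
  obtain ⟨d, a, ha, rfl⟩ := HomogeneousLocalization.Away.mk_surjective 𝒜 (Groth.Chow.ToPn.X_mem j) w
  have key : HomogeneousLocalization.Away.mk 𝒜 (Groth.Chow.ToPn.X_mem j) d a ha = MvPolynomial.eval₂ f b a := by
    refine HomogeneousLocalization.val_injective _ ?_
    let ι := algebraMap (HomogeneousLocalization.Away 𝒜 (MvPolynomial.X j))
      (Localization.Away (MvPolynomial.X j : MvPolynomial (Fin (m + 1)) R))
    let A := algebraMap (MvPolynomial (Fin (m + 1)) R)
      (Localization.Away (MvPolynomial.X j : MvPolynomial (Fin (m + 1)) R))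
    let v : Localization.Away (MvPolynomial.X j : MvPolynomial (Fin (m + 1)) R) :=
      Localization.mk 1 ⟨MvPolynomial.X j, ⟨1, pow_one _⟩⟩
    have hι : ∀ z, ι z = z.val := fun z => HomogeneousLocalization.algebraMap_apply z
    have hbv : ∀ l, ι (b l) = v * A (MvPolynomial.X l) := fun l => by
      rw [hι, HomogeneousLocalization.Away.val_mk]
      change _ = v * algebraMap _ _ _
      rw [← Localization.mk_one_eq_algebraMap, Localization.mk_mul]
      exact congrArg₂ Localization.mk (one_mul _).symm (Subtype.ext (by simp))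
    rw [← hι, ← hι, MvPolynomial.eval₂_comp_left, show ι ∘ b = fun l => v * A (MvPolynomial.X l) from funext hbv,
      Groth.Chow.ToPn.eval₂_scale _ _ v (d := d) (by rwa [smul_eq_mul, mul_one] at ha), hι, HomogeneousLocalization.Away.val_mk]
    have e1 : MvPolynomial.eval₂ (ι.comp f) (fun l => A (MvPolynomial.X l)) a = A a := by
      have : A = MvPolynomial.eval₂Hom (ι.comp f) (fun l => A (MvPolynomial.X l)) :=
        MvPolynomial.ringHom_ext (fun c => by
          obtain ⟨c⟩ := c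
          have hc : (⟨c⟩ : R) = (c : R) := by ext; rfl
          rw [MvPolynomial.eval₂Hom_C, RingHom.comp_apply, show f ⟨c⟩ = (c : _) from rfl, map_intCast, hc,
            map_intCast, map_intCast]) (fun l => by simp)
      exact (congr($this a)).symm
    rw [e1]
    change _ = v ^ d * algebraMap _ _ a
    rw [← Localization.mk_one_eq_algebraMap, Localization.mk_pow, Localization.mk_mul]
    exact congrArg₂ Localization.mk (by rw [one_pow, one_mul]) (Subtype.ext (by simp))
  rw [key, MvPolynomial.eval₂_comp_left]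
  suffices hall : ∀ p, MvPolynomial.eval₂ (φ.comp f) (φ ∘ b) p ∈ ratioRing q s j from hall a
  intro p
  induction p using MvPolynomial.induction_on with
  | C c =>
    obtain ⟨c⟩ := c
    rw [MvPolynomial.eval₂_C, RingHom.comp_apply, show f ⟨c⟩ = (c : _) from rfl, map_intCast]
    exact intCast_mem _ _
  | add p p' hp hp' => rw [MvPolynomial.eval₂_add]; exact add_mem hp hp'
  | mul_X p l hp =>
    rw [MvPolynomial.eval₂_mul, MvPolynomial.eval₂_X]
    exact mul_mem hp (hb l)

/-- Data give an immersion into projective space. -/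
theorem isRelVeryAmplePn_of_hasPnData [IsAffine Y] {L : X.Modules} (h : HasPnData q L) :
    RelAmple.IsRelVeryAmplePn q L := by
  obtain ⟨m, s, hdat⟩ := h
  choose idx hidx hI using hdat
  have hcov : ∀ x, ∃ j, x ∈ gloc (s j) := fun x => ⟨idx x, hidx x⟩
  let q₀ : X ⟶ Spec (CommRingCat.of (ULift.{u} ℤ)) := specULiftZIsTerminal.from X
  have hUeq : ∀ j, Groth.Chow.ToPn.U L s j = gloc (s j) := fun _ => rfl
  have hU : ⨆ j, Groth.Chow.ToPn.U L s j = ⊤ := top_le_iff.mp fun x _ => by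
    obtain ⟨j, hj⟩ := hcov x
    exact Opens.mem_iSup.mpr ⟨j, hj⟩
  obtain ⟨r, hr⟩ := Groth.Chow.ToPn.exists_r q₀ L s hU
  obtain ⟨τ, -⟩ := Groth.Chow.ToPn.exists_tau hr hU
  let i : X ⟶ CohB1.ProjSpaceOver m Y := pullback.lift r q (specULiftZIsTerminal.hom_ext _ _)
  have hi1 : i ≫ Groth.Chow.PEmb.prZ m Y = r := pullback.lift_fst _ _ _
  have hi2 : i ≫ CohB1.ProjSpaceOver.toBase m Y = q := pullback.lift_snd _ _ _
  refine ⟨m, i, ?_, hi2, ⟨τ.symm ≪≫ ((Scheme.Modules.pullbackComp i (Groth.Chow.PEmb.prZ m Y)).app _ ≪≫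
    (Scheme.Modules.pullbackCongr hi1).app _).symm⟩⟩
  let V : Fin (m + 1) → (CohB1.ProjSpaceOver m Y).Opens := fun j =>
    Groth.Chow.PEmb.prZ m Y ⁻¹ᵁ Proj.basicOpen (CohB1.polyGrading m (ULift.{u} ℤ)) (MvPolynomial.X j) ⊓
      CohB1.ProjSpaceOver.toBase m Y ⁻¹ᵁ ⊤
  have hpre : ∀ j, i ⁻¹ᵁ V j = gloc (s j) := fun j => by
    rw [Scheme.Hom.preimage_inf, ← Scheme.Hom.comp_preimage, ← Scheme.Hom.comp_preimage, hi1, hi2]
    exact (congrArg (· ⊓ q ⁻¹ᵁ ⊤) (Groth.Chow.ToPn.preimage_D hr hU j)).trans (inf_eq_left.2 le_top)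
  have hV : ∀ x, IsImmersion (i ∣_ V (idx x)) := fun x => by
    generalize hj : idx x = j
    have hIj : Imm (gloc (s j)) (ratioRing q s j) := hj ▸ hI x
    have hVa : IsAffineOpen (V j) := Groth.Chow.isAffineOpen_prZ_inf m j (isAffineOpen_top Y)
    have : IsAffine (V j : Scheme.{u}) := hVa
    obtain ⟨K, hK, k, hk, hkT⟩ := hIj
    let G := gloc (s j)
    have hle : G ≤ i ⁻¹ᵁ V j := (hpre j).ge
    let rl := i.resLE (V j) G hle
    have hrange : ratioRing q s j ≤ (i.appLE (V j) G hle).hom.range := by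
      refine Subring.closure_le.2 ?_
      rintro g (⟨b, rfl⟩ | ⟨l, hl⟩)
      · refine ⟨(CohB1.ProjSpaceOver.toBase m Y).appLE ⊤ (V j) inf_le_right b, ?_⟩
        rw [← CommRingCat.comp_apply, Scheme.Hom.appLE_comp_appLE]
        have e : ∀ (f f' : X ⟶ Y) (_ : f = f') h h', f.appLE ⊤ G h b = f'.appLE ⊤ G h' b := by
          rintro f _ rfl h h'; rfl
        exact e _ _ hi2 _ _
      · have hg : g = Groth.Chow.ToPn.c L s j l := by
          refine (Groth.Chow.ToPn.gen_U L s j).smul_inj le_rfl ?_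
          rw [PicAux.res_self]
          exact hl.symm.trans (Groth.Chow.ToPn.c_spec L s j l)
        let D : (CohB1.ProjSpace m (ULift.{u} ℤ)).Opens := Proj.basicOpen (CohB1.polyGrading m (ULift.{u} ℤ)) (MvPolynomial.X j)
        refine ⟨(Groth.Chow.PEmb.prZ m Y).appLE D (V j) inf_le_left (Proj.awayToSection _ _
          (HomogeneousLocalization.Away.mk (CohB1.polyGrading m (ULift.{u} ℤ)) (Groth.Chow.ToPn.X_mem j) 1
            (MvPolynomial.X l) (by rw [one_smul]; exact Groth.Chow.ToPn.X_mem l))), ?_⟩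
        rw [← CommRingCat.comp_apply, Scheme.Hom.appLE_comp_appLE]
        have e : ∀ (f f' : X ⟶ CohB1.ProjSpace m (ULift.{u} ℤ)) (_ : f = f') h h' b,
            f.appLE D G h b = f'.appLE D G h' b := by
          rintro f _ rfl h h' b; rfl
        refine (e _ _ hi1 _ ((Groth.Chow.ToPn.preimage_D hr hU j).ge) _).trans ?_
        refine (Groth.Chow.ToPn.appLE_awayToSection hr j ((Groth.Chow.ToPn.preimage_D hr hU j).ge) _).trans ?_
        rw [hg, Groth.Chow.ToPn.α, Groth.Chow.ToPn.chart_mk, MvPolynomial.eval₂_X]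
    have h1 : IsImmersion rl := by
      refine @isImmersion_of_range _ _ _ ‹_› hK rl k hk fun a => ?_
      obtain ⟨F, hF⟩ := hrange (hkT a)
      refine ⟨(V j).topIso.inv.hom F, ?_⟩
      refine (ConcreteCategory.bijective_of_isIso G.topIso.hom).1 ?_
      refine Eq.trans ?_ hF
      refine (kf_resLE i hle (𝟙 (V j : Scheme.{u})) ((V j).topIso.inv.hom F)).trans ?_
      exact congrArg (i.appLE (V j) G hle).hom (congr(($((V j).topIso.inv_hom_id)).hom F))
    have e1 : i ∣_ V j = X.homOfLE (hpre j).le ≫ rl := by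
      rw [← cancel_mono (V j).ι, morphismRestrict_ι, Category.assoc, Scheme.Hom.resLE_comp_ι,
        Scheme.homOfLE_ι_assoc]
    rw [e1]
    infer_instance
  let W : (CohB1.ProjSpaceOver m Y).Opens := ⨆ x, V (idx x)
  have hW : i ⁻¹ᵁ W = ⊤ := eq_top_iff.2 fun x _ => by
    exact Opens.mem_iSup.2 ⟨x, (hpre (idx x)).ge (hidx x)⟩
  have h2 : IsImmersion (i ∣_ W) := by
    refine IsZariskiLocalAtTarget.of_iSup_eq_top (P := @IsImmersion) (fun x => W.ι ⁻¹ᵁ V (idx x))
      (eq_top_iff.2 fun w _ => ?_) fun j => ?_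
    · obtain ⟨j, hj⟩ := Opens.mem_iSup.1 w.2
      exact Opens.mem_iSup.2 ⟨j, hj⟩
    · rw [MorphismProperty.arrow_mk_iso_iff (P := @IsImmersion) (morphismRestrictRestrict i W _),
        MorphismProperty.arrow_mk_iso_iff (P := @IsImmersion) (morphismRestrictEq i
          (show W.ι ''ᵁ W.ι ⁻¹ᵁ V (idx j) = V (idx j) by
            rw [Scheme.Hom.image_preimage_eq_opensRange_inf, Scheme.Opens.opensRange_ι, inf_eq_right]
            exact le_iSup (fun x => V (idx x)) j))]
      exact hV j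
  have h3 : IsImmersion ((i ⁻¹ᵁ W).ι ≫ i) := morphismRestrict_ι i W ▸ inferInstance
  have : IsIso (i ⁻¹ᵁ W).ι := by
    rw [hW]
    exact (Scheme.topIso X).isIso_hom
  have h4 : IsImmersion (inv (i ⁻¹ᵁ W).ι ≫ (i ⁻¹ᵁ W).ι ≫ i) := inferInstance
  simpa using h4

/-- Data give very ampleness. -/
theorem isRelVeryAmple_of_hasPnData [IsAffine Y] [QuasiCompact q] [QuasiSeparated q] {L : X.Modules}
    (hL : PicF.IsInvertible L) (h : HasPnData q L) : RelProj.IsRelVeryAmple q L := by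
  obtain ⟨m, s, hdat⟩ := h
  refine isRelVeryAmple_canon q hL fun z => ?_
  obtain ⟨j, hj, hI⟩ := hdat z
  refine ⟨s j, hj, hI.mono (Subring.closure_mono (Set.union_subset_union le_rfl ?_))⟩
  rintro g ⟨l, hl⟩
  exact ⟨s l, hl⟩

/-- Tensoring with finitely generated modules. -/
theorem hasPnData_tensor {L L' : X.Modules} (hL : PicF.IsInvertible L) (hL' : PicF.IsInvertible L')
    (h : HasPnData q L) {κ : Type*} [Finite κ] (t : κ → Γ(L', ⊤)) (ht : ∀ x, ∃ l, x ∈ gloc (t l)) :
    HasPnData q (CohB1.tensorMod L L') := by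
  classical
  have := Fintype.ofFinite κ
  obtain ⟨m, s, hdat⟩ := h
  let ι' := Fin (m + 1) × κ
  let e := (Fintype.equivFinOfCardEq (α := Option ι') (n := Fintype.card ι' + 1) Fintype.card_option)
  let v : Fin (Fintype.card ι' + 1) → Γ(CohB1.tensorMod L L', ⊤) :=
    fun a => (e.symm a).elim 0 fun p => tmulSec (s p.1) (t p.2)
  have hv : ∀ p, v (e (some p)) = tmulSec (s p.1) (t p.2) := fun p => by
    change (e.symm (e (some p))).elim 0 (fun p => tmulSec (s p.1) (t p.2)) = _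
    rw [Equiv.symm_apply_apply]
    rfl
  refine ⟨_, v, fun x => ?_⟩
  obtain ⟨j, hj, hI⟩ := hdat x
  obtain ⟨l, hl⟩ := ht x
  refine ⟨e (some (j, l)), ?_, ?_⟩
  · rw [hv, gloc_tmulSec hL hL']
    exact ⟨hj, hl⟩
  have hle : gloc (v (e (some (j, l)))) ≤ gloc (s j) := by
    rw [hv, gloc_tmulSec hL hL']
    exact inf_le_left
  refine hI.restrict hle fun x hx => ?_
  refine (Subring.closure_le (t := (ratioRing q v (e (some (j, l)))).comap (resX X hle))).2 ?_ hx
  rintro _ (⟨b, rfl⟩ | hg)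
  · exact Subring.subset_closure (Or.inl ⟨b, (resX_rAp q le_top hle b).symm⟩)
  · rename_i g
    obtain ⟨l', hl'⟩ := hg
    refine Subring.subset_closure (Or.inr ⟨e (some (l', l)), ?_⟩)
    have h1 := congrArg (res L hle) hl'
    rw [PicAux.res_res, PicAux.res_smul, PicAux.res_res] at h1
    have key : ∀ {T T' : Γ(CohB1.tensorMod L L', ⊤)}, T = tmulSec (s l') (t l) → T' = tmulSec (s j) (t l) →
        ∀ {G : X.Opens} (r : Γ(X, G)), res L (le_top : G ≤ ⊤) (s l') = r • res L (le_top : G ≤ ⊤) (s j) →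
        res _ (le_top : G ≤ ⊤) T = r • res _ (le_top : G ≤ ⊤) T' := by
      rintro T T' rfl rfl G r hr
      rw [res_tmulSec, res_tmulSec, hr, tmulSec_smul_left]
    exact key (hv (l', l)) (hv (j, l)) _ h1

theorem isCompact_gloc [CompactSpace X] [QuasiSeparatedSpace X] {L : X.Modules} (hL : PicF.IsInvertible L)
    (t : Γ(L, ⊤)) : IsCompact (gloc t : Set X) := by
  classical
  obtain ⟨W, e, hW, hx, he, -⟩ := Groth.PropsBasic.Ample.exists_gen_cover hL
  obtain ⟨s, hs⟩ := isCompact_univ.elim_finite_subcover (fun x => (W x : Set X)) (fun x => (W x).isOpen)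
    (fun x _ => Set.mem_iUnion.2 ⟨x, hx x⟩)
  have e2 : (gloc t : Set X) = ⋃ x ∈ s, ((gloc t ⊓ W x : X.Opens) : Set X) := by
    refine Set.Subset.antisymm (fun w hw => ?_) (Set.iUnion₂_subset fun x _ w hw => hw.1)
    obtain ⟨x, hxs, hwx⟩ := Set.mem_iUnion₂.1 (hs (Set.mem_univ w))
    exact Set.mem_iUnion₂.2 ⟨x, hxs, hw, hwx⟩
  rw [e2]
  refine s.finite_toSet.isCompact_biUnion fun x _ => ?_
  obtain ⟨c, hc⟩ := (he x).exists_coeff le_rfl (res L (le_top : W x ≤ ⊤) t)
  rw [PicAux.res_self] at hc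
  rw [gloc_inf_eq_basicOpen (he x) hc]
  exact ((hW x).basicOpen c).isCompact

/-- Very ample modules of finite type have data. -/
theorem hasPnData_of_isRelVeryAmple [IsAffine Y] [QuasiCompact q] [LocallyOfFiniteType q] {L : X.Modules}
    (hL : PicF.IsInvertible L) (h : RelProj.IsRelVeryAmple q L) : HasPnData q L := by
  classical
  have : IsSeparated q := isSeparated_of_isRelVeryAmple h
  haveI : CompactSpace X := QuasiCompact.compactSpace_of_compactSpace q
  haveI : X.IsSeparated := ⟨by rw [← Limits.terminal.comp_from q]; infer_instance⟩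
  obtain ⟨E, hE, σ, hσ⟩ := exists_isEmb h
  have hpt : ∀ z : X, ∃ e : Γ(E, ⊤), z ∈ σ.genLoc ⊤ e := fun z =>
    exists_genLoc_of_hepi (IsEmb.hepi σ hσ) ⊤ (isAffineOpen_top Y) trivial
  choose e he using hpt
  let tt : Γ(E, ⊤) → Γ(L, ⊤) := fun x => σ.app ⊤ x
  have hgl : ∀ x, σ.genLoc ⊤ x = gloc (tt x) := fun x =>
    le_antisymm (le_gloc (σ.gen_genLoc ⊤ x)) (σ.le_genLoc le_top (gen_gloc _ le_rfl))
  have hR : ∀ x : Γ(E, ⊤), ∃ R : Finset Γ(E, ⊤),
      Imm (σ.genLoc ⊤ x) (Subring.closure (Set.range (q.appLE ⊤ (σ.genLoc ⊤ x) le_top).hom ∪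
        (σ.ratio ⊤ x '' (R : Set Γ(E, ⊤))))) := by
    intro x
    obtain ⟨R, hRs, hRI⟩ := exists_finite_imm q (isAffineOpen_top Y) (σ.genLoc_le ⊤ x)
      (hgl x ▸ isCompact_gloc hL (tt x)) (Set.range (σ.ratio ⊤ x)) (hσ.imm ⊤ (isAffineOpen_top Y) x)
    choose e' he' using fun r : R => hRs r.2
    refine ⟨Finset.univ.image e', hRI.mono (Subring.closure_mono (Set.union_subset_union le_rfl fun r hr => ?_))⟩
    exact ⟨e' ⟨r, hr⟩, Finset.mem_image.2 ⟨_, Finset.mem_univ _, rfl⟩, he' ⟨r, hr⟩⟩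
  choose R hR using hR
  obtain ⟨c, hc⟩ := isCompact_univ.elim_finite_subcover (fun z => (σ.genLoc ⊤ (e z) : Set X))
    (fun z => (σ.genLoc ⊤ (e z)).isOpen) (fun z _ => Set.mem_iUnion.2 ⟨z, he z⟩)
  let A : Finset Γ(E, ⊤) := c.image e ∪ c.biUnion fun z => R (e z)
  let n := Fintype.card A
  let eq := Fintype.equivFinOfCardEq (α := Option A) (n := n + 1) Fintype.card_option
  let v : Fin (n + 1) → Γ(L, ⊤) := fun a => (eq.symm a).elim 0 fun x => tt x.1
  have hv : ∀ x : A, v (eq (some x)) = tt x.1 := fun x => by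
    change (eq.symm (eq (some x))).elim 0 (fun x => tt x.1) = _
    rw [Equiv.symm_apply_apply]
    rfl
  refine ⟨n, v, fun z => ?_⟩
  obtain ⟨y, hy, hzy⟩ := Set.mem_iUnion₂.1 (hc (Set.mem_univ z))
  let a : A := ⟨e y, Finset.mem_union_left _ (Finset.mem_image_of_mem e hy)⟩
  have hga : gloc (v (eq (some a))) = σ.genLoc ⊤ (e y) := by rw [hv, hgl]
  refine ⟨eq (some a), hga.ge hzy, ?_⟩
  refine (hR (e y)).restrict hga.le fun x hx => ?_
  refine (Subring.closure_le (t := (ratioRing q v (eq (some a))).comap (resX X hga.le))).2 ?_ hx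
  rintro _ (⟨b, rfl⟩ | ⟨e', he', rfl⟩)
  · exact Subring.subset_closure (Or.inl ⟨b, (resX_rAp q le_top hga.le b).symm⟩)
  · refine Subring.subset_closure (Or.inr ⟨eq (some ⟨e', Finset.mem_union_right _
      (Finset.mem_biUnion.2 ⟨y, hy, he'⟩)⟩), ?_⟩)
    have h1 := congrArg (res L hga.le) (σ.ratio_smul ⊤ (e y) e')
    rw [PicAux.res_smul, PicAux.res_res, PicAux.res_res] at h1
    have key : ∀ {T T' : Γ(L, ⊤)}, T = tt e' → T' = tt (e y) →
        ∀ {G : X.Opens} (r : Γ(X, G)), r • res L (le_top : G ≤ ⊤) (tt (e y)) = res L (le_top : G ≤ ⊤) (tt e') →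
        res L (le_top : G ≤ ⊤) T = r • res L (le_top : G ≤ ⊤) T' := by
      rintro T T' rfl rfl G r hr
      exact hr.symm
    exact key (hv _) (hv a) _ h1

end Groth.RelVA
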