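import Groth.Agent.RelTwist.ProjUnivD
import Groth.Agent.RelTwist.Exist
import Groth.Agent.Ega2Proj2.RelProjBasic

/-!
# Projective bundles with all their data
-/

universe u

open CategoryTheory CategoryTheory.Limits AlgebraicGeometry Opposite TopologicalSpace
open scoped HomogeneousIdeal

set_option backward.isDefEq.respectTransparency.types false

noncomputable section

namespace Groth.RelVA

open Groth.PicAux Groth.RelTw

variable {S : Scheme.{u}}

/-- A projective bundle of `E` with its tautological data. -/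
structure Bdl (E : S.Modules) : Type (u + 1) where
  /-- the algebra -/
  alg : RelProj.QCGrAlg S
  /-- its degree one part -/
  j : E ⟶ alg.toModule
  hj : RelProj.IsGrSymAlg E alg j
  /-- the bundle -/
  P : Scheme.{u}
  /-- its projection -/
  p : P ⟶ S
  /-- its charts -/
  chart : ∀ (U : S.Opens) (hU : IsAffineOpen U), (((p ⁻¹ᵁ U : P.Opens) : Scheme.{u}) ≅ Proj (alg.deg U hU))
  hP : RelProj.IsRelProj alg p chart
  /-- the fundamental sheaf -/
  O1 : P.Modules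
  /-- its chart identifications -/
  lam : ∀ (U : S.Opens) (hU : IsAffineOpen U),
    O1 ⟶ (Scheme.Modules.pushforward (RelProj.emb p chart U hU)).obj (GrTwist.twist (alg.deg U hU) 1)
  hO1 : RelProj.IsRelTwist alg p chart 1 O1 lam
  /-- the canonical map -/
  φ : E ⟶ (Scheme.Modules.pushforward p).obj O1
  hφ : ∀ (U : S.Opens) (hU : IsAffineOpen U) (e : Γ(E, U))
    (y : ↥(RelProj.emb p chart U hU ⁻¹ᵁ (p ⁻¹ᵁ U))),
    GrTwist.val (V := RelProj.emb p chart U hU ⁻¹ᵁ (p ⁻¹ᵁ U))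
        ((lam U hU).app (p ⁻¹ᵁ U) ((φ.app U) e)) y =
      algebraMap (alg.presheaf.obj (op U)) (GrTwist.Loc (alg.deg U hU) y.1)
        ((j.app U) e : alg.presheaf.obj (op U))

theorem exists_bdl (E : S.Modules) [E.IsQuasicoherent] : Nonempty (Bdl E) := by
  obtain ⟨P, p, chart, hP⟩ := Groth.Ega2P2.exists_isRelProj (Groth.SymAlg.symGr E)
  have hj := Groth.SymAlg.isGrSymAlg_symGr E
  have hO1 := Groth.RelTw.isRelTwist_relTwist hP 1
  obtain ⟨φ, hφ⟩ := Groth.RelTw.exists_phi hj hP hO1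
  exact ⟨⟨_, _, hj, P, p, chart, hP, _, _, hO1, φ, hφ⟩⟩

variable {E : S.Modules} (B : Bdl E) {X : Scheme.{u}} {g : X ⟶ S} {L : X.Modules}

/-- The piece `D₊(e)`. -/
abbrev Bdl.D (U : S.Opens) (hU : IsAffineOpen U) (e : Γ(E, U)) : B.P.Opens :=
  dPlus B.p B.chart B.j U hU e

/-- `r` is the morphism of the data, and `L` is the inverse image of the fundamental sheaf. -/
def Bdl.Corr (σ : LinData g E L) (r : X ⟶ B.P) : Prop :=
  ∃ (hc : r ≫ B.p = g) (τ : (Scheme.Modules.pullback r).obj B.O1 ≅ L),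
    ∀ (U : S.Opens) (e : Γ(E, U)),
      τ.hom.app (r ⁻¹ᵁ (B.p ⁻¹ᵁ U)) (pullSec r B.O1 (phiSec B.φ U e)) =
        res L (pre_le_of_comp r hc U).le (σ.app U e)

theorem Bdl.Corr.comp {σ : LinData g E L} {r : X ⟶ B.P} (h : B.Corr σ r) : r ≫ B.p = g := h.1

variable [E.IsQuasicoherent]

theorem Bdl.Corr.fits {σ : LinData g E L} {r : X ⟶ B.P} (h : B.Corr σ r) : Fits σ B.hj B.chart r := by
  obtain ⟨rfl, τ, hτ⟩ := h
  have hres : ∀ {V : B.P.Opens} {U : S.Opens} (hV : V ≤ B.p ⁻¹ᵁ U) (e : Γ(E, U))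
      (h : r ⁻¹ᵁ V ≤ (r ≫ B.p) ⁻¹ᵁ U),
      res L h (σ.app U e) = τ.hom.app (r ⁻¹ᵁ V) (pullSec r B.O1 (res B.O1 hV (phiSec B.φ U e))) := by
    intro V U hV e h
    rw [← res_pullSec r B.O1 hV, PicAux.app_res, hτ, PicAux.res_res]
  refine fits_of_gen_rel σ B.hj B.hP B.hO1 B.hφ rfl (fun U hU e h => ?_)
    fun U hU e U' hU' e' V hV hV' R hR W hW h h' => ?_
  · rw [hres (dPlus_le U hU e) e h]
    exact (((gen_app B.hj B.hO1 B.hφ U hU e).pull r).map τ.hom)
  · have h1 := congrArg (res L hW) ((hres hV' e' (r.preimage_mono hV')).trans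
      (congrArg (fun v => τ.hom.app (r ⁻¹ᵁ V) (pullSec r B.O1 v)) hR))
    rw [pullSec_smul, Scheme.Modules.Hom.app_smul, PicAux.res_smul,
      ← hres (hV.trans (dPlus_le U hU e)) e (r.preimage_mono (hV.trans (dPlus_le U hU e))),
      PicAux.res_res, PicAux.res_res] at h1
    exact h1

theorem Bdl.corr_of_fits {σ : LinData g E L} {r : X ⟶ B.P} (h : Fits σ B.hj B.chart r) : B.Corr σ r := by
  obtain rfl := h.comp
  obtain ⟨θ, hθ⟩ := exists_hom_pushforward B.hj B.hO1 B.hφ σ h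
  set τ₀ := ((Scheme.Modules.pullbackPushforwardAdjunction r).homEquiv B.O1 L).symm θ
  let D : (Σ' (U : S.affineOpens), Γ(E, U.1)) → B.P.Opens := fun i => B.D i.1.1 i.1.2 i.2
  have : IsIso τ₀ := by
    refine isIso_of_cover (U := fun i => r ⁻¹ᵁ D i) (eq_top_iff.2 fun z _ => ?_) τ₀ fun i V hV => ?_
    · obtain ⟨U, hU, hzU, -⟩ :=
        exists_isAffineOpen_mem_and_subset (x := B.p (r z)) (U := (⊤ : S.Opens)) trivial
      obtain ⟨e, he⟩ := exists_mem_dPlus (chart := B.chart) B.hj U hU hzU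
      exact Opens.mem_iSup.2 ⟨⟨⟨U, hU⟩, e⟩, he⟩
    · refine bijective_of_gen_map τ₀ ((gen_app B.hj B.hO1 B.hφ i.1.1 i.1.2 i.2).pull r) ?_ hV
      rw [symm_app_pullSec, PicAux.app_res, hθ]
      exact (Fits.genPre B.hj h) i.1.1 i.1.2 i.2 _
  refine ⟨rfl, asIso τ₀, fun U e => ?_⟩
  change τ₀.app _ _ = _
  rw [symm_app_pullSec, hθ]
  exact (PicAux.res_self _ _).symm

theorem Bdl.exists_corr (σ : LinData g E L)
    (hepi : ∀ z : X, ∃ (U : S.Opens) (_ : IsAffineOpen U) (e : Γ(E, U)), z ∈ σ.genLoc U e) :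
    ∃ r : X ⟶ B.P, B.Corr σ r := by
  obtain ⟨r, hr⟩ := exists_fits σ B.hj B.hP B.hO1 B.hφ hepi
  exact ⟨r, B.corr_of_fits hr⟩

omit [E.IsQuasicoherent] in
theorem Bdl.exists_data (r : X ⟶ B.P) (hc : r ≫ B.p = g) (τ : (Scheme.Modules.pullback r).obj B.O1 ≅ L) :
    ∃ σ : LinData g E L, B.Corr σ r := by
  subst hc
  refine ⟨{ app := fun U => AddMonoidHom.mk'
              (fun e => (τ.hom.app (r ⁻¹ᵁ (B.p ⁻¹ᵁ U)) (pullSec r B.O1 (phiSec B.φ U e)) : Γ(L, (r ≫ B.p) ⁻¹ᵁ U)))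
              fun a b => ?_
            app_smul := fun U a e => ?_
            app_res := fun U V h e => ?_ }, rfl, τ, fun U e => (PicAux.res_self _ _).symm⟩
  · change _ = _ + _
    rw [show phiSec B.φ U (a + b) = phiSec B.φ U a + phiSec B.φ U b from map_add _ a b,
      show pullSec r B.O1 (phiSec B.φ U a + phiSec B.φ U b) =
        pullSec r B.O1 (phiSec B.φ U a) + pullSec r B.O1 (phiSec B.φ U b) from map_add _ _ _, map_add]
    rfl
  · change τ.hom.app _ (pullSec r B.O1 (phiSec B.φ U (a • e))) = _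
    rw [show phiSec B.φ U (a • e) = B.p.app U a • phiSec B.φ U e from B.φ.app_smul a e,
      pullSec_smul, Scheme.Modules.Hom.app_smul]
    rfl
  · change res L _ (τ.hom.app _ (pullSec r B.O1 (phiSec B.φ U e))) =
      τ.hom.app (r ⁻¹ᵁ (B.p ⁻¹ᵁ V)) (pullSec r B.O1 (phiSec B.φ V (res E h e)))
    rw [show phiSec B.φ V (res E h e) = res B.O1 (B.p.preimage_mono h) (phiSec B.φ U e) from
        PicAux.app_res B.φ h e, ← res_pullSec r B.O1 (B.p.preimage_mono h)]
    exact (PicAux.app_res τ.hom (r.preimage_mono (B.p.preimage_mono h)) _).symm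

end Groth.RelVA
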