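import Groth.Agent.RelVA.Imm
import Groth.Agent.RelVA.Bundle

/-!
# Very ample modules through linear systems
-/

universe u

open CategoryTheory CategoryTheory.Limits AlgebraicGeometry Opposite TopologicalSpace
open scoped HomogeneousIdeal

set_option backward.isDefEq.respectTransparency.types false

noncomputable section

namespace Groth.RelVA

open Groth.PicAux Groth.RelTw

variable {S X : Scheme.{u}} {E : S.Modules} {g : X ⟶ S} {L : X.Modules} (σ : LinData g E L)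

/-- The functions made from the base and the ratios. -/
def rGen (U : S.Opens) (e : Γ(E, U)) : Subring Γ(X, σ.genLoc U e) :=
  Subring.closure (Set.range (g.appLE U (σ.genLoc U e) (σ.genLoc_le U e)).hom ∪ Set.range (σ.ratio U e))

theorem base_mem_rGen (U : S.Opens) (e : Γ(E, U)) (a : Γ(S, U)) :
    (g.appLE U (σ.genLoc U e) (σ.genLoc_le U e)).hom a ∈ rGen σ U e :=
  Subring.subset_closure (Or.inl ⟨a, rfl⟩)

theorem ratio_mem_rGen (U : S.Opens) (e e' : Γ(E, U)) : σ.ratio U e e' ∈ rGen σ U e :=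
  Subring.subset_closure (Or.inr ⟨e', rfl⟩)

/-- The linear system embeds `X`. -/
def IsEmb : Prop :=
  ∀ z : X, ∃ (U : S.Opens) (_ : IsAffineOpen U) (e : Γ(E, U)),
    z ∈ σ.genLoc U e ∧ Imm (σ.genLoc U e) (rGen σ U e)

variable [E.IsQuasicoherent] {B : Bdl E} {r : X ⟶ B.P}

theorem rho_mem_rGen (U : S.Opens) (hU : IsAffineOpen U) (e : Γ(E, U)) (F : Γ(B.P, B.D U hU e)) :
    σ.rho B.hj B.p B.chart hU e F ∈ rGen σ U e := by
  obtain ⟨k, x, hx, rfl⟩ := exists_eq_coord B.hj U hU e F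
  rw [σ.rho_coord, σ.fracHom_jfrac]
  obtain ⟨q, rfl⟩ := (Groth.SymAlg.bijective_liftSec B.hj.1 hU).2 x
  rw [σ.algHom_liftSec]
  clear hx
  induction q using SymmetricAlgebra.induction with
  | algebraMap a =>
    rw [LinData.symHom, Groth.SymAlg.liftHom_algebraMap]
    exact base_mem_rGen σ U e a
  | ι e' =>
    rw [LinData.symHom, Groth.SymAlg.liftHom_ι]
    exact ratio_mem_rGen σ U e e'
  | mul a b ha hb => rw [map_mul]; exact mul_mem ha hb
  | add a b ha hb => rw [map_add]; exact add_mem ha hb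

variable {σ}

theorem rGen_le_range (h : Fits σ B.hj B.chart r) (U : S.Opens) (hU : IsAffineOpen U) (e : Γ(E, U)) :
    rGen σ U e ≤ (rAp r (h.pre U hU e).ge).range := by
  refine Subring.closure_le.2 ?_
  rintro _ (⟨a, rfl⟩ | ⟨e', rfl⟩)
  · exact ⟨_, rAp_base r h.comp (dPlus_le U hU e) (h.pre U hU e).ge a⟩
  · refine ⟨(coord B.hj B.chart U hU e).hom (jfrac B.hj U hU e 1 (B.hj.2 U hU e')), ?_⟩
    rw [rAp, h.fn U hU e (h.pre U hU e).ge, σ.rho_coord, σ.fracHom_jfrac, σ.algHom_j]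

theorem imm_of_immersion (h : Fits σ B.hj B.chart r) [IsImmersion r] (U : S.Opens) (hU : IsAffineOpen U)
    (e : Γ(E, U)) : Imm (σ.genLoc U e) (rGen σ U e) := by
  refine ⟨(B.D U hU e : Scheme.{u}), isAffineOpen_dPlus B.hj U hU e,
    r.resLE (B.D U hU e) (σ.genLoc U e) (h.pre U hU e).ge ≫ 𝟙 _, inferInstance, fun a => ?_⟩
  rw [kf_resLE, h.fn U hU e]
  exact rho_mem_rGen σ U hU e _

theorem exists_genLoc_of_fits (h : Fits σ B.hj B.chart r) (U : S.Opens) (hU : IsAffineOpen U) {z : X}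
    (hz : g z ∈ U) : ∃ e : Γ(E, U), z ∈ σ.genLoc U e := by
  have hz' : B.p (r z) ∈ U := (pre_le_of_comp r h.comp U).ge hz
  obtain ⟨e, he⟩ := exists_mem_dPlus (chart := B.chart) B.hj U hU hz'
  exact ⟨e, (h.pre U hU e).le he⟩

theorem isImmersion_of_isEmb (h : Fits σ B.hj B.chart r) (hσ : IsEmb σ) : IsImmersion r := by
  choose U hU e he hI using hσ
  let D : X → B.P.Opens := fun z => B.D (U z) (hU z) (e z)
  have hD : ∀ z, IsImmersion (r ∣_ D z) := by
    intro z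
    obtain ⟨K, hK, k, hk, hkT⟩ := hI z
    let G := σ.genLoc (U z) (e z)
    let rl := r.resLE (D z) G (h.pre (U z) (hU z) (e z)).ge
    have : IsAffine (D z : Scheme.{u}) := isAffineOpen_dPlus B.hj _ (hU z) (e z)
    have h1 : IsImmersion rl := by
      refine @isImmersion_of_range _ _ _ ‹_› hK rl k hk fun a => ?_
      obtain ⟨F, hF⟩ := rGen_le_range h _ (hU z) (e z) (hkT a)
      refine ⟨(D z).topIso.inv.hom F, ?_⟩
      refine (ConcreteCategory.bijective_of_isIso G.topIso.hom).1 ?_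
      refine Eq.trans ?_ hF
      refine (kf_resLE r (h.pre (U z) (hU z) (e z)).ge (𝟙 (D z : Scheme.{u})) ((D z).topIso.inv.hom F)).trans ?_
      exact congrArg (r.appLE (D z) G _).hom (congr(($((D z).topIso.inv_hom_id)).hom F))
    have e1 : r ∣_ D z = X.homOfLE (h.pre (U z) (hU z) (e z)).le ≫ rl := by
      rw [← cancel_mono (D z).ι, morphismRestrict_ι, Category.assoc, Scheme.Hom.resLE_comp_ι,
        Scheme.homOfLE_ι_assoc]
    rw [e1]
    infer_instance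
  let W : B.P.Opens := ⨆ z, D z
  have hW : r ⁻¹ᵁ W = ⊤ := eq_top_iff.2 fun z _ =>
    Opens.mem_iSup.2 ⟨z, (h.pre (U z) (hU z) (e z)).ge (he z)⟩
  have h2 : IsImmersion (r ∣_ W) := by
    refine IsZariskiLocalAtTarget.of_iSup_eq_top (P := @IsImmersion) (fun z => W.ι ⁻¹ᵁ D z)
      (eq_top_iff.2 fun w _ => ?_) fun z => ?_
    · obtain ⟨z, hz⟩ := Opens.mem_iSup.1 w.2
      exact Opens.mem_iSup.2 ⟨z, hz⟩
    · rw [MorphismProperty.arrow_mk_iso_iff (P := @IsImmersion) (morphismRestrictRestrict r W (W.ι ⁻¹ᵁ D z)),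
        MorphismProperty.arrow_mk_iso_iff (P := @IsImmersion) (morphismRestrictEq r (show W.ι ''ᵁ W.ι ⁻¹ᵁ D z = D z by
          rw [Scheme.Hom.image_preimage_eq_opensRange_inf, Scheme.Opens.opensRange_ι, inf_eq_right]
          exact le_iSup D z))]
      exact hD z
  have h3 : IsImmersion ((r ⁻¹ᵁ W).ι ≫ r) := morphismRestrict_ι r W ▸ inferInstance
  have : IsIso (r ⁻¹ᵁ W).ι := by
    rw [hW]
    exact (Scheme.topIso X).isIso_hom
  have h4 : IsImmersion (inv (r ⁻¹ᵁ W).ι ≫ (r ⁻¹ᵁ W).ι ≫ r) := inferInstance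
  simpa using h4

variable (σ) in
omit [E.IsQuasicoherent] in
theorem IsEmb.hepi (hσ : IsEmb σ) (z : X) :
    ∃ (U : S.Opens) (_ : IsAffineOpen U) (e : Γ(E, U)), z ∈ σ.genLoc U e := by
  obtain ⟨U, hU, e, he, -⟩ := hσ z
  exact ⟨U, hU, e, he⟩

theorem IsEmb.imm (hσ : IsEmb σ) (U : S.Opens) (hU : IsAffineOpen U) (e : Γ(E, U)) :
    Imm (σ.genLoc U e) (rGen σ U e) := by
  obtain ⟨B⟩ := exists_bdl E
  obtain ⟨r, hr⟩ := B.exists_corr σ (IsEmb.hepi σ hσ)
  have := isImmersion_of_isEmb hr.fits hσ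
  exact imm_of_immersion hr.fits U hU e

theorem exists_genLoc_of_hepi
    (hσ : ∀ z : X, ∃ (U : S.Opens) (_ : IsAffineOpen U) (e : Γ(E, U)), z ∈ σ.genLoc U e)
    (U : S.Opens) (hU : IsAffineOpen U) {z : X} (hz : g z ∈ U) : ∃ e : Γ(E, U), z ∈ σ.genLoc U e := by
  obtain ⟨B⟩ := exists_bdl E
  obtain ⟨r, hr⟩ := B.exists_corr σ hσ
  exact exists_genLoc_of_fits hr.fits U hU hz

theorem isRelVeryAmple_of_isEmb (hσ : IsEmb σ) : RelProj.IsRelVeryAmple g L := by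
  obtain ⟨B⟩ := exists_bdl E
  obtain ⟨r, hr⟩ := B.exists_corr σ (IsEmb.hepi σ hσ)
  have := isImmersion_of_isEmb hr.fits hσ
  obtain ⟨hc, τ, -⟩ := hr
  exact ⟨E, ‹_›, B.alg, B.j, B.hj, B.P, B.p, B.chart, B.hP, B.O1, B.lam, B.hO1, r, this, hc, ⟨τ.symm⟩⟩

omit [E.IsQuasicoherent] in
theorem exists_isEmb {g : X ⟶ S} {L : X.Modules} (h : RelProj.IsRelVeryAmple g L) :
    ∃ (E : S.Modules) (_ : E.IsQuasicoherent) (σ : LinData g E L), IsEmb σ := by
  obtain ⟨E, hE, 𝒮, j, hj, P, p, chart, hP, O1, lam, hO1, i, hi, hc, ⟨τ⟩⟩ := h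
  have : E.IsQuasicoherent := hE
  obtain ⟨φ, hφ⟩ := Groth.RelTw.exists_phi hj hP hO1
  let B : Bdl E := ⟨𝒮, j, hj, P, p, chart, hP, O1, lam, hO1, φ, hφ⟩
  obtain ⟨σ, hσ⟩ := B.exists_data i hc τ.symm
  refine ⟨E, this, σ, fun z => ?_⟩
  obtain ⟨U, hU, hzU, -⟩ := exists_isAffineOpen_mem_and_subset (x := g z) (U := (⊤ : S.Opens)) trivial
  obtain ⟨e, he⟩ := exists_genLoc_of_fits hσ.fits U hU hzU
  exact ⟨U, hU, e, he, imm_of_immersion (B := B) (r := i) hσ.fits U hU e⟩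

end Groth.RelVA
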