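import Groth.Agent.RelVA.Bundle
import Groth.Agent.Ega2Proj.RelAmple
import Groth.Agent.PropsBasic.AmpleBasis

/-!
# Very ample modules are ample
-/

universe u

open CategoryTheory CategoryTheory.Limits AlgebraicGeometry Opposite TopologicalSpace
open scoped HomogeneousIdeal

set_option backward.isDefEq.respectTransparency.types false

noncomputable section

namespace Groth.RelVA

open Groth.PicAux Groth.RelTw Groth.PropsBasic.Ample

variable {S : Scheme.{u}} {E : S.Modules} (B : Bdl E) (U : S.Opens) (hU : IsAffineOpen U)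

/-- The function `x / e^k` on `D₊(e)`. -/
abbrev Bdl.fn (e : Γ(E, U)) {k : ℕ} {x : B.alg.presheaf.obj (op U)} (hx : x ∈ B.alg.deg U hU k) :
    Γ(B.P, B.D U hU e) :=
  (coord B.hj B.chart U hU e).hom (jfrac B.hj U hU e k hx)

variable {U hU}

/-- The value of a function at a point of the chart. -/
def valAt {W : B.P.Opens} (y : ProjectiveSpectrum (B.alg.deg U hU))
    (hy : RelProj.emb B.p B.chart U hU y ∈ W) : Γ(B.P, W) →+* GrTwist.Loc (B.alg.deg U hU) y where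
  toFun G := (((RelProj.emb B.p B.chart U hU).app W G).1 ⟨y, hy⟩).val
  map_one' := by rw [map_one]; exact HomogeneousLocalization.val_one
  map_mul' := fun a b => by rw [map_mul]; exact HomogeneousLocalization.val_mul _ _
  map_zero' := by rw [map_zero]; exact HomogeneousLocalization.val_zero
  map_add' := fun a b => by rw [map_add]; exact HomogeneousLocalization.val_add _ _

theorem valAt_res {W W' : B.P.Opens} (hW : W' ≤ W) (y : ProjectiveSpectrum (B.alg.deg U hU))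
    (hy : RelProj.emb B.p B.chart U hU y ∈ W') (G : Γ(B.P, W)) :
    valAt B y hy (resX B.P hW G) = valAt B y (hW hy) G :=
  congrArg (fun H => (H.1 ⟨y, hy⟩).val)
    (congr(($((RelProj.emb B.p B.chart U hU).naturality (homOfLE hW).op)).hom G))

theorem valAt_fn (e : Γ(E, U)) {k : ℕ} {x : B.alg.presheaf.obj (op U)} (hx : x ∈ B.alg.deg U hU k)
    (y : ProjectiveSpectrum (B.alg.deg U hU)) (hy : RelProj.emb B.p B.chart U hU y ∈ B.D U hU e) :
    valAt B y hy (B.fn U hU e hx) =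
      (Localization.mk x ⟨jel B.alg B.j U e ^ k,
          fun h => (mem_image_iff (chart := B.chart) U hU _ y).1 hy (y.isPrime.mem_of_pow_mem _ h)⟩ :
        GrTwist.Loc (B.alg.deg U hU) y) :=
  val_coord B.hj U hU e k hx y hy

theorem ext_valAt {W : B.P.Opens} (hW : W ≤ B.p ⁻¹ᵁ U) {F F' : Γ(B.P, W)}
    (h : ∀ (y : ProjectiveSpectrum (B.alg.deg U hU)) (hy : RelProj.emb B.p B.chart U hU y ∈ W),
      valAt B y hy F = valAt B y hy F') : F = F' := by
  have := Scheme.Hom.isIso_app (RelProj.emb B.p B.chart U hU) W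
    (hW.trans (opensRange_emb (chart := B.chart) U hU).ge)
  exact (ConcreteCategory.bijective_of_isIso ((RelProj.emb B.p B.chart U hU).app W)).1
    (fun_ext (fun y hy => h y hy))

theorem fn_cross (e e' : Γ(E, U)) {k : ℕ} {x : B.alg.presheaf.obj (op U)} (hx : x ∈ B.alg.deg U hU k) :
    resX B.P (inf_le_left : B.D U hU e ⊓ B.D U hU e' ≤ _) (B.fn U hU e hx) =
      resX B.P inf_le_right (B.fn U hU e' hx) *
        resX B.P inf_le_left (B.fn U hU e (B.hj.2 U hU e')) ^ k := by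
  refine ext_valAt B (hU := hU) (inf_le_left.trans (dPlus_le U hU e)) fun y hy => ?_
  rw [map_mul, map_pow, valAt_res, valAt_res, valAt_res, valAt_fn, valAt_fn, valAt_fn,
    Localization.mk_pow, Localization.mk_mul]
  refine (loc_mk_eq).mpr ⟨1, ?_⟩
  simp only [one_smul, Submonoid.smul_def, smul_eq_mul, Submonoid.coe_mul, SubmonoidClass.coe_pow, pow_one]
  ring

variable {Z : Scheme.{u}} (h : Z ⟶ B.P) (hZ : (⊤ : Z.Opens) ≤ h ⁻¹ᵁ (B.p ⁻¹ᵁ U))

/-- The section of `e` on `Z`. -/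
abbrev secOf (e : Γ(E, U)) : Γ((Scheme.Modules.pullback h).obj B.O1, ⊤) :=
  res _ hZ (pullSec h B.O1 (phiSec B.φ U e))

theorem res_secOf (e : Γ(E, U)) {V : B.P.Opens} (hV : V ≤ B.p ⁻¹ᵁ U) :
    res _ (le_top : h ⁻¹ᵁ V ≤ ⊤) (secOf B h hZ e) = pullSec h B.O1 (res B.O1 hV (phiSec B.φ U e)) := by
  rw [secOf, PicAux.res_res, ← res_pullSec h B.O1 hV]

theorem gen_secOf (e : Γ(E, U)) :
    Gen ((Scheme.Modules.pullback h).obj B.O1) (h ⁻¹ᵁ B.D U hU e) (res _ le_top (secOf B h hZ e)) := by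
  rw [res_secOf B h hZ e (dPlus_le U hU e)]
  exact (gen_app B.hj B.hO1 B.hφ U hU e).pull h

variable [E.IsQuasicoherent]

include hZ in
theorem le_iSup_D : (⊤ : Z.Opens) ≤ ⨆ e, h ⁻¹ᵁ B.D U hU e := fun z hz => by
  obtain ⟨e, he⟩ := exists_mem_dPlus (chart := B.chart) B.hj U hU (hZ hz)
  exact Opens.mem_iSup.2 ⟨e, he⟩

theorem exists_sec_of_deg {k : ℕ} {x : B.alg.presheaf.obj (op U)} (hx : x ∈ B.alg.deg U hU k) :
    ∃ t : Γ(CohB1.tensorPow ((Scheme.Modules.pullback h).obj B.O1) k, ⊤),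
      ∀ e, res _ (le_top : h ⁻¹ᵁ B.D U hU e ≤ ⊤) t =
        (h.app (B.D U hU e)).hom (B.fn U hU e hx) • powSec (res _ le_top (secOf B h hZ e)) k := by
  let σ : ∀ e, Γ(CohB1.tensorPow ((Scheme.Modules.pullback h).obj B.O1) k, h ⁻¹ᵁ B.D U hU e) := fun e =>
    (h.app (B.D U hU e)).hom (B.fn U hU e hx) • powSec (res _ le_top (secOf B h hZ e)) k
  have hcompat : ∀ e e', res _ (inf_le_left : h ⁻¹ᵁ B.D U hU e ⊓ h ⁻¹ᵁ B.D U hU e' ≤ _) (σ e) =
      res _ inf_le_right (σ e') := by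
    intro e e'
    simp only [σ]
    have hsec : ∀ (e₁ : Γ(E, U)) {V V' : Z.Opens} (hV : V' ≤ V),
        res _ hV (res _ (le_top : V ≤ ⊤) (secOf B h hZ e₁)) = res _ (le_top : V' ≤ ⊤) (secOf B h hZ e₁) :=
      fun e₁ V V' hV => PicAux.res_res _ _ _
    rw [PicAux.res_smul, PicAux.res_smul, res_powSec, res_powSec, hsec, hsec]
    change resX Z inf_le_left ((h.app (B.D U hU e)).hom (B.fn U hU e hx)) • _ =
      resX Z inf_le_right ((h.app (B.D U hU e')).hom (B.fn U hU e' hx)) • _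
    have hnat : ∀ {V V' : B.P.Opens} (hV : V' ≤ V) (G : Γ(B.P, V)),
        resX Z (h.preimage_mono hV) ((h.app V).hom G) = (h.app V').hom (resX B.P hV G) := fun hV G =>
      (congr(($(h.naturality (homOfLE hV).op)).hom G)).symm
    set W := B.D U hU e ⊓ B.D U hU e'
    have hrel : res _ (le_top : h ⁻¹ᵁ W ≤ ⊤) (secOf B h hZ e') =
        (h.app W).hom (resX B.P inf_le_left (B.fn U hU e (B.hj.2 U hU e'))) •
          res _ le_top (secOf B h hZ e) := by
      rw [res_secOf B h hZ e' (inf_le_left.trans (dPlus_le U hU e)),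
        res_secOf B h hZ e (inf_le_left.trans (dPlus_le U hU e)), ← pullSec_smul]
      have h1 := congrArg (res B.O1 (inf_le_left : W ≤ B.D U hU e)) (res_phi_eq_smul B.hj B.hO1 B.hφ U hU e e')
      rw [PicAux.res_smul, PicAux.res_res, PicAux.res_res] at h1
      exact congrArg (pullSec h B.O1) h1
    change resX Z (h.preimage_mono (inf_le_left : W ≤ B.D U hU e)) _ • powSec (res _ (le_top : h ⁻¹ᵁ W ≤ ⊤) _) k =
      resX Z (h.preimage_mono (inf_le_right : W ≤ B.D U hU e')) _ • powSec (res _ (le_top : h ⁻¹ᵁ W ≤ ⊤) _) k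
    rw [hnat (inf_le_left : W ≤ B.D U hU e), hnat (inf_le_right : W ≤ B.D U hU e'), hrel, powSec_smul, ← mul_smul, ← map_pow, ← map_mul, fn_cross B e e' hx]

  obtain ⟨t, ht, -⟩ := res_glue (M := CohB1.tensorPow ((Scheme.Modules.pullback h).obj B.O1) k)
    (U := ⊤) (fun e => h ⁻¹ᵁ B.D U hU e) (fun _ => le_top) (le_iSup_D B h hZ) σ hcompat
  exact ⟨t, ht⟩

omit [E.IsQuasicoherent] in
theorem fn_mul_self (e : Γ(E, U)) {k : ℕ} {x : B.alg.presheaf.obj (op U)} (hx : x ∈ B.alg.deg U hU k)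
    (hx' : x * jel B.alg B.j U e ∈ B.alg.deg U hU (k + 1)) :
    B.fn U hU e hx' = B.fn U hU e hx := by
  refine ext_valAt B (hU := hU) (dPlus_le U hU e) fun y hy => ?_
  rw [valAt_fn, valAt_fn]
  refine (loc_mk_eq).mpr ⟨1, ?_⟩
  simp only [one_smul, Submonoid.smul_def, smul_eq_mul]
  rw [pow_succ]
  ring

include hU hZ in
theorem isBasis_pow (hi : Topology.IsInducing h) :
    Opens.IsBasis {W : Z.Opens | ∃ (n : ℕ)
      (s : Coh.structureModule Z ⟶ CohB1.tensorPow ((Scheme.Modules.pullback h).obj B.O1) (n + 1)),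
      W = CohB1.genLocus _ s} := by
  rw [Opens.isBasis_iff_nbhd]
  intro O z hz
  obtain ⟨O₁, hO₁, hO⟩ := hi.isOpen_iff.1 O.isOpen
  have hz₁ : h z ∈ (⟨O₁, hO₁⟩ : B.P.Opens) := by
    have h' : z ∈ (O : Set Z) := hz
    rwa [← hO] at h'
  obtain ⟨e, he⟩ := exists_mem_dPlus (chart := B.chart) B.hj U hU (hZ (Set.mem_univ z : z ∈ (⊤ : Z.Opens)))
  obtain ⟨F, hFle, hzF⟩ :=
    (isAffineOpen_dPlus B.hj U hU e).exists_basicOpen_le (V := ⟨O₁, hO₁⟩) ⟨h z, hz₁⟩ he
  obtain ⟨k, x, hx, rfl⟩ := exists_eq_coord B.hj U hU e F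
  have hx' : x * jel B.alg B.j U e ∈ B.alg.deg U hU (k + 1) := SetLike.mul_mem_graded hx (B.hj.2 U hU e)
  obtain ⟨t, ht⟩ := exists_sec_of_deg B h hZ hx'
  have hloc : ∀ e', gloc t ⊓ h ⁻¹ᵁ B.D U hU e' = h ⁻¹ᵁ B.P.basicOpen (B.fn U hU e' hx') := fun e' => by
    rw [gloc_inf_eq_basicOpen ((gen_secOf B h hZ e').pow (k + 1)) (ht e'), ← Scheme.preimage_basicOpen]
  refine ⟨gloc t, ⟨k, homOfSection t, rfl⟩, ?_, fun w hw => ?_⟩
  · have h1 : z ∈ h ⁻¹ᵁ B.P.basicOpen (B.fn U hU e hx') := by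
      rw [fn_mul_self B e hx hx']
      exact hzF
    rw [← hloc e] at h1
    exact h1.1
  · obtain ⟨e', he'⟩ := exists_mem_dPlus (chart := B.chart) B.hj U hU (hZ (Set.mem_univ w : w ∈ (⊤ : Z.Opens)))
    have h2 : h w ∈ B.P.basicOpen (B.fn U hU e' hx') := (hloc e').le ⟨hw, he'⟩
    have hwe : h w ∈ B.D U hU e := by
      obtain ⟨y, hy⟩ := exists_emb_eq (chart := B.chart) U hU (dPlus_le (chart := B.chart) (j := B.j) U hU e' he')
      rw [← hy] at h2 he' ⊢
      have hu := (B.P.toRingedSpace.isUnit_res_basicOpen (B.fn U hU e' hx')).map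
        (valAt B (W := B.P.basicOpen (B.fn U hU e' hx')) y h2)
      have hu' : IsUnit (valAt B (W := B.P.basicOpen (B.fn U hU e' hx')) y h2
          (resX B.P (B.P.basicOpen_le (B.fn U hU e' hx')) (B.fn U hU e' hx'))) := hu
      rw [valAt_res, valAt_fn, Localization.mk_eq_mk'] at hu'
      have h3 := (IsLocalization.AtPrime.isUnit_mk'_iff _ _ _ _).1 hu'
      exact (mem_image_iff (chart := B.chart) U hU _ y).2
        fun hye => h3 (Ideal.mul_mem_left _ _ hye)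
    have h4 : w ∈ h ⁻¹ᵁ B.P.basicOpen (B.fn U hU e hx') := (hloc e).le ⟨hw, hwe⟩
    rw [fn_mul_self B e hx hx'] at h4
    have h5 : w ∈ h ⁻¹' O₁ := hFle h4
    rwa [hO] at h5

theorem isInvertible_pullback_O1 : PicF.IsInvertible ((Scheme.Modules.pullback h).obj B.O1) := by
  rw [isInvertible_iff_exists_gen]
  intro z
  obtain ⟨U, hU, hzU, -⟩ := exists_isAffineOpen_mem_and_subset (x := B.p (h z)) (U := (⊤ : S.Opens)) trivial
  obtain ⟨e, he⟩ := exists_mem_dPlus (chart := B.chart) B.hj U hU hzU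
  exact ⟨h ⁻¹ᵁ B.D U hU e, _, he, (gen_app B.hj B.hO1 B.hφ U hU e).pull h⟩

/-- A module induced by a homeomorphism onto a subspace of the bundle is relatively ample. -/
theorem isRelAmple_pullback {X : Scheme.{u}} (f : X ⟶ S) [QuasiCompact f] (g : X ⟶ B.P) (hg : g ≫ B.p = f)
    (hi : Topology.IsInducing g) : RelAmple.IsRelAmple f ((Scheme.Modules.pullback g).obj B.O1) := by
  refine ⟨inferInstance, fun V => ?_⟩
  obtain ⟨V, hV⟩ := V
  let W : X.Opens := f ⁻¹ᵁ V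
  have : CompactSpace (W : Scheme.{u}) :=
    isCompact_iff_compactSpace.mp (f.isCompact_preimage hV.isCompact)
  have hW : (⊤ : (W : Scheme.{u}).Opens) ≤ (W.ι ≫ g) ⁻¹ᵁ (B.p ⁻¹ᵁ V) := fun w _ =>
    (pre_le_of_comp g hg V).ge w.2
  refine Groth.Ega2Proj.isAmple_of_iso ?_ (isAmple_of_isBasis (isInvertible_pullback_O1 B (W.ι ≫ g))
    (isBasis_pow B (hU := hV) (W.ι ≫ g) hW (hi.comp W.ι.isOpenEmbedding.isInducing)))
  exact ((Scheme.Modules.pullbackComp W.ι g).app B.O1).symm ≪≫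
    ((Scheme.Modules.restrictFunctorIsoPullback W.ι).app _).symm

omit [E.IsQuasicoherent] in
theorem isRelAmple_of_isRelVeryAmple {X : Scheme.{u}} (f : X ⟶ S) [QuasiCompact f] {L : X.Modules}
    (h : RelProj.IsRelVeryAmple f L) : RelAmple.IsRelAmple f L := by
  obtain ⟨E, hE, 𝒮, j, hj, P, p, chart, hP, O1, lam, hO1, i, hi, hc, ⟨τ⟩⟩ := h
  have : E.IsQuasicoherent := hE
  obtain ⟨φ, hφ⟩ := Groth.RelTw.exists_phi hj hP hO1
  have := hi
  have h1 := isRelAmple_pullback ⟨𝒮, j, hj, P, p, chart, hP, O1, lam, hO1, φ, hφ⟩ f i hc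
    i.isEmbedding.isInducing
  exact ⟨inferInstance, fun V => Groth.Ega2Proj.isAmple_of_iso
    ((Scheme.Modules.restrictFunctor (f ⁻¹ᵁ V.1).ι).mapIso τ.symm) (h1.2 V)⟩

end Groth.RelVA
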