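import Groth.Agent.RelVA.PnData

/-!
# Very ampleness and immersions into projective spaces, locally on the base
-/

universe u

open CategoryTheory CategoryTheory.Limits AlgebraicGeometry Opposite TopologicalSpace

set_option backward.isDefEq.respectTransparency.types false

noncomputable section

namespace Groth.RelVA

open Groth.PicAux Groth.PropsBasic.Ample

variable {X Y : Scheme.{u}}

theorem isRelVeryAmplePn_restrict {f : X ⟶ Y} {L : X.Modules} (h : RelAmple.IsRelVeryAmplePn f L) (U : Y.Opens) :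
    RelAmple.IsRelVeryAmplePn (f ∣_ U) (L.restrict (f ⁻¹ᵁ U).ι) := by
  obtain ⟨n, i, hi, hc, ⟨τ⟩⟩ := h
  let a := Groth.Chow.PEmb.prZ n (U : Scheme.{u})
  let pr := Groth.Chow.PEmb.prZ n Y
  let m : CohB1.ProjSpaceOver n (U : Scheme.{u}) ⟶ CohB1.ProjSpaceOver n Y :=
    pullback.lift a (CohB1.ProjSpaceOver.toBase n (U : Scheme.{u}) ≫ U.ι) (specULiftZIsTerminal.hom_ext _ _)
  let i' : ((f ⁻¹ᵁ U : X.Opens) : Scheme.{u}) ⟶ CohB1.ProjSpaceOver n (U : Scheme.{u}) :=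
    pullback.lift ((f ⁻¹ᵁ U).ι ≫ i ≫ pr) (f ∣_ U) (specULiftZIsTerminal.hom_ext _ _)
  have hfst : i' ≫ a = (f ⁻¹ᵁ U).ι ≫ i ≫ pr := pullback.lift_fst _ _ _
  have hsnd : i' ≫ CohB1.ProjSpaceOver.toBase n (U : Scheme.{u}) = f ∣_ U := pullback.lift_snd _ _ _
  have hm1 : m ≫ pr = a := pullback.lift_fst _ _ _
  have hm2 : m ≫ CohB1.ProjSpaceOver.toBase n Y = CohB1.ProjSpaceOver.toBase n (U : Scheme.{u}) ≫ U.ι :=
    pullback.lift_snd _ _ _
  have e : i' ≫ m = (f ⁻¹ᵁ U).ι ≫ i := by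
    refine pullback.hom_ext ?_ ?_
    · change (i' ≫ m) ≫ pr = ((f ⁻¹ᵁ U).ι ≫ i) ≫ pr
      rw [Category.assoc, hm1, hfst, Category.assoc]
    · change (i' ≫ m) ≫ CohB1.ProjSpaceOver.toBase n Y = ((f ⁻¹ᵁ U).ι ≫ i) ≫ CohB1.ProjSpaceOver.toBase n Y
      rw [Category.assoc, hm2, reassoc_of% hsnd, morphismRestrict_ι, Category.assoc]
      exact (congrArg ((f ⁻¹ᵁ U).ι ≫ ·) hc).symm
  have hi' : IsImmersion i' := by
    have := hi
    have : IsImmersion (i' ≫ m) := e ▸ inferInstance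
    exact IsImmersion.of_comp i' m
  refine ⟨n, i', hi', hsnd, ⟨(Scheme.Modules.restrictFunctorIsoPullback (f ⁻¹ᵁ U).ι).app L ≪≫
    (Scheme.Modules.pullback (f ⁻¹ᵁ U).ι).mapIso τ ≪≫
    (Scheme.Modules.pullbackComp (f ⁻¹ᵁ U).ι i).app _ ≪≫
    (Scheme.Modules.pullback _).mapIso (Iso.refl _) ≪≫
    (Scheme.Modules.pullbackComp ((f ⁻¹ᵁ U).ι ≫ i) pr).app _ ≪≫
    (Scheme.Modules.pullbackCongr (show ((f ⁻¹ᵁ U).ι ≫ i) ≫ pr = i' ≫ a by rw [Category.assoc, hfst])).app _ ≪≫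
    ((Scheme.Modules.pullbackComp i' a).app _).symm⟩⟩

theorem exists_cover_pn (f : X ⟶ Y) [LocallyOfFiniteType f] [QuasiCompact f] {L : X.Modules}
    (hL : PicF.IsInvertible L) (h : RelProj.IsRelVeryAmple f L) :
    ∃ (ι : Type u) (V : ι → Y.Opens), (⨆ j, V j) = ⊤ ∧
      ∀ j, RelAmple.IsRelVeryAmplePn (f ∣_ V j) (L.restrict (f ⁻¹ᵁ V j).ι) := by
  refine ⟨Y.affineOpens, fun V => V.1, eq_top_iff.2 fun y _ => ?_, fun V => ?_⟩
  · obtain ⟨U, hU, hy, -⟩ := exists_isAffineOpen_mem_and_subset (x := y) (U := (⊤ : Y.Opens)) trivial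
    exact Opens.mem_iSup.2 ⟨⟨U, hU⟩, hy⟩
  · have : IsAffine (V.1 : Scheme.{u}) := V.2
    exact isRelVeryAmplePn_of_hasPnData (hasPnData_of_isRelVeryAmple
      (Groth.Ega2Proj.isInvertible_restrict _ hL) (isRelVeryAmple_restrict V.1 h))

theorem isRelVeryAmple_of_cover_pn (f : X ⟶ Y) [QuasiCompact f] {L : X.Modules} (hL : PicF.IsInvertible L)
    {ι : Type u} (V : ι → Y.Opens) (hV : (⨆ j, V j) = ⊤)
    (h : ∀ j, RelAmple.IsRelVeryAmplePn (f ∣_ V j) (L.restrict (f ⁻¹ᵁ V j).ι)) :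
    RelProj.IsRelVeryAmple f L := by
  refine isRelVeryAmple_of_local V hV (isQCoh_of_isInvertible hL) fun j => ?_
  refine isRelVeryAmple_of_local (ι := (V j : Scheme.{u}).affineOpens) (fun W => W.1) (eq_top_iff.2 fun y _ => ?_)
    (isQCoh_of_isInvertible (Groth.Ega2Proj.isInvertible_restrict _ hL)) fun W => ?_
  · obtain ⟨W, hW, hyW, -⟩ := exists_isAffineOpen_mem_and_subset (x := y) (U := ⊤) trivial
    exact Opens.mem_iSup.2 ⟨⟨W, hW⟩, hyW⟩
  · have hpn := isRelVeryAmplePn_restrict (h j) W.1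
    have : IsAffine (W.1 : Scheme.{u}) := W.2
    have : IsSeparated ((f ∣_ V j) ∣_ W.1) := by
      obtain ⟨n', i', hi', hc', -⟩ := hpn
      have := hi'
      have h1 : IsSeparated (CohB1.ProjSpace.toSpec n' (ULift.{u} ℤ)) := by
        unfold CohB1.ProjSpace.toSpec CohB1.ProjSpace
        infer_instance
      have h2 : IsSeparated (pullback.snd (CohB1.ProjSpace.toSpec n' (ULift.{u} ℤ))
          (specULiftZIsTerminal.from (W.1 : Scheme.{u}))) := MorphismProperty.pullback_snd _ _ h1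
      rw [← hc']
      exact MorphismProperty.comp_mem @IsSeparated _ _ inferInstance h2
    exact isRelVeryAmple_of_hasPnData
      (Groth.Ega2Proj.isInvertible_restrict _ (Groth.Ega2Proj.isInvertible_restrict _ hL)) (hasPnData_of_pn hpn)

end Groth.RelVA
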