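import Groth.Agent.RelVA.Local
import Groth.Agent.RelTwist.Twist
import Groth.Agent.QCohMod.QCAlgSub

/-!
# Very ampleness of the fundamental sheaf of an algebra generated in degree one
-/

universe u

open CategoryTheory CategoryTheory.Limits AlgebraicGeometry Opposite TopologicalSpace
open scoped HomogeneousIdeal

set_option backward.isDefEq.respectTransparency.types false

noncomputable section

namespace Groth.RelVA

open Groth.PicAux Groth.RelTw
open Groth.QCohMod (bres bstr toB ofB)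

variable {S P : Scheme.{u}} {𝒮 : RelProj.QCGrAlg S} {p : P ⟶ S}
  {chart : ∀ (U : S.Opens) (hU : IsAffineOpen U), (((p ⁻¹ᵁ U : P.Opens) : Scheme.{u}) ≅ Proj (𝒮.deg U hU))}
  (hP : RelProj.IsRelProj 𝒮 p chart) {O1 : P.Modules}
  {lam : ∀ (U : S.Opens) (hU : IsAffineOpen U),
    O1 ⟶ (Scheme.Modules.pushforward (RelProj.emb p chart U hU)).obj (GrTwist.twist (𝒮.deg U hU) 1)}
  (hO1 : RelProj.IsRelTwist 𝒮 p chart 1 O1 lam)

/-- The component of degree one. -/
def one₁ (𝒮 : RelProj.QCGrAlg S) (U : S.Opens) (hU : IsAffineOpen U) (x : Γ(𝒮.toModule, U)) :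
    𝒮.presheaf.obj (op U) :=
  DirectSum.decompose (𝒮.deg U hU) (toB 𝒮.toQCAlg x) 1

include hP hO1 in
/-- The sections of `O(1)` attached to the components of degree one. -/
theorem exists_degOneData : ∃ σ : LinData p 𝒮.toModule O1,
    ∀ (U : S.Opens) (hU : IsAffineOpen U) (x : Γ(𝒮.toModule, U)) (y : ProjectiveSpectrum (𝒮.deg U hU))
      (hy : RelProj.emb p chart U hU y ∈ p ⁻¹ᵁ U),
      pv lam U hU (σ.app U x) y hy = algebraMap _ (GrTwist.Loc (𝒮.deg U hU) y) (one₁ 𝒮 U hU x) := by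
  have hex : ∀ (U : S.Opens) (hU : IsAffineOpen U) (x : Γ(𝒮.toModule, U)), ∃ s : Γ(O1, p ⁻¹ᵁ U),
      ∀ (y : ProjectiveSpectrum (𝒮.deg U hU)) (hy : RelProj.emb p chart U hU y ∈ p ⁻¹ᵁ U),
        pv lam U hU s y hy = algebraMap _ (GrTwist.Loc (𝒮.deg U hU) y) (one₁ 𝒮 U hU x) := by
    intro U hU x
    have he : one₁ 𝒮 U hU x ∈ 𝒮.deg U hU 1 := SetLike.coe_mem _
    obtain ⟨s, hs⟩ := (hO1.bijective U hU _ le_rfl).2
      (frac (n := ((1 : ℕ) : ℤ)) (e' := 0) he SetLike.GradedOne.one_mem (by simp)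
        (RelProj.emb p chart U hU ⁻¹ᵁ (p ⁻¹ᵁ U))
        (fun x _ h => x.isPrime.ne_top ((Ideal.eq_top_iff_one _).mpr h)))
    refine ⟨s, fun y hy => ?_⟩
    rw [pv, hs]
    exact gval_global he _ y hy
  choose f hf using hex
  obtain ⟨φ, hφ⟩ := Groth.LocFree.exists_hom_of_affine (L := 𝒮.toModule)
    (M := (Scheme.Modules.pushforward p).obj O1)
    (fun U hU =>
      { toFun := f U hU
        map_add' := fun a b => by
          refine sec_ext lam hO1 hU le_rfl fun y hy => ?_
          have h : pv lam U hU (f U hU a + f U hU b) y hy =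
              pv lam U hU (f U hU a) y hy + pv lam U hU (f U hU b) y hy := by
            rw [pv, map_add]; rfl
          refine Eq.trans ?_ h.symm
          rw [hf, hf, hf, ← map_add]
          congr 1
          simp only [one₁]
          rw [show toB 𝒮.toQCAlg (a + b) = toB 𝒮.toQCAlg a + toB 𝒮.toQCAlg b from rfl, DirectSum.decompose_add, DFinsupp.add_apply]
          rfl
        map_smul' := fun r a => by
          refine sec_ext lam hO1 hU le_rfl fun y hy => ?_
          change pv lam U hU (f U hU (r • a)) y hy = pv lam U hU (p.app U r • f U hU a) y hy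
          rw [pv_smul, val_app_base hP U hU r y hy, hf, hf, ← map_mul]
          congr 1
          refine Eq.trans ?_ (DirectSum.coe_decompose_mul_add_of_left_mem (𝒮.deg U hU) (j := 1)
            (𝒮.str_mem U hU r) (b := toB 𝒮.toQCAlg a))
          rw [Nat.zero_add]
          rfl })
    (fun U V hU hV h x => by
      change res O1 (p.preimage_mono h) (f U hU x) = f V hV (res 𝒮.toModule h x)
      refine sec_ext_cover lam hO1 fun z hz => ?_
      obtain ⟨D, hD, hDU, hDV, iU, iV, hzD, hrU, hrV, hpt⟩ :=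
        exists_chart_overlap hP hU hV (z := z) (h hz) hz
      refine ⟨D, hD, hzD, fun y hy => ?_⟩
      rw [pv_res]
      obtain ⟨hy1, e1⟩ := pv_transfer hP hO1 hU hD hrU hDU iU (f U hU x) y (h hy)
      obtain ⟨hy2, e2⟩ := pv_transfer hP hO1 hV hD hrV hDV iV (f V hV (res 𝒮.toModule h x)) y hy
      rw [e1, e2, hf, hf]
      have key : ∀ {W : S.Opens} (hW : IsAffineOpen W) (hle : D ≤ W)
          (iW : (𝒮.deg D hD)₊ ≤ ((𝒮.deg W hW)₊).map (𝒮.res hW hD hle)) (a : Γ(𝒮.toModule, W)),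
          GrTwist.locMap (𝒮.res hW hD hle) iW y (algebraMap _ _ (one₁ 𝒮 W hW a)) =
            algebraMap _ (GrTwist.Loc (𝒮.deg D hD) y) (one₁ 𝒮 D hD (res 𝒮.toModule hle a)) := by
        intro W hW hle iW a
        rw [GrTwist.locMap]
        refine (Localization.localRingHom_to_map _ _ _ rfl _).trans ?_
        exact congrArg (algebraMap _ _) (GradedRingHom.map_directSumDecompose (𝒜 := 𝒮.deg W hW) (ℬ := 𝒮.deg D hD)
          (𝒮.res hW hD hle) (x := toB 𝒮.toQCAlg a) (i := 1))
      rw [key hU hDU iU x, key hV hDV iV, PicAux.res_res])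
  refine ⟨{ app := fun U => AddMonoidHom.mk' (fun x => (φ.app U x : Γ(O1, p ⁻¹ᵁ U))) fun a b => map_add _ a b
            app_smul := fun U r x => φ.app_smul r x
            app_res := fun U V h x => (PicAux.app_res φ h x).symm }, fun U hU x y hy => ?_⟩
  refine Eq.trans ?_ (hf U hU x y hy)
  exact congrArg (fun s => pv lam U hU s y hy) (hφ U hU x)

variable {σ : LinData p 𝒮.toModule O1}
  (hσ : ∀ (U : S.Opens) (hU : IsAffineOpen U) (x : Γ(𝒮.toModule, U)) (y : ProjectiveSpectrum (𝒮.deg U hU))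
      (hy : RelProj.emb p chart U hU y ∈ p ⁻¹ᵁ U),
      pv lam U hU (σ.app U x) y hy = algebraMap _ (GrTwist.Loc (𝒮.deg U hU) y) (one₁ 𝒮 U hU x))

theorem one₁_ofB {U : S.Opens} (hU : IsAffineOpen U) {c : 𝒮.presheaf.obj (op U)} (hc : c ∈ 𝒮.deg U hU 1) :
    one₁ 𝒮 U hU (ofB 𝒮.toQCAlg c) = c :=
  DirectSum.decompose_of_mem_same _ hc

include hO1 hσ in
/-- The ratios on the standard piece `D₊(f)`. -/
theorem res_app_ofB_eq_smul {U : S.Opens} (hU : IsAffineOpen U) {f c : 𝒮.presheaf.obj (op U)}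
    (hf : f ∈ 𝒮.deg U hU 1) (hc : c ∈ 𝒮.deg U hU 1) :
    ((((RelProj.emb p chart U hU).appIso (Proj.basicOpen (𝒮.deg U hU) f)).inv.hom
        ((Proj.awayToSection (𝒮.deg U hU) f).hom (HomogeneousLocalization.Away.mk (𝒮.deg U hU) hf 1 c
          (by rwa [smul_eq_mul, mul_one])))) :
        Γ(P, RelProj.emb p chart U hU ''ᵁ Proj.basicOpen (𝒮.deg U hU) f)) •
      res O1 (image_le (chart := chart) U hU (Proj.basicOpen (𝒮.deg U hU) f)) (σ.app U (ofB 𝒮.toQCAlg f)) =
      res O1 (image_le (chart := chart) U hU (Proj.basicOpen (𝒮.deg U hU) f)) (σ.app U (ofB 𝒮.toQCAlg c)) := by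
  refine sec_ext lam hO1 hU (image_le (chart := chart) U hU _) fun y hy => ?_
  have hfy : f ∉ y.asHomogeneousIdeal := (mem_image_iff (chart := chart) U hU _ y).1 hy
  rw [pv_smul, pv_res, pv_res, hσ U hU, hσ U hU, one₁_ofB hU hf, one₁_ofB hU hc,
    ← CommRingCat.comp_apply, Scheme.Hom.appIso_inv_app]
  change (((Proj.awayToSection (𝒮.deg U hU) f).hom _).1 ⟨y, hfy⟩).val * _ = _
  rw [awayToSection_mk_val hf 1 _ y hfy, ← Localization.mk_one_eq_algebraMap,
    ← Localization.mk_one_eq_algebraMap, Localization.mk_mul]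
  refine (loc_mk_eq).mpr ⟨1, ?_⟩
  simp only [one_smul, Submonoid.smul_def, smul_eq_mul, Submonoid.coe_mul, Submonoid.coe_one, pow_one]
  ring

variable (hgen : 𝒮.IsGenDegOne)

include hO1 hσ hgen in
theorem genLoc_degOneData {U : S.Opens} (hU : IsAffineOpen U) {f : 𝒮.presheaf.obj (op U)}
    (hf : f ∈ 𝒮.deg U hU 1) :
    σ.genLoc U (ofB 𝒮.toQCAlg f) = RelProj.emb p chart U hU ''ᵁ Proj.basicOpen (𝒮.deg U hU) f := by
  have hbasis : ∀ {g : 𝒮.presheaf.obj (op U)} (hg : g ∈ 𝒮.deg U hU 1),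
      Gen O1 (RelProj.emb p chart U hU ''ᵁ Proj.basicOpen (𝒮.deg U hU) g)
        (res O1 (image_le (chart := chart) U hU _) (σ.app U (ofB 𝒮.toQCAlg g))) := by
    intro g hg
    obtain ⟨s, hs, hsv⟩ := exists_sec_powFrac hO1 U hU hg (k := ((1 : ℕ) : ℤ)) (by simp)
    convert hs using 1
    refine sec_ext lam hO1 hU (image_le (chart := chart) U hU _) fun y hy => ?_
    have hgy : g ∉ y.asHomogeneousIdeal := (mem_image_iff (chart := chart) U hU _ y).1 hy
    rw [pv_res, hσ U hU, one₁_ofB hU hg, hsv y hy hgy, powFrac_natCast, pow_one,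
      Localization.mk_one_eq_algebraMap]
  refine genLoc_eq σ (image_le (chart := chart) U hU _) (hbasis hf) fun z hz => ?_
  obtain ⟨y, rfl⟩ := exists_emb_eq (chart := chart) U hU hz
  obtain ⟨g, hg, hgy⟩ := exists_frac_cover (irrelevant_le_span_one hgen U hU) y
  refine ⟨_, image_le U hU _, _, _, ⟨y, hgy, rfl⟩, hbasis hg, (res_app_ofB_eq_smul hO1 hσ hU hg hf).symm, ?_⟩
  intro w hw
  obtain ⟨x, hgx, rfl⟩ := P.basicOpen_le _ hw
  refine ⟨x, ?_, rfl⟩
  have h1 := (Scheme.preimage_basicOpen (RelProj.emb p chart U hU) _).le (x := x) hw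
  rw [← CommRingCat.comp_apply, Scheme.Hom.appIso_inv_app] at h1
  refine (mem_basicOpen_iff_of_frac (𝒮.deg U hU) _ (a := f) (b := g ^ 1)
    (hb := fun h => hgx (x.isPrime.mem_of_pow_mem _ h)) ?_ ?_).1 h1
  · exact ((RelProj.emb p chart U hU).preimage_image_eq _).ge hgx
  · exact awayToSection_mk_val hg 1 (by rwa [smul_eq_mul, mul_one]) x hgx

include hO1 hσ hgen in
/-- The sections of degree one embed the relative `Proj`. -/
theorem isEmb_degOneData : IsEmb σ := by
  intro z
  obtain ⟨U, hU, hzU, -⟩ := exists_isAffineOpen_mem_and_subset (x := p z) (U := (⊤ : S.Opens)) trivial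
  obtain ⟨y, rfl⟩ := exists_emb_eq (chart := chart) U hU hzU
  obtain ⟨f, hf, hfy⟩ := exists_frac_cover (irrelevant_le_span_one hgen U hU) y
  let e : Γ(𝒮.toModule, U) := ofB 𝒮.toQCAlg f
  have hG : σ.genLoc U e = RelProj.emb p chart U hU ''ᵁ Proj.basicOpen (𝒮.deg U hU) f :=
    genLoc_degOneData hO1 hσ hgen hU hf
  refine ⟨U, hU, e, hG.ge ⟨y, hfy, rfl⟩, ?_⟩
  refine (imm_of_isAffineOpen ((Proj.isAffineOpen_basicOpen (𝒮.deg U hU) f hf one_pos).image_of_isOpenImmersion
    (RelProj.emb p chart U hU))).restrict hG.le fun a _ => ?_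
  let γ : HomogeneousLocalization.Away (𝒮.deg U hU) f →+* Γ(P, σ.genLoc U e) :=
    (resX P hG.le).comp ((((RelProj.emb p chart U hU).appIso (Proj.basicOpen (𝒮.deg U hU) f)).inv.hom).comp
      (Proj.awayToSection (𝒮.deg U hU) f).hom)
  suffices hγ : ∀ q, γ q ∈ rGen σ U e by
    obtain ⟨q, rfl⟩ := (ConcreteCategory.bijective_of_isIso
      (Proj.basicOpenIsoAway (𝒮.deg U hU) f hf one_pos ≪≫
        ((RelProj.emb p chart U hU).appIso (Proj.basicOpen (𝒮.deg U hU) f)).symm).hom).2 a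
    exact hγ q
  let T := (rGen σ U e).comap γ
  change ∀ q, q ∈ T
  let m : ∀ (k : ℕ) (x : 𝒮.presheaf.obj (op U)), x ∈ 𝒮.deg U hU k →
      HomogeneousLocalization.Away (𝒮.deg U hU) f :=
    fun k x hx => HomogeneousLocalization.Away.mk (𝒮.deg U hU) hf k x (by rwa [smul_eq_mul, mul_one])
  have h1 : ∀ c (hc : c ∈ 𝒮.deg U hU 1), m 1 c hc ∈ T := by
    intro c hc
    refine (congrArg (· ∈ rGen σ U e) ?_).mpr (ratio_mem_rGen σ U e (ofB 𝒮.toQCAlg c))
    refine σ.eq_ratio ?_
    have h := congrArg (res O1 hG.le) (res_app_ofB_eq_smul hO1 hσ hU hf hc)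
    rw [PicAux.res_smul, PicAux.res_res, PicAux.res_res] at h
    exact h
  have h0 : ∀ c (hc : c ∈ 𝒮.deg U hU 0), m 0 c hc ∈ T := by
    intro c hc
    refine (congrArg (· ∈ T) ?_).mpr (h1 (c * f) (by simpa using SetLike.mul_mem_graded hc hf))
    refine HomogeneousLocalization.val_injective _ ?_
    simp only [m, HomogeneousLocalization.Away.val_mk]
    rw [Localization.mk_eq_mk_iff, Localization.r_iff_exists]
    exact ⟨1, by simp only [OneMemClass.coe_one, one_mul]; ring⟩
  have hmul : ∀ (i j : ℕ) a b (ha : a ∈ 𝒮.deg U hU i) (hb : b ∈ 𝒮.deg U hU j),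
      m (i + j) (a * b) (SetLike.mul_mem_graded ha hb) = m i a ha * m j b hb := by
    intro i j a b ha hb
    refine HomogeneousLocalization.val_injective _ ?_
    simp only [m, HomogeneousLocalization.val_mul, HomogeneousLocalization.Away.val_mk, Localization.mk_mul]
    exact congrArg _ (Subtype.ext (pow_add f i j))
  have hzero : ∀ (k : ℕ) (h : (0 : 𝒮.presheaf.obj (op U)) ∈ 𝒮.deg U hU k), m k 0 h = 0 := fun k h => by
    refine HomogeneousLocalization.val_injective _ ?_
    simp only [m, HomogeneousLocalization.Away.val_mk, HomogeneousLocalization.val_zero]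
    exact Localization.mk_zero _
  have hadd : ∀ (k : ℕ) a b (ha : a ∈ 𝒮.deg U hU k) (hb : b ∈ 𝒮.deg U hU k),
      m k (a + b) (add_mem ha hb) = m k a ha + m k b hb := by
    intro k a b ha hb
    refine HomogeneousLocalization.val_injective _ ?_
    simp only [m, HomogeneousLocalization.val_add, HomogeneousLocalization.Away.val_mk]
    exact (Localization.add_mk_self a _ b).symm
  have hcongr : ∀ (k : ℕ) {a b : 𝒮.presheaf.obj (op U)} (h : a = b) (ha : a ∈ 𝒮.deg U hU k),
      m k a ha = m k b (h ▸ ha) := by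
    rintro k a b rfl ha
    rfl
  have hneg : ∀ (k : ℕ) a (ha : a ∈ 𝒮.deg U hU k), m k (-a) (neg_mem ha) = -m k a ha := by
    intro k a ha
    refine eq_neg_of_add_eq_zero_left ?_
    rw [← hadd k (-a) a (neg_mem ha) ha]
    exact (hcongr k (neg_add_cancel a) (add_mem (neg_mem ha) ha)).trans (hzero k (zero_mem _))
  have hmon : ∀ x ∈ Submonoid.closure ((𝒮.deg U hU 0 : Set (𝒮.presheaf.obj (op U))) ∪ (𝒮.deg U hU 1 : Set _)),
      ∃ (k : ℕ) (hx : x ∈ 𝒮.deg U hU k), m k x hx ∈ T := by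
    intro x hx
    induction hx using Submonoid.closure_induction with
    | mem x hx =>
      rcases hx with hx | hx
      · exact ⟨0, hx, h0 x hx⟩
      · exact ⟨1, hx, h1 x hx⟩
    | one => exact ⟨0, SetLike.GradedOne.one_mem, h0 1 SetLike.GradedOne.one_mem⟩
    | mul a b _ _ ha hb =>
      obtain ⟨i, ha, ha'⟩ := ha
      obtain ⟨j, hb, hb'⟩ := hb
      exact ⟨i + j, SetLike.mul_mem_graded ha hb, (hmul i j a b ha hb).symm ▸ mul_mem ha' hb'⟩
  have hall : ∀ x : 𝒮.presheaf.obj (op U), ∀ k,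
      m k (DirectSum.decompose (𝒮.deg U hU) x k : 𝒮.presheaf.obj (op U)) (SetLike.coe_mem _) ∈ T := by
    intro x
    have hx := Subring.mem_closure_iff.1 (hgen U hU ▸ Subring.mem_top x)
    induction hx using AddSubgroup.closure_induction with
    | mem x hx =>
      intro k
      obtain ⟨j, hj, hjT⟩ := hmon x hx
      rcases eq_or_ne j k with rfl | hjk
      · simpa only [DirectSum.decompose_of_mem_same _ hj] using hjT
      · simp only [DirectSum.decompose_of_mem_ne _ hj hjk, hzero, zero_mem]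
    | zero =>
      intro k
      simp only [DirectSum.decompose_zero, DirectSum.zero_apply, ZeroMemClass.coe_zero, hzero, zero_mem]
    | add a b _ _ ha hb =>
      intro k
      simp only [DirectSum.decompose_add, DirectSum.add_apply, AddMemClass.coe_add]
      rw [hadd k _ _ (SetLike.coe_mem _) (SetLike.coe_mem _)]
      exact add_mem (ha k) (hb k)
    | neg a _ ha =>
      intro k
      refine (congrArg (· ∈ T) ((hcongr k (b := -(DirectSum.decompose (𝒮.deg U hU) a k : 𝒮.presheaf.obj (op U)))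
        (by rw [DirectSum.decompose_neg]; rfl) (SetLike.coe_mem _)).trans (hneg k _ (SetLike.coe_mem _)))).mpr ?_
      exact neg_mem (ha k)
  intro q
  obtain ⟨k, x, hx, rfl⟩ := HomogeneousLocalization.Away.mk_surjective (𝒮.deg U hU) hf q
  have hx' : x ∈ 𝒮.deg U hU k := by rwa [smul_eq_mul, mul_one] at hx
  simpa only [m, DirectSum.decompose_of_mem_same _ hx'] using hall x k

include hP hgen in
theorem isRelVeryAmple_of_immersion (hO1 : RelProj.IsRelTwist 𝒮 p chart 1 O1 lam) {X : Scheme.{u}} {q : X ⟶ S}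
    (i : X ⟶ P) [IsImmersion i] (hi : i ≫ p = q) {L : X.Modules}
    (e : L ≅ (Scheme.Modules.pullback i).obj O1) : RelProj.IsRelVeryAmple q L := by
  obtain ⟨σ, hσ⟩ := exists_degOneData hP hO1
  have : 𝒮.toModule.IsQuasicoherent := Groth.QCohMod.isQCoh_toModule 𝒮.toQCAlg
  have sq : i ≫ p = q ≫ 𝟙 S := by rw [Category.comp_id, hi]
  obtain ⟨σ', hσ'⟩ := exists_pullData σ sq
  have := isImmersion_pair_of_left i q
  exact isRelVeryAmple_of_iso e.symm
    (isRelVeryAmple_of_isEmb (isEmb_pull sq hσ' (isEmb_degOneData hO1 hσ hgen)))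

end Groth.RelVA
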