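import Groth.Agent.RelVA.Ample
import Groth.Agent.QCohMod.ExtendFP
import Groth.Agent.QCohMod.QCAlgSub

/-!
# Finite type submodules giving embeddings
-/

universe u

open CategoryTheory CategoryTheory.Limits AlgebraicGeometry Opposite TopologicalSpace

set_option backward.isDefEq.respectTransparency.types false

noncomputable section

namespace Groth.RelVA

open Groth.PicAux Groth.RelTw

variable {X Y : Scheme.{u}}

theorem qcqs_of_hyp (hY : (CompactSpace Y ∧ Y.IsSeparated) ∨ NoetherianSpace Y) :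
    CompactSpace Y ∧ QuasiSeparatedSpace Y := by
  rcases hY with ⟨h, h'⟩ | h
  · exact ⟨h, inferInstance⟩
  · exact ⟨inferInstance, ⟨fun _ _ _ _ _ _ => NoetherianSpace.isCompact _⟩⟩

/-- Finitely many sections lie in a quasi-coherent submodule of finite type. -/
theorem exists_ft_sub_mem [CompactSpace X] [QuasiSeparatedSpace X] (K : X.Modules) [K.IsQuasicoherent]
    (T : Finset (Σ' A : X.affineOpens, Γ(K, A.1))) :
    ∃ (G : X.Modules) (ι : G ⟶ K), Mono ι ∧ G.IsQuasicoherent ∧ CohB1.IsFT G ∧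
      ∀ a ∈ T, ∃ b : Γ(G, a.1.1), ι.app a.1.1 b = a.2 := by
  classical
  have one : ∀ (A : X.Opens) (hA : IsAffineOpen A) (a : Γ(K, A)),
      ∃ (G : X.Modules) (ι : G ⟶ K), Coh.IsCoh G ∧ Mono ι ∧ ∃ b : Γ(G, A), ι.app A b = a := by
    intro A hA a
    obtain ⟨P, hP, ha⟩ := Groth.QCohMod.exists_good_sub_mem K hA a
    obtain ⟨hq, hft⟩ := Groth.QCohMod.SubMod.isQCoh_toMod hP
    refine ⟨P.toMod, P.ι, ⟨hq, hft⟩, ?_, P.exists_ι_app_eq a ha⟩
    refine ⟨fun g h e => Scheme.Modules.hom_ext _ _ fun U => ?_⟩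
    refine AddCommGrpCat.hom_ext (AddMonoidHom.ext fun x => P.ι_app_injective U ?_)
    exact congr(($e).app U x)
  induction T using Finset.induction_on with
  | empty =>
    obtain ⟨G, ι, hG, hι, -⟩ := one ⊥ (isAffineOpen_bot X) 0
    exact ⟨G, ι, hι, hG.1, hG.2, by simp⟩
  | insert a T _ ih =>
    obtain ⟨G₁, ι₁, hι₁, hq₁, hft₁, h₁⟩ := ih
    obtain ⟨G₂, ι₂, hG₂, hι₂, b, hb⟩ := one a.1.1 a.1.2 a.2
    obtain ⟨G, k, c₁, c₂, hk, hG, e₁, e₂⟩ := Groth.QCohMod.exists_sup ι₁ ι₂ ⟨hq₁, hft₁⟩ hG₂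
    refine ⟨G, k, hk, hG.1, hG.2, fun d hd => ?_⟩
    rcases Finset.mem_insert.1 hd with rfl | hd
    · exact ⟨c₂.app d.1.1 b, (congr(($e₂).app d.1.1 b)).trans hb⟩
    · obtain ⟨b', hb'⟩ := h₁ d hd
      exact ⟨c₁.app d.1.1 b', (congr(($e₁).app d.1.1 b')).trans hb'⟩

variable {E : Y.Modules} {g : X ⟶ Y} {L : X.Modules}

/-- Data composed with a map of modules. -/
def compData {E' : Y.Modules} (σ : LinData g E L) (u : E' ⟶ E) : LinData g E' L where
  app U := (σ.app U).comp (u.app U).hom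
  app_smul U a e := by
    change σ.app U (u.app U (a • e)) = _
    rw [Scheme.Modules.Hom.app_smul, σ.app_smul]
    rfl
  app_res U V h e := by
    change res L _ (σ.app U (u.app U e)) = σ.app V (u.app V (res E' h e))
    rw [σ.app_res U V h, PicAux.app_res u h]

theorem isCompact_genLoc (σ : LinData g E L) [QuasiCompact g] [QuasiSeparated g] (hL : PicF.IsInvertible L)
    {U : Y.Opens} (hU : IsAffineOpen U) (e : Γ(E, U)) : IsCompact (σ.genLoc U e : Set X) := by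
  classical
  obtain ⟨W, eW, -, hx, he, -⟩ := Groth.PropsBasic.Ample.exists_gen_cover hL
  have haff : ∀ x : (g ⁻¹ᵁ U : X.Opens), ∃ A : X.Opens, IsAffineOpen A ∧ x.1 ∈ A ∧ A ≤ W x.1 ⊓ g ⁻¹ᵁ U := fun x => by
    obtain ⟨A, hA, hxA, hle⟩ := exists_isAffineOpen_mem_and_subset (x := x.1) (U := W x.1 ⊓ g ⁻¹ᵁ U) ⟨hx x.1, x.2⟩
    exact ⟨A, hA, hxA, hle⟩
  choose A hA hxA hAle using haff
  obtain ⟨s, hs⟩ := (g.isCompact_preimage hU.isCompact).elim_finite_subcover
    (fun x : (g ⁻¹ᵁ U : X.Opens) => (A x : Set X)) (fun x => (A x).isOpen)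
    (fun x hx => Set.mem_iUnion.2 ⟨⟨x, hx⟩, hxA ⟨x, hx⟩⟩)
  have hcomp : ∀ x, IsCompact ((σ.genLoc U e ⊓ A x : X.Opens) : Set X) := fun x => by
    have hA2 : A x ≤ g ⁻¹ᵁ U := (hAle x).trans inf_le_right
    have ht := (he x.1).res ((hAle x).trans inf_le_left)
    obtain ⟨c, hc⟩ := ht.exists_coeff le_rfl (res L hA2 (σ.app U e))
    rw [PicAux.res_self] at hc
    have e1 : σ.genLoc U e ⊓ A x = X.basicOpen c :=
      le_antisymm (inf_le_basicOpen σ hA2 ht hc) (le_inf (basicOpen_le_genLoc σ hA2 ht hc) (X.basicOpen_le c))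
    rw [e1]
    exact ((hA x).basicOpen c).isCompact
  have e2 : (σ.genLoc U e : Set X) = ⋃ x ∈ s, ((σ.genLoc U e ⊓ A x : X.Opens) : Set X) := by
    refine Set.Subset.antisymm (fun w hw => ?_) (Set.iUnion₂_subset fun x _ w hw => hw.1)
    obtain ⟨x, hxs, hwx⟩ := Set.mem_iUnion₂.1 (hs (σ.genLoc_le U e hw))
    exact Set.mem_iUnion₂.2 ⟨x, hxs, hw, hwx⟩
  rw [e2]
  exact s.finite_toSet.isCompact_biUnion fun x _ => hcomp x

/-- An embedding system is already embedding on a submodule of finite type. -/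
theorem exists_ft_isEmb [CompactSpace X] [CompactSpace Y] [QuasiSeparatedSpace Y] [QuasiCompact g] [QuasiSeparated g]
    [LocallyOfFiniteType g] [E.IsQuasicoherent] (hL : PicF.IsInvertible L) (σ : LinData g E L) (hσ : IsEmb σ) :
    ∃ (G : Y.Modules) (ι : G ⟶ E), Mono ι ∧ G.IsQuasicoherent ∧ CohB1.IsFT G ∧ IsEmb (compData σ ι) := by
  classical
  choose U hU e he hI using hσ
  obtain ⟨c, hc⟩ := isCompact_univ.elim_finite_subcover (fun z => (σ.genLoc (U z) (e z) : Set X))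
    (fun z => (σ.genLoc (U z) (e z)).isOpen) (fun z _ => Set.mem_iUnion.2 ⟨z, he z⟩)
  have hR : ∀ z : X, ∃ R : Finset Γ(E, U z),
      Imm (σ.genLoc (U z) (e z)) (Subring.closure (Set.range (g.appLE (U z) (σ.genLoc (U z) (e z))
        (σ.genLoc_le (U z) (e z))).hom ∪ (σ.ratio (U z) (e z) '' (R : Set Γ(E, U z))))) := by
    intro z
    obtain ⟨R, hRs, hRI⟩ := exists_finite_imm g (hU z) (σ.genLoc_le (U z) (e z))
      (isCompact_genLoc σ hL (hU z) (e z)) (Set.range (σ.ratio (U z) (e z))) (hI z)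
    choose e' he' using fun r : R => hRs r.2
    refine ⟨Finset.univ.image e', hRI.mono (Subring.closure_mono (Set.union_subset_union le_rfl fun r hr => ?_))⟩
    exact ⟨e' ⟨r, hr⟩, Finset.mem_image.2 ⟨_, Finset.mem_univ _, rfl⟩, he' ⟨r, hr⟩⟩
  choose R hR using hR
  let T : Finset (Σ' A : Y.affineOpens, Γ(E, A.1)) :=
    c.biUnion fun z => (insert (e z) (R z)).image fun x => ⟨⟨U z, hU z⟩, x⟩
  obtain ⟨G, ι, hι, hq, hft, hmem⟩ := exists_ft_sub_mem E T
  have hget : ∀ z ∈ c, ∀ x ∈ insert (e z) (R z), ∃ b : Γ(G, U z), ι.app (U z) b = x := fun z hz x hx =>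
    hmem ⟨⟨U z, hU z⟩, x⟩ (Finset.mem_biUnion.2 ⟨z, hz, Finset.mem_image.2 ⟨x, hx, rfl⟩⟩)
  refine ⟨G, ι, hι, hq, hft, fun w => ?_⟩
  obtain ⟨z, hz, hwz⟩ := Set.mem_iUnion₂.1 (hc (Set.mem_univ w))
  obtain ⟨b, hb⟩ := hget z hz (e z) (Finset.mem_insert_self _ _)
  let σ' := compData σ ι
  have happ : ∀ x : Γ(G, U z), σ'.app (U z) x = σ.app (U z) (ι.app (U z) x) := fun x => rfl
  have hgl : σ'.genLoc (U z) b = σ.genLoc (U z) (e z) := by
    refine le_antisymm (σ.le_genLoc (σ'.genLoc_le (U z) b) ?_) (σ'.le_genLoc (σ.genLoc_le (U z) (e z)) ?_)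
    · have h := σ'.gen_genLoc (U z) b
      rwa [happ, hb] at h
    · rw [happ, hb]
      exact σ.gen_genLoc (U z) (e z)
  refine ⟨U z, hU z, b, hgl.ge hwz, ?_⟩
  refine (hR z).restrict hgl.le fun x hx => ?_
  refine (Subring.closure_le (t := (rGen σ' (U z) b).comap (resX X hgl.le))).2 ?_ hx
  rintro _ (⟨a, rfl⟩ | ⟨x', hx', rfl⟩)
  · rw [SetLike.mem_coe, Subring.mem_comap]
    exact (congrArg (· ∈ rGen σ' (U z) b) (resX_rAp g _ hgl.le a)).mpr (base_mem_rGen σ' (U z) b a)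
  · obtain ⟨b', hb'⟩ := hget z hz x' (Finset.mem_insert_of_mem hx')
    rw [SetLike.mem_coe, Subring.mem_comap]
    refine (congrArg (· ∈ rGen σ' (U z) b) ?_).mpr (ratio_mem_rGen σ' (U z) b b')
    refine σ'.eq_ratio ?_
    rw [happ, happ, hb, hb']
    have h1 := congrArg (res L hgl.le) (σ.ratio_smul (U z) (e z) x')
    rw [PicAux.res_smul, PicAux.res_res, PicAux.res_res] at h1
    exact h1

/-- A very ample module embeds by a finite type submodule of its direct image. -/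
theorem exists_ft_sub_canon [CompactSpace Y] [QuasiSeparatedSpace Y] (q : X ⟶ Y) [QuasiCompact q]
    [LocallyOfFiniteType q] (hL : PicF.IsInvertible L) (h : RelProj.IsRelVeryAmple q L) :
    ∃ (G : Y.Modules) (ι : G ⟶ (Scheme.Modules.pushforward q).obj L),
      Mono ι ∧ G.IsQuasicoherent ∧ CohB1.IsFT G ∧ IsEmb (compData (canonData q L) ι) := by
  have : IsSeparated q := isSeparated_of_isRelVeryAmple h
  have : L.IsQuasicoherent := isQCoh_of_isInvertible hL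
  have : ((Scheme.Modules.pushforward q).obj L).IsQuasicoherent := Groth.QCohMod.isQCoh_pushforward (M := L) q
  haveI : CompactSpace X := QuasiCompact.compactSpace_of_compactSpace q
  exact exists_ft_isEmb hL (canonData q L) (isEmb_canonData (fun _ : PUnit.{u + 1} => (⊤ : Y.Opens))
    iSup_const fun _ => isRelVeryAmple_restrict ⊤ h)

/-- EGA II 4.4.1: the module of the definition can be taken of finite type. -/
theorem exists_ft_bundle (hY : (CompactSpace Y ∧ Y.IsSeparated) ∨ NoetherianSpace Y) (q : X ⟶ Y) [QuasiCompact q]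
    [LocallyOfFiniteType q] (hL : PicF.IsInvertible L) (h : RelProj.IsRelVeryAmple q L) :
    ∃ (E : Y.Modules) (𝒯 : RelProj.QCGrAlg Y) (j : E ⟶ 𝒯.toModule) (P : Scheme.{u}) (p : P ⟶ Y)
      (chart : ∀ (U : Y.Opens) (hU : IsAffineOpen U), ((p ⁻¹ᵁ U : P.Opens) : Scheme.{u}) ≅ Proj (𝒯.deg U hU))
      (O1 : P.Modules)
      (lam : ∀ (U : Y.Opens) (hU : IsAffineOpen U),
        O1 ⟶ (Scheme.Modules.pushforward (RelProj.emb p chart U hU)).obj (GrTwist.twist (𝒯.deg U hU) 1))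
      (i : X ⟶ P),
      Coh.IsQCoh E ∧ CohB1.IsFT E ∧ RelProj.IsGrSymAlg E 𝒯 j ∧ RelProj.IsRelProj 𝒯 p chart ∧
        RelProj.IsRelTwist 𝒯 p chart 1 O1 lam ∧ IsImmersion i ∧ i ≫ p = q ∧
        Nonempty (L ≅ (Scheme.Modules.pullback i).obj O1) := by
  obtain ⟨_, _⟩ := qcqs_of_hyp hY
  obtain ⟨G, ι, -, hq, hft, hσ⟩ := exists_ft_sub_canon q hL h
  have := hq
  obtain ⟨B⟩ := exists_bdl G
  obtain ⟨r, hr⟩ := B.exists_corr _ (IsEmb.hepi _ hσ)
  have := isImmersion_of_isEmb hr.fits hσ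
  obtain ⟨hc, τ, -⟩ := hr
  exact ⟨G, B.alg, B.j, B.P, B.p, B.chart, B.O1, B.lam, r, hq, hft, B.hj, B.hP, B.hO1, this, hc, ⟨τ.symm⟩⟩

end Groth.RelVA
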