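import Groth.Agent.RelVA.Ops
import Groth.Agent.QCohMod.QCQS
import Mathlib.AlgebraicGeometry.ProjectiveSpectrum.Proper

/-!
# Very ampleness is local on the base
-/

universe u

open CategoryTheory CategoryTheory.Limits AlgebraicGeometry Opposite TopologicalSpace
open scoped HomogeneousIdeal

set_option backward.isDefEq.respectTransparency.types false

noncomputable section

namespace Groth.RelVA

open Groth.PicAux Groth.RelTw

variable {S : Scheme.{u}}

/-- A relative `Proj` is separated. -/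
theorem isSeparated_relProj {𝒮 : RelProj.QCGrAlg S} {P : Scheme.{u}} {p : P ⟶ S}
    (chart : ∀ (U : S.Opens) (hU : IsAffineOpen U), (((p ⁻¹ᵁ U : P.Opens) : Scheme.{u}) ≅ Proj (𝒮.deg U hU))) :
    IsSeparated p := by
  refine (IsZariskiLocalAtTarget.iff_of_iSup_eq_top (P := @IsSeparated) (fun U : S.affineOpens => U.1)
    (eq_top_iff.2 fun s _ => ?_)).2 fun U => ?_
  · obtain ⟨U, hU, hs, -⟩ := exists_isAffineOpen_mem_and_subset (x := s) (U := (⊤ : S.Opens)) trivial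
    exact Opens.mem_iSup.2 ⟨⟨U, hU⟩, hs⟩
  · have : IsSeparated ((p ∣_ U.1) ≫ terminal.from (U.1 : Scheme.{u})) := by
      rw [Subsingleton.elim ((p ∣_ U.1) ≫ terminal.from (U.1 : Scheme.{u}))
        ((chart U.1 U.2).hom ≫ terminal.from (Proj (𝒮.deg U.1 U.2)))]
      infer_instance
    exact IsSeparated.of_comp (p ∣_ U.1) (terminal.from (U.1 : Scheme.{u}))

theorem isSeparated_of_isRelVeryAmple {X : Scheme.{u}} {q : X ⟶ S} {L : X.Modules}
    (h : RelProj.IsRelVeryAmple q L) : IsSeparated q := by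
  obtain ⟨E, hE, 𝒮, j, hj, P, p, chart, hP, O1, lam, hO1, i, hi, hc, -⟩ := h
  have := isSeparated_relProj chart
  rw [← hc]
  infer_instance

/-- Transport of affine immersions along an open subscheme. -/
theorem Imm.image {X : Scheme.{u}} {W : X.Opens} {G : (W : Scheme.{u}).Opens}
    {T : Subring Γ((W : Scheme.{u}), G)} (h : Imm G T) {T' : Subring Γ(X, W.ι ''ᵁ G)}
    (hT : ∀ a : Γ((W : Scheme.{u}), G), a ∈ T → (a : Γ(X, W.ι ''ᵁ G)) ∈ T') : Imm (W.ι ''ᵁ G) T' := by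
  obtain ⟨D, hD, k, hk, hkT⟩ := h
  have := hk
  refine ⟨D, hD, (W.ι.isoImage G).inv ≫ k, inferInstance, fun a => ?_⟩
  have hle : G ≤ W.ι ⁻¹ᵁ (W.ι ''ᵁ G) := (W.ι.preimage_image_eq G).ge
  have e1 : W.ι.resLE (W.ι ''ᵁ G) G hle ≫ (W.ι.isoImage G).inv ≫ k = k := by
    have e2 : W.ι.resLE (W.ι ''ᵁ G) G hle = (W.ι.isoImage G).hom := by
      rw [← cancel_mono (W.ι ''ᵁ G).ι, Scheme.Hom.resLE_comp_ι, Scheme.Hom.isoImage_hom_ι]
    rw [e2, Iso.hom_inv_id_assoc]
  have h1 := kf_resLE W.ι hle ((W.ι.isoImage G).inv ≫ k) a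
  rw [e1, Scheme.Opens.ι_appLE] at h1
  have h2 := hT _ (hkT a)
  rw [h1] at h2
  refine (congrArg (· ∈ T') ?_).mp h2
  exact (congrArg (fun m => (X.presheaf.map m).hom _) (Subsingleton.elim _ (𝟙 _))).trans
    (congr(($(X.presheaf.map_id (op (W.ι ''ᵁ G)))).hom _))

variable {X : Scheme.{u}} (q : X ⟶ S) (L : X.Modules)

/-- The sections of the direct image as a linear system. -/
def canonData : LinData q ((Scheme.Modules.pushforward q).obj L) L where
  app U := AddMonoidHom.mk' (fun e => (e : Γ(L, q ⁻¹ᵁ U))) fun _ _ => rfl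
  app_smul _ _ _ := rfl
  app_res _ _ _ _ := rfl

variable {q L}

theorem isEmb_canonData {ι : Type u} (U : ι → S.Opens) (hU : ⨆ i, U i = ⊤)
    (h : ∀ i, RelProj.IsRelVeryAmple (q ∣_ (U i)) (L.restrict (q ⁻¹ᵁ (U i)).ι)) :
    IsEmb (canonData q L) := by
  intro z
  obtain ⟨i, hi⟩ := Opens.mem_iSup.1 (hU.ge (trivial : q z ∈ (⊤ : S.Opens)))
  obtain ⟨E, hE, ω, hω⟩ := exists_isEmb (h i)
  obtain ⟨V, hV, e, hze, -⟩ := hω ⟨z, hi⟩
  set W := q ⁻¹ᵁ U i
  let G := ω.genLoc V e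
  let U' := (U i).ι ''ᵁ V
  have hU' : IsAffineOpen U' := hV.image_of_isOpenImmersion _
  have hle : q ⁻¹ᵁ U' ≤ W.ι ''ᵁ ((q ∣_ U i) ⁻¹ᵁ V) := (image_morphismRestrict_preimage q (U i) V).ge
  let toE' : Γ(E, V) → Γ((Scheme.Modules.pushforward q).obj L, U') :=
    fun x => (res L hle (ω.app V x) : Γ(L, q ⁻¹ᵁ U'))
  have hG' : W.ι ''ᵁ G ≤ q ⁻¹ᵁ U' :=
    (W.ι.image_mono (ω.genLoc_le V e)).trans (image_morphismRestrict_preimage q (U i) V).le
  have happ : ∀ {Z : X.Opens} (hZ : Z ≤ q ⁻¹ᵁ U') (x : Γ(E, V)),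
      res L hZ ((canonData q L).app U' (toE' x)) = res L (hZ.trans hle) (ω.app V x) :=
    fun hZ x => PicAux.res_res (M := L) hle hZ (ω.app V x)
  have hgen : Gen L (W.ι ''ᵁ G) (res L hG' ((canonData q L).app U' (toE' e))) := by
    rw [happ]
    exact gen_image_of_restrict W (ω.gen_genLoc V e)
  have hgenLoc : (canonData q L).genLoc U' (toE' e) = W.ι ''ᵁ G := by
    refine le_antisymm (fun w hw => ?_) ((canonData q L).le_genLoc hG' hgen)
    have hwW : w ∈ W.ι ''ᵁ ((q ∣_ U i) ⁻¹ᵁ V) := hle ((canonData q L).genLoc_le U' _ hw)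
    obtain ⟨w', hw', rfl⟩ := hwW
    let Z : (W : Scheme.{u}).Opens := W.ι ⁻¹ᵁ (canonData q L).genLoc U' (toE' e)
    have hZ : Z ≤ (q ∣_ U i) ⁻¹ᵁ V := fun v hv => by
      obtain ⟨v', hv', ev⟩ := hle ((canonData q L).genLoc_le U' _ hv)
      exact W.ι.isOpenEmbedding.injective ev ▸ hv'
    refine ⟨w', ω.le_genLoc hZ ?_ hw, rfl⟩
    have h1 := ((canonData q L).gen_genLoc U' (toE' e)).res (W.ι.image_preimage_le _)
    rw [PicAux.res_res, happ] at h1
    intro Z' hZ'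
    refine (congrArg Function.Bijective (funext fun r => restrict_smul W Z' r _)).mpr ?_
    exact h1 _ (W.ι.image_mono hZ')
  refine ⟨U', hU', toE' e, hgenLoc.ge ⟨⟨z, hi⟩, hze, rfl⟩, ?_⟩
  suffices hI : Imm (W.ι ''ᵁ G) ((rGen (canonData q L) U' (toE' e)).map (resX X hgenLoc.ge)) by
    refine hI.restrict hgenLoc.le fun a ha => ?_
    obtain ⟨b, hb, rfl⟩ := ha
    change resX X hgenLoc.le (resX X hgenLoc.ge b) ∈ _
    rw [resX_resX]
    refine (congrArg (· ∈ rGen (canonData q L) U' (toE' e)) ?_).mpr hb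
    exact (congrArg (fun m => (X.presheaf.map m).hom b) (Subsingleton.elim _ (𝟙 _))).trans
      (congr(($(X.presheaf.map_id _)).hom b))
  refine (hω.imm V hV e).image fun a ha => ?_
  refine (Subring.closure_le (t := ((rGen (canonData q L) U' (toE' e)).map (resX X hgenLoc.ge) :
    Subring Γ((W : Scheme.{u}), G)))).2 ?_ ha
  rintro _ (⟨b, rfl⟩ | ⟨x, rfl⟩)
  · refine ⟨_, base_mem_rGen (canonData q L) U' (toE' e) (b : Γ(S, U')), ?_⟩
    rw [morphismRestrict_appLE]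
    exact resX_rAp q ((canonData q L).genLoc_le U' (toE' e)) hgenLoc.ge (b : Γ(S, U'))
  · refine ⟨_, ratio_mem_rGen (canonData q L) U' (toE' e) (toE' x), ?_⟩
    refine ω.eq_ratio ?_
    refine (restrict_smul W _ _ _).trans ?_
    have h2 := congrArg (res L hgenLoc.ge) ((canonData q L).ratio_smul U' (toE' e) (toE' x))
    rw [PicAux.res_smul, PicAux.res_res, PicAux.res_res, happ, happ] at h2
    exact h2

theorem isRelVeryAmple_of_local [QuasiCompact q] {ι : Type u} (U : ι → S.Opens) (hU : ⨆ i, U i = ⊤)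
    (hL : L.IsQuasicoherent)
    (h : ∀ i, RelProj.IsRelVeryAmple (q ∣_ (U i)) (L.restrict (q ⁻¹ᵁ (U i)).ι)) :
    RelProj.IsRelVeryAmple q L := by
  have : IsSeparated q := (IsZariskiLocalAtTarget.iff_of_iSup_eq_top (P := @IsSeparated) U hU).2
    fun i => isSeparated_of_isRelVeryAmple (h i)
  have : L.IsQuasicoherent := hL
  have : ((Scheme.Modules.pushforward q).obj L).IsQuasicoherent := Groth.QCohMod.isQCoh_pushforward (M := L) q
  exact isRelVeryAmple_of_isEmb (isEmb_canonData U hU h)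

theorem isRelVeryAmple_restrict (U : S.Opens) (h : RelProj.IsRelVeryAmple q L) :
    RelProj.IsRelVeryAmple (q ∣_ U) (L.restrict (q ⁻¹ᵁ U).ι) := by
  obtain ⟨E, hE, σ, hσ⟩ := exists_isEmb h
  have hsq := (isPullback_morphismRestrict q U).flip
  obtain ⟨σ', hσ'⟩ := exists_pullData σ hsq.w
  have := isImmersion_pair_of_isPullback hsq
  exact isRelVeryAmple_of_iso ((Scheme.Modules.restrictFunctorIsoPullback (q ⁻¹ᵁ U).ι).app L).symm
    (isRelVeryAmple_of_isEmb (isEmb_pull hsq.w hσ' hσ))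

end Groth.RelVA
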