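import Groth.Prelude.Def_RelProj4
import Groth.Agent.RelSpecH.Gamma
import Groth.Agent.QCohMod.QCAlgSub
import Groth.Agent.RelVA.Local
import Groth.Agent.SymAlg.Degree
import Groth.Agent.Ega2Proj.GrCoact

/-!
# Graded maps over a morphism out of a symmetric algebra
-/

universe u

open CategoryTheory CategoryTheory.Limits AlgebraicGeometry Opposite TopologicalSpace

set_option backward.isDefEq.respectTransparency.types false

noncomputable section

namespace Groth.RelVA

variable {X Y : Scheme.{u}} (q : X ⟶ Y) [QuasiCompact q] [QuasiSeparated q]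

theorem isQC_pushAlg (A : RelSpec.QCAlg X) :
    RelSpec.IsQC (q.base _* A.presheaf) (q.c ≫ (TopCat.Presheaf.pushforward CommRingCat.{u} q.base).map A.str) := by
  haveI := Groth.QCohMod.isQCoh_toModule (B := A)
  exact RelSpecH.isQC_of_isQCoh
    (⟨q.base _* A.presheaf, TopCat.Sheaf.pushforward_sheaf_of_sheaf q.base A.isSheaf⟩ :
      Sheaf (Opens.grothendieckTopology Y) CommRingCat.{u})
    ⟨q.c ≫ (TopCat.Presheaf.pushforward CommRingCat.{u} q.base).map A.str⟩
    (Groth.QCohMod.isQCoh_pushforward (M := A.toModule) q)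

/-- The direct image of an algebra. -/
def pushAlgQC (A : RelSpec.QCAlg X) : RelSpec.QCAlg Y where
  presheaf := q.base _* A.presheaf
  isSheaf := TopCat.Sheaf.pushforward_sheaf_of_sheaf q.base A.isSheaf
  str := q.c ≫ (TopCat.Presheaf.pushforward CommRingCat.{u} q.base).map A.str
  isQC := isQC_pushAlg q A

variable {q}

open Groth.SymAlg Polynomial in
/-- A linear map into the degree one part extends to a graded map over `q`. -/
theorem exists_qGrHom {L : X.Modules} {𝒮L : RelProj.QCGrAlg X} (jL : L ⟶ 𝒮L.toModule)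
    (hjL : ∀ (V : X.Opens) (hV : IsAffineOpen V) (x : Γ(L, V)), (jL.app V) x ∈ 𝒮L.deg V hV 1)
    {E : Y.Modules} [E.IsQuasicoherent] {𝒯 : RelProj.QCGrAlg Y} {j : E ⟶ 𝒯.toModule}
    (hj : RelProj.IsGrSymAlg E 𝒯 j) (ι : E ⟶ (Scheme.Modules.pushforward q).obj L) :
    ∃ w : RelProj.QGrHom q 𝒯 𝒮L,
      ∀ (U : Y.Opens) (x : Γ(E, U)), (w.app U).hom ((j.app U) x) = (jL.app (q ⁻¹ᵁ U)) ((ι.app U) x) := by
  obtain ⟨ψ, hψ, -⟩ := hj.1 (pushAlgQC q 𝒮L.toQCAlg) (ι ≫ (Scheme.Modules.pushforward q).map jL)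
  have hj' : ∀ (U : Y.Opens) (x : Γ(E, U)),
      (ψ.hom.app (op U)).hom ((j.app U) x) = (jL.app (q ⁻¹ᵁ U)) ((ι.app U) x) := fun U x =>
    congr(Scheme.Modules.Hom.app $hψ U x)
  have hstr : ∀ U : Y.Opens, 𝒯.str.app (op U) ≫ ψ.hom.app (op U) = q.app U ≫ 𝒮L.str.app (op (q ⁻¹ᵁ U)) :=
    fun U => congr(NatTrans.app $(ψ.comm) (op U))
  refine ⟨{ app := fun U => ψ.hom.app (op U)
            naturality := fun i => (ψ.hom.naturality _).symm
            str_app := hstr
            map_mem := ?_ }, hj'⟩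
  intro U hU V hV hle d x hx
  obtain ⟨t, ht, rfl⟩ := exists_eq_liftSec hj hU hx
  let F : SymmetricAlgebra Γ(Y, U) Γ(E, U) →+* 𝒮L.presheaf.obj (op V) :=
    ((ψ.hom.app (op U)) ≫ 𝒮L.presheaf.map (homOfLE hle).op).hom.comp (liftSec 𝒯.toQCAlg j U)
  suffices hF : ∀ t, Ega2Proj.GrCoact.co (𝒮L.deg V hV) (F t) = (symCo Γ(Y, U) Γ(E, U) t).map F by
    have h1 := congrArg (fun P => Polynomial.coeff P d) (hF t)
    simp only [(mem_wt _).1 ht, Polynomial.map_monomial, Polynomial.coeff_monomial, if_true,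
      Ega2Proj.GrCoact.coeff_co] at h1
    change F t ∈ 𝒮L.deg V hV d
    exact h1 ▸ SetLike.coe_mem _
  intro t
  induction t using SymmetricAlgebra.induction with
  | algebraMap r =>
    rw [symCo_algebraMap, Polynomial.map_C]
    refine (Ega2Proj.GrCoact.co_of_mem _ ?_).trans (by rw [Polynomial.monomial_zero_left])
    change (𝒮L.presheaf.map (homOfLE hle).op).hom ((ψ.hom.app (op U)).hom _) ∈ _
    rw [liftSec_algebraMap]
    change ((𝒯.str.app (op U) ≫ ψ.hom.app (op U)) ≫ 𝒮L.presheaf.map (homOfLE hle).op).hom r ∈ _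
    rw [hstr]
    exact (congrArg (fun v => v ∈ 𝒮L.deg V hV 0)
      (congr(($(𝒮L.str.naturality (homOfLE hle).op)).hom (q.app U r)))).mp (𝒮L.str_mem V hV _)
  | ι e =>
    rw [symCo_ι, Polynomial.map_monomial]
    refine Ega2Proj.GrCoact.co_of_mem _ ?_
    change (𝒮L.presheaf.map (homOfLE hle).op).hom ((ψ.hom.app (op U)).hom _) ∈ _
    rw [liftSec_ι]
    refine (congrArg (· ∈ 𝒮L.deg V hV 1) ?_).mpr (hjL V hV (PicAux.res L hle ((ι.app U) e)))
    exact (congrArg _ (hj' U e)).trans (PicAux.app_res jL hle _).symm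
  | mul a b ha hb => rw [map_mul, map_mul, map_mul, ha, hb, Polynomial.map_mul]
  | add a b ha hb => rw [map_add, map_add, map_add, ha, hb, Polynomial.map_add]

end Groth.RelVA
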