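import Groth.Agent.RelVA.FTSub
import Groth.Agent.Ega2Proj.SpanOn
import Groth.Agent.VectorBundles.FTStalk
import Groth.Agent.QCohMod.Tensor

/-!
# Twists of finite type modules are quotients of inverse images of finite type modules
-/

universe u

open CategoryTheory CategoryTheory.Limits AlgebraicGeometry Opposite TopologicalSpace

set_option backward.isDefEq.respectTransparency.types false

noncomputable section

namespace Groth.RelVA

open Groth.PicAux Groth.Ega2Proj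

variable {Y Z : Scheme.{u}}

/-- A stalk element spanned by germs is spanned by finitely many of them near the point. -/
theorem exists_finset_span_nhds (M : Y.Modules) {κ : Type*} (D : κ → Y.Opens) (t : ∀ k, Γ(M, D k)) (y : Y)
    {v : M.presheaf.stalk y}
    (hv : v ∈ Submodule.span (Y.presheaf.stalk y)
      (Set.range fun k : {k // y ∈ D k} => Groth.QCohMod.germ M y k.2 (t k.1))) :
    ∃ (T : Finset κ) (V : Y.Opens) (hy : y ∈ V) (s : Γ(M, V)), Groth.QCohMod.germ M y hy s = v ∧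
      ∀ (z : Y) (hz : z ∈ V), Groth.QCohMod.germ M z hz s ∈ Submodule.span (Y.presheaf.stalk z)
        (Set.range fun k : {k // k ∈ T ∧ z ∈ D k} => Groth.QCohMod.germ M z k.2.2 (t k.1)) := by
  classical
  induction hv using Submodule.span_induction with
  | mem v hv =>
    obtain ⟨⟨k, hk⟩, rfl⟩ := hv
    exact ⟨{k}, D k, hk, t k, rfl, fun z hz =>
      Submodule.subset_span ⟨⟨k, Finset.mem_singleton_self k, hz⟩, rfl⟩⟩
  | zero => exact ⟨∅, ⊤, trivial, 0, map_zero _, fun z hz => by rw [map_zero]; exact Submodule.zero_mem _⟩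
  | add a b _ _ ha hb =>
    obtain ⟨T, V, hy, s, rfl, hs⟩ := ha
    obtain ⟨T', V', hy', s', rfl, hs'⟩ := hb
    refine ⟨T ∪ T', V ⊓ V', ⟨hy, hy'⟩,
      res M (inf_le_left : V ⊓ V' ≤ V) s + res M (inf_le_right : V ⊓ V' ≤ V') s', ?_, fun z hz => ?_⟩
    · rw [map_add]
      exact congrArg₂ (· + ·) (Groth.QCohMod.germ_res M _ y _ s) (Groth.QCohMod.germ_res M _ y _ s')
    · rw [map_add]
      refine Submodule.add_mem _ ?_ ?_
      · refine (congrArg (· ∈ _) (Groth.QCohMod.germ_res M (inf_le_left : V ⊓ V' ≤ V) z hz s)).mpr ?_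
        refine Submodule.span_mono ?_ (hs z hz.1)
        rintro _ ⟨⟨k, hk, hzk⟩, rfl⟩
        exact ⟨⟨k, Finset.mem_union_left _ hk, hzk⟩, rfl⟩
      · refine (congrArg (· ∈ _) (Groth.QCohMod.germ_res M (inf_le_right : V ⊓ V' ≤ V') z hz s')).mpr ?_
        refine Submodule.span_mono ?_ (hs' z hz.2)
        rintro _ ⟨⟨k, hk, hzk⟩, rfl⟩
        exact ⟨⟨k, Finset.mem_union_right _ hk, hzk⟩, rfl⟩
  | smul r a _ ha =>
    obtain ⟨T, V, hy, s, rfl, hs⟩ := ha
    obtain ⟨A, hA, r, rfl⟩ := TopCat.Presheaf.exists_germ_eq Y.presheaf r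
    refine ⟨T, A ⊓ V, ⟨hA, hy⟩, resX Y (inf_le_left : A ⊓ V ≤ A) r • res M (inf_le_right : A ⊓ V ≤ V) s, ?_,
      fun z hz => ?_⟩
    · rw [Groth.QCohMod.germ_smul]
      exact congrArg₂ (· • ·) (TopCat.Presheaf.germ_res_apply Y.presheaf (homOfLE inf_le_left) y _ r)
        (Groth.QCohMod.germ_res M _ y _ s)
    · rw [Groth.QCohMod.germ_smul]
      refine Submodule.smul_mem _ _ ?_
      exact (congrArg (· ∈ _) (Groth.QCohMod.germ_res M (inf_le_right : A ⊓ V ≤ V) z hz s)).mpr (hs z hz.2)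

variable (g : Y ⟶ Z)

/-- A finite type module spanned by sections over preimages of affine opens is a quotient of the inverse image of a
quasi-coherent module of finite type. -/
theorem exists_ft_epi [CompactSpace Y] [CompactSpace Z] [QuasiSeparatedSpace Z] [QuasiCompact g] [QuasiSeparated g]
    (M : Y.Modules) [M.IsQuasicoherent] (hM : CohB1.IsFT M)
    (h : ∀ z : Y, ∃ W : Z.affineOpens, ∃ hz : z ∈ g ⁻¹ᵁ W.1, spanOn M (g ⁻¹ᵁ W.1) z hz = ⊤) :
    ∃ (F : Z.Modules) (φ : (Scheme.Modules.pullback g).obj F ⟶ M), Coh.IsQCoh F ∧ CohB1.IsFT F ∧ Epi φ := by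
  classical
  have : ((Scheme.Modules.pushforward g).obj M).IsQuasicoherent := Groth.QCohMod.isQCoh_pushforward (M := M) g
  let κ := Σ' W : Z.affineOpens, Γ(M, g ⁻¹ᵁ W.1)
  let D : κ → Y.Opens := fun k => g ⁻¹ᵁ k.1.1
  let t : ∀ k, Γ(M, D k) := fun k => k.2
  have hloc : ∀ y : Y, ∃ (T : Finset κ) (V : Y.Opens), y ∈ V ∧ ∀ (z : Y), z ∈ V →
      Submodule.span (Y.presheaf.stalk z)
        (Set.range fun k : {k // k ∈ T ∧ z ∈ D k} => Groth.QCohMod.germ M z k.2.2 (t k.1)) = ⊤ := by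
    intro y
    obtain ⟨V₀, hy₀, ι, _, s, hs⟩ := Groth.VectorBundles.RefHullStalk.exists_spans_of_isFT M hM y
    obtain ⟨W, hzW, hW⟩ := h y
    have key : ∀ i, ∃ (T : Finset κ) (V : Y.Opens) (_ : y ∈ V) (hV : V ≤ V₀), ∀ (z : Y) (hz : z ∈ V),
        Groth.QCohMod.germ M z hz (res M hV (s i)) ∈ Submodule.span (Y.presheaf.stalk z)
          (Set.range fun k : {k // k ∈ T ∧ z ∈ D k} => Groth.QCohMod.germ M z k.2.2 (t k.1)) := by
      intro i
      have hv : Groth.QCohMod.germ M y hy₀ (s i) ∈ Submodule.span (Y.presheaf.stalk y)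
          (Set.range fun k : {k // y ∈ D k} => Groth.QCohMod.germ M y k.2 (t k.1)) := by
        refine Submodule.span_mono ?_ (Submodule.eq_top_iff'.1 hW (Groth.QCohMod.germ M y hy₀ (s i)))
        rintro _ ⟨m, rfl⟩
        exact ⟨⟨⟨W, m⟩, hzW⟩, rfl⟩
      obtain ⟨T, V, hy, σ, hσ, hspan⟩ := exists_finset_span_nhds M D t y hv
      obtain ⟨V', hyV', i₁, i₂, e⟩ := TopCat.Presheaf.germ_eq M.presheaf y hy hy₀ σ (s i) hσ
      refine ⟨T, V', hyV', i₂.le, fun z hz => ?_⟩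
      refine (congrArg (· ∈ _) ?_).mp (hspan z (i₁.le hz))
      exact (Groth.QCohMod.germ_res M i₁.le z hz σ).symm.trans (congrArg _ e)
    choose T V hyV hV hspan using key
    refine ⟨Finset.univ.biUnion T, V₀ ⊓ ⟨⋂ i, (V i : Set Y), isOpen_iInter_of_finite fun i => (V i).isOpen⟩,
      ⟨hy₀, Set.mem_iInter.2 fun i => hyV i⟩, fun z hz => eq_top_iff.2 ?_⟩
    rw [← hs z hz.1, Submodule.span_le]
    rintro _ ⟨i, rfl⟩
    refine Submodule.span_mono ?_ ((congrArg (· ∈ _)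
      (Groth.QCohMod.germ_res M (hV i) z (Set.mem_iInter.1 hz.2 i) (s i))).mp (hspan i z (Set.mem_iInter.1 hz.2 i)))
    rintro _ ⟨⟨k, hk, hzk⟩, rfl⟩
    exact ⟨⟨k, Finset.mem_biUnion.2 ⟨i, Finset.mem_univ i, hk⟩, hzk⟩, rfl⟩
  choose T V hyV hspan using hloc
  obtain ⟨c, hc⟩ := isCompact_univ.elim_finite_subcover (fun y => (V y : Set Y)) (fun y => (V y).isOpen)
    (fun y _ => Set.mem_iUnion.2 ⟨y, hyV y⟩)
  let K := (Scheme.Modules.pushforward g).obj M
  let T' : Finset (Σ' A : Z.affineOpens, Γ(K, A.1)) := (c.biUnion T).image fun k => ⟨k.1, k.2⟩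
  obtain ⟨F, ι, hι, hq, hft, hmem⟩ := exists_ft_sub_mem K T'
  refine ⟨F, ((Scheme.Modules.pullbackPushforwardAdjunction g).homEquiv F M).symm ι, hq, hft, ?_⟩
  set φ := ((Scheme.Modules.pullbackPushforwardAdjunction g).homEquiv F M).symm ι
  refine (Groth.QCohMod.epi_iff_stalk _).2 fun z v => ?_
  obtain ⟨y, hy, hzy⟩ := Set.mem_iUnion₂.1 (hc (Set.mem_univ z))
  have hle : Submodule.span (Y.presheaf.stalk z)
      (Set.range fun k : {k // k ∈ T y ∧ z ∈ D k} => Groth.QCohMod.germ M z k.2.2 (t k.1)) ≤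
      LinearMap.range (stalkLin φ z) := by
    refine Submodule.span_le.2 ?_
    rintro _ ⟨⟨k, hk, hzk⟩, rfl⟩
    obtain ⟨b, hb⟩ := hmem ⟨k.1, k.2⟩ (Finset.mem_image.2 ⟨k, Finset.mem_biUnion.2 ⟨y, hy, hk⟩, rfl⟩)
    refine ⟨Groth.QCohMod.germ _ z hzk (pullSec g F b), (stalkLin_germ φ hzk _).trans (congrArg _ ?_)⟩
    exact (Groth.RelTw.symm_app_pullSec g ι b).trans hb
  obtain ⟨a, ha⟩ := hle (Submodule.eq_top_iff'.1 (hspan y z hzy) (show M.presheaf.stalk z from v))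
  exact ⟨a, ha⟩

/-- EGA II 4.4.? : twists of finite type modules by a very ample module are such quotients. -/
theorem exists_twist_ft_epi (hZ : (CompactSpace Z ∧ Z.IsSeparated) ∨ NoetherianSpace Z) [QuasiCompact g]
    {K : Y.Modules} (hK : PicF.IsInvertible K) (hKva : RelProj.IsRelVeryAmple g K)
    (E : Y.Modules) [E.IsQuasicoherent] (hEft : CohB1.IsFT E) :
    ∃ m₀ : ℕ, ∀ m : ℕ, m₀ ≤ m →
      ∃ (F : Z.Modules) (φ : (Scheme.Modules.pullback g).obj F ⟶ CohB1.tensorMod E (CohB1.tensorPow K m)),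
        Coh.IsQCoh F ∧ CohB1.IsFT F ∧ Epi φ := by
  classical
  obtain ⟨_, _⟩ := qcqs_of_hyp hZ
  haveI : CompactSpace Y := QuasiCompact.compactSpace_of_compactSpace g
  have : IsSeparated g := isSeparated_of_isRelVeryAmple hKva
  have hA := isRelAmple_of_isRelVeryAmple g hKva
  choose W hW hzW _ using fun z : Z =>
    exists_isAffineOpen_mem_and_subset (x := z) (U := (⊤ : Z.Opens)) trivial
  obtain ⟨s, hs⟩ := isCompact_univ.elim_finite_subcover (fun z => (W z : Set Z)) (fun z => (W z).isOpen)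
    (fun z _ => Set.mem_iUnion.2 ⟨z, hzW z⟩)
  have hkey : ∀ z : Z, ∃ n₀ : ℕ, ∀ n, n₀ ≤ n →
      SpansStalks ((CohB1.tensorMod E (CohB1.tensorPow K n)).restrict (g ⁻¹ᵁ W z).ι) := by
    intro z
    have : (E.restrict (g ⁻¹ᵁ W z).ι).IsQuasicoherent :=
      Scheme.Modules.isQuasicoherent_restrictFunctor (g ⁻¹ᵁ W z).ι E
    obtain ⟨n₀, hn₀⟩ := exists_spans_twist (hA.2 ⟨W z, hW z⟩) (E.restrict (g ⁻¹ᵁ W z).ι)
      (Groth.QCohMod.isFT_of_iso ((Scheme.Modules.restrictFunctorIsoPullback _).app E).symm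
        (Groth.QCohMod.isFT_pullback (g ⁻¹ᵁ W z).ι E hEft))
    refine ⟨n₀, fun n hn => SpansStalks.of_iso ?_ (hn₀ n hn)⟩
    exact PicGrp.tensorModIso (Iso.refl _) (exists_tensorPow_restrict (L := K) _ n).some.symm ≪≫
      (exists_tensorMod_restrict (g ⁻¹ᵁ W z).ι).some.symm
  choose n₀ hn₀ using hkey
  refine ⟨s.sup n₀, fun m hm => ?_⟩
  have hKm := isInvertible_tensorPow hK m
  have := isQCoh_of_isInvertible hKm
  have : (CohB1.tensorMod E (CohB1.tensorPow K m)).IsQuasicoherent := Groth.QCohMod.isQCoh_tensorMod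
  refine exists_ft_epi g _ (Groth.QCohMod.isFT_tensorMod hEft (Groth.Ega2Proj.isFT_of_isInvertible hKm)) fun y => ?_
  obtain ⟨z, hz, hyz⟩ := Set.mem_iUnion₂.1 (hs (Set.mem_univ (g y)))
  exact ⟨⟨W z, hW z⟩, hyz, spanOn_eq_top_of_restrict _ _ (hn₀ z m ((Finset.le_sup hz).trans hm)) y hyz⟩

end Groth.RelVA
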