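import Groth.Agent.RelVA.Comp
import Groth.Agent.Chow.VeryAmple
import Groth.Agent.Ega2Proj.TwistExtend
import Mathlib.AlgebraicGeometry.QuasiAffine

/-!
# Large powers of relatively ample modules are very ample
-/

universe u

open CategoryTheory CategoryTheory.Limits AlgebraicGeometry Opposite TopologicalSpace

set_option backward.isDefEq.respectTransparency.types false

noncomputable section

namespace Groth.RelVA

open Groth.PicAux Groth.RelTw Groth.PropsBasic.Ample Groth.Ega2Proj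

variable {X Y : Scheme.{u}}

theorem isQuasiSeparated_of_ample {L : X.Modules} (hA : CohB1.IsAmple L) (q : X ⟶ Y) : QuasiSeparated q := by
  have := Groth.PropsBasic.Ample.isSeparated_of_cover hA.1 hA.2.2
  have h : QuasiSeparated (q ≫ terminal.from Y) := by
    rw [Limits.terminal.comp_from]
    infer_instance
  exact QuasiSeparated.of_comp q (terminal.from Y)

theorem isRelVeryAmple_canon [IsAffine Y] (q : X ⟶ Y) [QuasiCompact q] [QuasiSeparated q] {M : X.Modules}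
    (hM : PicF.IsInvertible M)
    (h : ∀ z : X, ∃ t : Γ(M, ⊤), z ∈ gloc t ∧ Imm (gloc t)
      (Subring.closure (Set.range (q.appLE ⊤ (gloc t) le_top).hom ∪
        {r | ∃ t' : Γ(M, ⊤), res M (le_top : gloc t ≤ ⊤) t' = r • res M (le_top : gloc t ≤ ⊤) t}))) :
    RelProj.IsRelVeryAmple q M := by
  have : M.IsQuasicoherent := isQCoh_of_isInvertible hM
  have : ((Scheme.Modules.pushforward q).obj M).IsQuasicoherent :=
    Groth.QCohMod.isQCoh_pushforward (M := M) q
  refine isRelVeryAmple_of_isEmb (σ := canonData q M) fun z => ?_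
  obtain ⟨t, hz, hI⟩ := h z
  exact ⟨⊤, isAffineOpen_top Y, t, by rw [genLoc_canon]; exact hz, imm_canon q M rfl hI⟩

/-- Over an affine base. -/
theorem exists_isRelVeryAmple_tensor_affine [IsAffine Y] (q : X ⟶ Y) [QuasiCompact q] [LocallyOfFiniteType q]
    {L L' : X.Modules} (hA : CohB1.IsAmple L) (hL' : PicF.IsInvertible L') :
    ∃ n₀ : ℕ, ∀ n, n₀ ≤ n → RelProj.IsRelVeryAmple q (CohB1.tensorMod (CohB1.tensorPow L n) L') := by
  classical
  haveI : CompactSpace X := hA.2.1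
  have := isQuasiSeparated_of_ample hA q
  have := isQCoh_of_isInvertible hL'
  obtain ⟨j₀, hj₀⟩ := exists_spans_twist hA L' (isFT_of_isInvertible hL')
  let M := CohB1.tensorMod L' (CohB1.tensorPow L j₀)
  have hM : PicF.IsInvertible M := isInvertible_tensorMod hL' (isInvertible_tensorPow hA.1 j₀)
  choose T hT using fun x : X => (hj₀ j₀ le_rfl).exists_mem_gloc hM x
  choose W hWaff hxW hWO hWsec using fun x : X =>
    Groth.Chow.exists_uniform_sections_le hA x (gloc (T x)) (hT x)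
  obtain ⟨s, hs⟩ := isCompact_univ.elim_finite_subcover (fun x => (W x : Set X))
    (fun x => (W x).isOpen) (fun x _ => Set.mem_iUnion.2 ⟨x, hxW x⟩)
  have hft : ∀ x : X, ∃ G : Finset Γ(X, W x),
      Subring.closure (Set.range (q.appLE ⊤ (W x) le_top).hom ∪ (G : Set Γ(X, W x))) = ⊤ := by
    intro x
    have hft := q.finiteType_appLE (isAffineOpen_top Y) (hWaff x) (le_top (a := W x))
    letI : Algebra Γ(Y, ⊤) Γ(X, W x) := (q.appLE ⊤ (W x) le_top).hom.toAlgebra
    haveI : Algebra.FiniteType Γ(Y, ⊤) Γ(X, W x) := hft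
    obtain ⟨G, hG⟩ := Algebra.FiniteType.out (R := Γ(Y, ⊤)) (A := Γ(X, W x))
    refine ⟨G, ?_⟩
    have h2 := congrArg Subalgebra.toSubring hG
    rw [Algebra.adjoin_eq_ring_closure, Algebra.top_toSubring] at h2
    exact h2
  choose G hG using hft
  choose n₁ hn₁ using fun x => hWsec x (G x)
  refine ⟨s.sup n₁ + j₀, fun n hn => ?_⟩
  obtain ⟨m, rfl⟩ : ∃ m, n = m + j₀ := ⟨n - j₀, by omega⟩
  have hLm := isInvertible_tensorPow hA.1 m
  obtain ⟨a⟩ : Nonempty (CohB1.tensorMod (CohB1.tensorPow L m) M ≅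
      CohB1.tensorMod (CohB1.tensorPow L (m + j₀)) L') :=
    ⟨PicGrp.tensorModIso (Iso.refl _) (exists_braiding _ _).choose ≪≫ (exists_associator _ _ _).choose.symm ≪≫
      PicGrp.tensorModIso (tensorPow_add L m j₀).some.symm (Iso.refl _)⟩
  refine isRelVeryAmple_canon q (isInvertible_tensorMod (isInvertible_tensorPow hA.1 _) hL') fun z => ?_
  obtain ⟨x, hxs, hzx⟩ := Set.mem_iUnion₂.1 (hs (Set.mem_univ z))
  obtain ⟨σ, hσ, hb⟩ := hn₁ x m ((Finset.le_sup hxs).trans (by omega))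
  let t := a.hom.app ⊤ (tmulSec σ (T x))
  have hgt : gloc t = W x := by
    rw [gloc_map a.hom, gloc_tmulSec hLm hM, hσ, inf_eq_left]
    exact hWO x
  refine ⟨t, hgt.ge hzx, ?_⟩
  refine ((imm_of_isAffineOpen (hWaff x)).mono (hG x).ge).restrict hgt.le fun w hw => ?_
  refine (Subring.closure_le (t := (Subring.closure (Set.range (q.appLE ⊤ (gloc t) le_top).hom ∪
    {r | ∃ t' : Γ(CohB1.tensorMod (CohB1.tensorPow L (m + j₀)) L', ⊤),
      res _ (le_top : gloc t ≤ ⊤) t' = r • res _ (le_top : gloc t ≤ ⊤) t})).comap (resX X hgt.le))).2 ?_ hw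
  rintro _ (⟨c, rfl⟩ | hg)
  · exact Subring.subset_closure (Or.inl ⟨c, (resX_rAp q le_top hgt.le c).symm⟩)
  · rename_i g
    obtain ⟨b, hb⟩ := hb g hg
    refine Subring.subset_closure (Or.inr ⟨a.hom.app ⊤ (tmulSec b (T x)), ?_⟩)
    have h1 := congrArg (res _ hgt.le) hb
    rw [PicAux.res_res, PicAux.res_smul, PicAux.res_res] at h1
    rw [← PicAux.app_res, ← PicAux.app_res, res_tmulSec, res_tmulSec, h1, tmulSec_smul_left,
      Scheme.Modules.Hom.app_smul]

/-- Over a quasi-compact base. -/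
theorem exists_isRelVeryAmple_tensor [CompactSpace Y] (f : X ⟶ Y) [QuasiCompact f] [LocallyOfFiniteType f]
    {L L' : X.Modules} (hL : PicF.IsInvertible L) (hL' : PicF.IsInvertible L') (h : RelAmple.IsRelAmple f L) :
    ∃ n₀ : ℕ, ∀ n, n₀ ≤ n → RelProj.IsRelVeryAmple f (CohB1.tensorMod (CohB1.tensorPow L n) L') := by
  classical
  choose W hW hzW _ using fun y : Y =>
    exists_isAffineOpen_mem_and_subset (x := y) (U := (⊤ : Y.Opens)) trivial
  obtain ⟨s, hs⟩ := isCompact_univ.elim_finite_subcover (fun y => (W y : Set Y)) (fun y => (W y).isOpen)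
    (fun y _ => Set.mem_iUnion.2 ⟨y, hzW y⟩)
  have hkey : ∀ y : Y, ∃ n₀ : ℕ, ∀ n, n₀ ≤ n → RelProj.IsRelVeryAmple (f ∣_ W y)
      ((CohB1.tensorMod (CohB1.tensorPow L n) L').restrict (f ⁻¹ᵁ W y).ι) := by
    intro y
    have : IsAffine (W y : Scheme.{u}) := hW y
    obtain ⟨n₀, hn₀⟩ := exists_isRelVeryAmple_tensor_affine (f ∣_ W y) (h.2 ⟨W y, hW y⟩)
      (Groth.Ega2Proj.isInvertible_restrict (f ⁻¹ᵁ W y).ι hL')
    refine ⟨n₀, fun n hn => isRelVeryAmple_of_iso ?_ (hn₀ n hn)⟩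
    exact PicGrp.tensorModIso (exists_tensorPow_restrict (L := L) _ n).some.symm (Iso.refl _) ≪≫
      (exists_tensorMod_restrict (f ⁻¹ᵁ W y).ι).some.symm
  choose n₀ hn₀ using hkey
  refine ⟨s.sup n₀, fun n hn => ?_⟩
  refine isRelVeryAmple_of_local (ι := s) (fun z => W z.1) (eq_top_iff.2 fun w _ => ?_)
    (isQCoh_of_isInvertible (isInvertible_tensorMod (isInvertible_tensorPow hL n) hL'))
    fun z => hn₀ z.1 n ((Finset.le_sup z.2).trans hn)
  obtain ⟨z, hz, hwz⟩ := Set.mem_iUnion₂.1 (hs (Set.mem_univ w))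
  exact Opens.mem_iSup.2 ⟨⟨z, hz⟩, hwz⟩

/-- Every invertible module on a quasi-affine scheme is very ample relative to `toSpecΓ`. -/
theorem isRelVeryAmple_toSpecΓ [X.IsQuasiAffine] {L : X.Modules} (hL : PicF.IsInvertible L) :
    RelProj.IsRelVeryAmple X.toSpecΓ L := by
  refine isRelVeryAmple_canon X.toSpecΓ hL fun z => ?_
  obtain ⟨U, e, hzU, he⟩ := (isInvertible_iff_exists_gen L).1 hL z
  obtain ⟨F, hF, hzF⟩ := (isAffineOpen_top (Spec Γ(X, ⊤))).exists_basicOpen_le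
    (V := X.toSpecΓ ''ᵁ U) ⟨X.toSpecΓ z, ⟨z, hzU, rfl⟩⟩ trivial
  let g : Γ(X, ⊤) := X.toSpecΓ.appTop.hom F
  have hgB : X.toSpecΓ ⁻¹ᵁ (Spec Γ(X, ⊤)).basicOpen F = X.basicOpen g := Scheme.preimage_basicOpen _ F
  have hgU : X.basicOpen g ≤ U := by
    rw [← hgB]
    exact (X.toSpecΓ.preimage_mono hF).trans (X.toSpecΓ.preimage_image_eq U).le
  have hzg : z ∈ X.basicOpen g := hgB.le hzF
  let t₀ : Γ(Coh.structureModule X, ⊤) := g • oneSec X ⊤
  have ht₀ : gloc t₀ = X.basicOpen g := by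
    have h1 := gloc_inf_eq_basicOpen (L := Coh.structureModule X) (t := t₀) (gen_oneSec (⊤ : X.Opens)) (c := g)
      (PicAux.res_self _ _)
    rwa [inf_top_eq] at h1
  have hle : gloc t₀ ≤ U := ht₀.le.trans hgU
  have hO : PicF.IsInvertible (Coh.structureModule X) := isInvertible_tensorPow hL 0
  obtain ⟨k₀, hk₀⟩ := Groth.Chow.exists_extend_sec hL hO t₀ (res L hle e)
  obtain ⟨b, hb⟩ := hk₀ k₀ le_rfl
  let ψ : CohB1.tensorMod L (CohB1.tensorPow (Coh.structureModule X) k₀) ≅ L :=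
    PicGrp.tensorModIso (Iso.refl L) (tensorPow_structure k₀).some ≪≫ SecTwist.unitorR L
  let t : Γ(L, ⊤) := ψ.hom.app ⊤ b
  have hgen : gloc t₀ ≤ gloc t := by
    rw [gloc_map ψ.hom]
    refine le_gloc ?_
    rw [hb]
    exact (he.res hle).tensor ((gen_gloc t₀ le_rfl).pow k₀)
  refine ⟨t, hgen (ht₀.ge hzg), ?_⟩
  refine ⟨Spec Γ(X, ⊤), inferInstance, (gloc t).ι ≫ X.toSpecΓ, inferInstance, fun a => ?_⟩
  refine Subring.subset_closure (Or.inl ⟨kf (⊤ : (Spec Γ(X, ⊤)).Opens).ι a, ?_⟩)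
  rw [← kf_resLE X.toSpecΓ (le_top : gloc t ≤ _), Scheme.Hom.resLE_comp_ι]

end Groth.RelVA
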