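import Groth.Agent.RelVA.Imm
import Mathlib.AlgebraicGeometry.Morphisms.FiniteType
import Mathlib.AlgebraicGeometry.Morphisms.QuasiCompact

/-!
# Immersions into affine schemes need finitely many functions over a finite type base change
-/

universe u

open CategoryTheory CategoryTheory.Limits AlgebraicGeometry Opposite TopologicalSpace

set_option backward.isDefEq.respectTransparency.types false

noncomputable section

namespace Groth.RelVA

open Groth.PicAux (resX resX_resX)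

theorem exists_finite_of_mem_closure {R : Type*} [CommRing R] (A s : Set R) {x : R}
    (hx : x ∈ Subring.closure (A ∪ s)) :
    ∃ t : Finset R, (t : Set R) ⊆ s ∧ x ∈ Subring.closure (A ∪ (t : Set R)) := by
  classical
  induction hx using Subring.closure_induction with
  | mem y hy =>
    rcases hy with hy | hy
    · exact ⟨∅, by simp, Subring.subset_closure (Or.inl hy)⟩
    · exact ⟨{y}, by simpa using hy, Subring.subset_closure (Or.inr (by simp))⟩
  | zero => exact ⟨∅, by simp, zero_mem _⟩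
  | one => exact ⟨∅, by simp, one_mem _⟩
  | add a b _ _ ha hb =>
    obtain ⟨t₁, h₁, ha⟩ := ha
    obtain ⟨t₂, h₂, hb⟩ := hb
    refine ⟨t₁ ∪ t₂, by simp [h₁, h₂], add_mem (Subring.closure_mono ?_ ha) (Subring.closure_mono ?_ hb)⟩ <;>
      simp only [Finset.coe_union] <;> intro w hw <;> aesop
  | neg a _ ha =>
    obtain ⟨t₁, h₁, ha⟩ := ha
    exact ⟨t₁, h₁, neg_mem ha⟩
  | mul a b _ _ ha hb =>
    obtain ⟨t₁, h₁, ha⟩ := ha
    obtain ⟨t₂, h₂, hb⟩ := hb
    refine ⟨t₁ ∪ t₂, by simp [h₁, h₂], mul_mem (Subring.closure_mono ?_ ha) (Subring.closure_mono ?_ hb)⟩ <;>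
      simp only [Finset.coe_union] <;> intro w hw <;> aesop

theorem surjective_app_congr {Z D : Scheme.{u}} (k : Z ⟶ D) {W W' : D.Opens} (e : W = W')
    (h : Function.Surjective (k.app W)) : Function.Surjective (k.app W') := by subst e; exact h

/-- Near each point an immersion into an affine scheme is a closed immersion over a basic open. -/
theorem exists_basicOpen_closed {Z D : Scheme.{u}} [IsAffine D] (k : Z ⟶ D) [IsImmersion k] (z : Z) :
    ∃ F : Γ(D, ⊤), k z ∈ D.basicOpen F ∧ IsAffineOpen (k ⁻¹ᵁ D.basicOpen F) ∧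
      Function.Surjective (k.app (D.basicOpen F)) := by
  have hz : k z ∈ k.coborderRange := subset_coborder ⟨z, rfl⟩
  obtain ⟨F, hF, hzF⟩ := (isAffineOpen_top D).exists_basicOpen_le (V := k.coborderRange) ⟨k z, hz⟩ trivial
  let W := k.coborderRange
  let V₀ : (W : Scheme.{u}).Opens := W.ι ⁻¹ᵁ D.basicOpen F
  have hV₀ : IsAffineOpen V₀ :=
    ((isAffineOpen_top D).basicOpen F).preimage_of_isOpenImmersion W.ι (by rwa [Scheme.Opens.opensRange_ι])
  have himg : W.ι ''ᵁ V₀ = D.basicOpen F := by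
    rw [Scheme.Hom.image_preimage_eq_opensRange_inf, Scheme.Opens.opensRange_ι, inf_eq_right]
    exact hF
  have haff : IsAffineOpen (k ⁻¹ᵁ D.basicOpen F) := by
    rw [← himg, ← Scheme.Hom.liftCoborder_preimage]
    exact hV₀.preimage k.liftCoborder
  have hsurj : Function.Surjective (k.app (W.ι ''ᵁ V₀)) := by
    have h1 := k.liftCoborder.app_surjective V₀ hV₀
    rw [liftCoborder_app] at h1
    intro y
    obtain ⟨x, hx⟩ := h1 ((Z.presheaf.map (eqToHom (k.liftCoborder_preimage V₀)).op).hom y)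
    exact ⟨x, (ConcreteCategory.bijective_of_isIso
      (Z.presheaf.map (eqToHom (k.liftCoborder_preimage V₀)).op)).1 hx⟩
  exact ⟨F, hzF, haff, surjective_app_congr k himg hsurj⟩

variable {X : Scheme.{u}}

theorem image_basicOpen_kf {G : X.Opens} {D : Scheme.{u}} (k : (G : Scheme.{u}) ⟶ D) (F : Γ(D, ⊤)) :
    G.ι ''ᵁ (k ⁻¹ᵁ D.basicOpen F) = X.basicOpen (kf k F) := by
  rw [Scheme.preimage_basicOpen, Scheme.image_basicOpen]
  have e : kf k F = X.presheaf.map (eqToHom G.ι_image_top.symm).op ((k.appTop).hom F) := by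
    rw [kf, CommRingCat.hom_comp, RingHom.comp_apply, Scheme.Opens.topIso_hom]
    rfl
  rw [e, Scheme.basicOpen_res_eq, Scheme.Opens.ι_appIso, Iso.refl_inv]
  rfl

theorem resX_toScheme {G : X.Opens} {D : Scheme.{u}} (k : (G : Scheme.{u}) ⟶ D) (a : Γ(D, ⊤))
    {V : (G : Scheme.{u}).Opens} (hV : V ≤ ⊤) (h : G.ι ''ᵁ V ≤ G) :
    (resX (G : Scheme.{u}) hV (k.appTop.hom a) : Γ(X, G.ι ''ᵁ V)) = resX X h (kf k a) := by
  rw [kf, CommRingCat.hom_comp, RingHom.comp_apply, Scheme.Opens.topIso_hom]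
  refine Eq.trans ?_ (congr(($(X.presheaf.map_comp _ (homOfLE h).op)).hom (k.appTop.hom a)))
  exact congrArg (fun m => (X.presheaf.map m).hom (k.appTop.hom a)) (Subsingleton.elim _ _)

/-- `G` immerses by functions in `T` once it is covered by affine basic opens whose functions are fractions
of elements of `T`. -/
theorem imm_of_cover {G : X.Opens} (T : Subring Γ(X, G)) {ι : Type*} (h : ι → Γ(X, G)) (hT : ∀ i, h i ∈ T)
    (hcov : G ≤ ⨆ i, X.basicOpen (h i)) (haff : ∀ i, IsAffineOpen (X.basicOpen (h i)))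
    (hsurj : ∀ i (b : Γ(X, X.basicOpen (h i))), ∃ (N : ℕ) (a : Γ(X, G)), a ∈ T ∧
      b * resX X (X.basicOpen_le (h i)) (h i) ^ N = resX X (X.basicOpen_le (h i)) a) :
    Imm G T := by
  let C : CommRingCat.{u} := CommRingCat.of T
  let ψ : C ⟶ Γ((G : Scheme.{u}), ⊤) := CommRingCat.ofHom T.subtype ≫ G.topIso.inv
  let k : (G : Scheme.{u}) ⟶ Spec C := (G : Scheme.{u}).toSpecΓ ≫ Spec.map ψ
  have hk : ∀ t : T, kf k ((Scheme.ΓSpecIso C).inv.hom t) = t.1 := by
    intro t
    have e1 : k.appTop = (Scheme.ΓSpecIso C).hom ≫ ψ := by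
      rw [Scheme.Hom.comp_appTop, Scheme.toSpecΓ_appTop, Scheme.ΓSpecIso_naturality]
    rw [kf, e1, Category.assoc, Category.assoc, Iso.inv_hom_id, Category.comp_id]
    exact congrArg T.subtype (congr(($((Scheme.ΓSpecIso C).inv_hom_id)).hom t))
  refine ⟨Spec C, inferInstance, k, ?_, fun a => ?_⟩
  swap
  · have e : (Scheme.ΓSpecIso C).inv.hom ((Scheme.ΓSpecIso C).hom.hom a) = a :=
      congr(($((Scheme.ΓSpecIso C).hom_inv_id)).hom a)
    rw [← e, hk]
    exact ((Scheme.ΓSpecIso C).hom.hom a).2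
  let F : ι → Γ(Spec C, ⊤) := fun i => (Scheme.ΓSpecIso C).inv.hom ⟨h i, hT i⟩
  let W : (Spec C).Opens := ⨆ i, (Spec C).basicOpen (F i)
  have himg : ∀ i, G.ι ''ᵁ (k ⁻¹ᵁ (Spec C).basicOpen (F i)) = X.basicOpen (h i) := fun i => by
    rw [image_basicOpen_kf]
    exact congrArg X.basicOpen (hk _)
  have hi : ∀ i, IsImmersion (k ∣_ (Spec C).basicOpen (F i)) := by
    intro i
    set DF := (Spec C).basicOpen (F i)
    have : IsAffine (DF : Scheme.{u}) := (isAffineOpen_top (Spec C)).basicOpen (F i)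
    have hBaff : IsAffineOpen (k ⁻¹ᵁ DF) :=
      (Scheme.Hom.isAffineOpen_iff_of_isOpenImmersion G.ι).1 (by rw [himg i]; exact haff i)
    have : IsAffine ((k ⁻¹ᵁ DF : (G : Scheme.{u}).Opens) : Scheme.{u}) := hBaff
    have hs : Function.Surjective (k.app DF) := by
      intro b
      have hle : G.ι ''ᵁ (k ⁻¹ᵁ DF) ≤ G := Scheme.Opens.ι_image_le _ _
      obtain ⟨N, a, ha, hab⟩ := hsurj i (resX X (himg i).ge (b : Γ(X, G.ι ''ᵁ (k ⁻¹ᵁ DF))))
      let A := resX (Spec C) (le_top : DF ≤ ⊤) ((Scheme.ΓSpecIso C).inv.hom ⟨a, ha⟩)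
      let H := resX (Spec C) (le_top : DF ≤ ⊤) (F i)
      have hH : IsUnit H := (Spec C).toRingedSpace.isUnit_res_basicOpen (F i)
      have happ : ∀ c : Γ(Spec C, ⊤), ((k.app DF).hom (resX (Spec C) (le_top : DF ≤ ⊤) c) :
          Γ(X, G.ι ''ᵁ (k ⁻¹ᵁ DF))) = resX X hle (kf k c) := fun c =>
        (congr(($(k.naturality (homOfLE (le_top : DF ≤ ⊤)).op)).hom c)).trans (resX_toScheme k c le_top hle)
      obtain ⟨H', hH'⟩ := hH.exists_right_inv
      refine ⟨A * H' ^ N, ?_⟩
      have h1 : (k.app DF).hom (A * H' ^ N) * (k.app DF).hom H ^ N = (k.app DF).hom A := by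
        rw [← map_pow, ← map_mul, mul_assoc, ← mul_pow, mul_comm H' H, hH', one_pow, mul_one]
      refine (((hH.map (k.app DF).hom).pow N).mul_left_inj).1 (h1.trans ?_)
      have hA : ((k.app DF).hom A : Γ(X, G.ι ''ᵁ (k ⁻¹ᵁ DF))) = resX X hle a :=
        (happ _).trans (congrArg (resX X hle) (hk ⟨a, ha⟩))
      have hH2 : ((k.app DF).hom H : Γ(X, G.ι ''ᵁ (k ⁻¹ᵁ DF))) = resX X hle (h i) :=
        (happ _).trans (congrArg (resX X hle) (hk ⟨h i, hT i⟩))
      rw [hA, hH2]
      have h2 := congrArg (resX X (himg i).le) hab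
      rw [map_mul, map_pow, resX_resX, resX_resX, resX_resX] at h2
      rw [← h2]
      congr 1
      exact (congrArg (fun m => (X.presheaf.map m).hom b) (Subsingleton.elim _ (𝟙 _))).trans
        (congr(($(X.presheaf.map_id _)).hom b))
    have : IsClosedImmersion (k ∣_ DF) := by
      refine IsClosedImmersion.of_surjective_of_isAffine _ ?_
      rw [morphismRestrict_appTop]
      intro y
      obtain ⟨v, rfl⟩ := (ConcreteCategory.bijective_of_isIso
        ((G : Scheme.{u}).presheaf.map (eqToHom (image_morphismRestrict_preimage k DF ⊤)).op)).2 y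
      obtain ⟨x, rfl⟩ := surjective_app_congr k (Scheme.Opens.ι_image_top DF).symm hs v
      exact ⟨x, rfl⟩
    infer_instance
  have hW : k ⁻¹ᵁ W = ⊤ := eq_top_iff.2 fun z _ => by
    obtain ⟨i, hz⟩ := Opens.mem_iSup.1 (hcov z.2)
    rw [← himg i] at hz
    obtain ⟨z', hz', e⟩ := hz
    exact Opens.mem_iSup.2 ⟨i, G.ι.isOpenEmbedding.injective e ▸ hz'⟩
  have h2 : IsImmersion (k ∣_ W) := by
    refine IsZariskiLocalAtTarget.of_iSup_eq_top (P := @IsImmersion)
      (fun i => W.ι ⁻¹ᵁ (Spec C).basicOpen (F i)) (eq_top_iff.2 fun w _ => ?_) fun i => ?_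
    · obtain ⟨i, hi'⟩ := Opens.mem_iSup.1 w.2
      exact Opens.mem_iSup.2 ⟨i, hi'⟩
    · rw [MorphismProperty.arrow_mk_iso_iff (P := @IsImmersion) (morphismRestrictRestrict k W _),
        MorphismProperty.arrow_mk_iso_iff (P := @IsImmersion) (morphismRestrictEq k
          (show W.ι ''ᵁ W.ι ⁻¹ᵁ (Spec C).basicOpen (F i) = (Spec C).basicOpen (F i) by
            rw [Scheme.Hom.image_preimage_eq_opensRange_inf, Scheme.Opens.opensRange_ι, inf_eq_right]
            exact le_iSup (fun j => (Spec C).basicOpen (F j)) i))]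
      exact hi i
  have h3 : IsImmersion ((k ⁻¹ᵁ W).ι ≫ k) := morphismRestrict_ι k W ▸ inferInstance
  have : IsIso (k ⁻¹ᵁ W).ι := by
    rw [hW]
    exact (Scheme.topIso _).isIso_hom
  have h4 : IsImmersion (inv (k ⁻¹ᵁ W).ι ≫ (k ⁻¹ᵁ W).ι ≫ k) := inferInstance
  simpa using h4

/-- Over a finite type morphism finitely many functions suffice. -/
theorem exists_finite_imm {Y : Scheme.{u}} (f : X ⟶ Y) [LocallyOfFiniteType f] {V : Y.Opens}
    (hV : IsAffineOpen V) {G : X.Opens} (hG : G ≤ f ⁻¹ᵁ V) (hc : IsCompact (G : Set X)) (s : Set Γ(X, G))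
    (h : Imm G (Subring.closure (Set.range (f.appLE V G hG).hom ∪ s))) :
    ∃ R : Finset Γ(X, G), (R : Set Γ(X, G)) ⊆ s ∧
      Imm G (Subring.closure (Set.range (f.appLE V G hG).hom ∪ (R : Set Γ(X, G)))) := by
  classical
  obtain ⟨D, hD, k, hk, hkT⟩ := h
  have := hk
  set A := Set.range (f.appLE V G hG).hom
  choose F hzF haff hsurj using fun z : G => exists_basicOpen_closed k z
  let B : G → X.Opens := fun z => X.basicOpen (kf k (F z))
  have hzB : ∀ z : G, z.1 ∈ B z := fun z => (image_basicOpen_kf k (F z)).le ⟨z, hzF z, rfl⟩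
  have hBaff : ∀ z, IsAffineOpen (B z) := fun z => by
    have h1 := (haff z).image_of_isOpenImmersion G.ι
    rwa [image_basicOpen_kf] at h1
  have hBG : ∀ z, B z ≤ G := fun z => X.basicOpen_le _
  obtain ⟨t, ht⟩ := hc.elim_finite_subcover (fun z : G => (B z : Set X)) (fun z => (B z).isOpen)
    (fun z hz => Set.mem_iUnion.2 ⟨⟨z, hz⟩, hzB ⟨z, hz⟩⟩)
  have hfrac : ∀ (z : G) (b : Γ(X, B z)), ∃ (N : ℕ) (a : Γ(D, ⊤)),
      b * resX X (hBG z) (kf k (F z)) ^ N = resX X (hBG z) (kf k a) := by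
    intro z b
    have himg := image_basicOpen_kf k (F z)
    obtain ⟨x, hx⟩ := hsurj z (resX X himg.le b : Γ(X, G.ι ''ᵁ (k ⁻¹ᵁ D.basicOpen (F z))))
    have := (isAffineOpen_top D).isLocalization_basicOpen (F z)
    obtain ⟨⟨a, _, N, rfl⟩, ha⟩ := IsLocalization.surj (M := Submonoid.powers (F z)) x
    rw [RingHom.algebraMap_toAlgebra, map_pow] at ha
    refine ⟨N, a, ?_⟩
    have hle : G.ι ''ᵁ (k ⁻¹ᵁ D.basicOpen (F z)) ≤ G := Scheme.Opens.ι_image_le _ _
    have happ : ∀ c : Γ(D, ⊤), ((k.app (D.basicOpen (F z))).hom (resX D (D.basicOpen_le (F z)) c) :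
        Γ(X, G.ι ''ᵁ (k ⁻¹ᵁ D.basicOpen (F z)))) = resX X hle (kf k c) := fun c =>
      (congr(($(k.naturality (homOfLE (D.basicOpen_le (F z))).op)).hom c)).trans (resX_toScheme k c le_top hle)
    have h1 := congrArg (fun v => ((k.app (D.basicOpen (F z))).hom v : Γ(X, G.ι ''ᵁ (k ⁻¹ᵁ D.basicOpen (F z))))) ha
    simp only [map_mul, map_pow] at h1
    erw [happ, happ, hx] at h1
    have h1' : resX X himg.le b * resX X hle (kf k (F z)) ^ N = resX X hle (kf k a) := h1
    have h2 := congrArg (resX X himg.ge) h1'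
    rw [map_mul, map_pow, resX_resX, resX_resX, resX_resX] at h2
    refine Eq.trans ?_ h2
    congr 1
    exact ((congrArg (fun m => (X.presheaf.map m).hom b) (Subsingleton.elim _ (𝟙 _))).trans
      (congr(($(X.presheaf.map_id _)).hom b))).symm
  choose N a ha using hfrac
  have hgen : ∀ z, ∃ S : Finset Γ(X, B z),
      Subring.closure (Set.range (f.appLE V (B z) ((hBG z).trans hG)) ∪ (S : Set Γ(X, B z))) = ⊤ := by
    intro z
    have hft := f.finiteType_appLE hV (hBaff z) ((hBG z).trans hG)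
    letI : Algebra Γ(Y, V) Γ(X, B z) := (f.appLE V (B z) ((hBG z).trans hG)).hom.toAlgebra
    haveI : Algebra.FiniteType Γ(Y, V) Γ(X, B z) := hft
    obtain ⟨S, hS⟩ := Algebra.FiniteType.out (R := Γ(Y, V)) (A := Γ(X, B z))
    refine ⟨S, ?_⟩
    have h2 := congrArg Subalgebra.toSubring hS
    rw [Algebra.adjoin_eq_ring_closure, Algebra.top_toSubring] at h2
    exact h2
  choose S hS using hgen
  choose tF htFs htF using fun z => exists_finite_of_mem_closure A s (hkT (F z))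
  choose tA htAs htA using fun (z : G) (b : Γ(X, B z)) => exists_finite_of_mem_closure A s (hkT (a z b))
  let R : Finset Γ(X, G) := t.biUnion fun z => tF z ∪ (S z).biUnion (tA z)
  refine ⟨R, ?_, ?_⟩
  · intro w hw
    simp only [R, Finset.coe_biUnion, Finset.coe_union, Set.mem_iUnion, Set.mem_union] at hw
    obtain ⟨z, -, hw | ⟨b, -, hw⟩⟩ := hw
    · exact htFs z hw
    · exact htAs z b hw
  have hFR : ∀ z : t, kf k (F z.1) ∈ Subring.closure (A ∪ (R : Set Γ(X, G))) := fun z =>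
    Subring.closure_mono (Set.union_subset_union le_rfl fun w hw =>
      Finset.mem_biUnion.2 ⟨z.1, z.2, Finset.mem_union_left _ hw⟩) (htF z.1)
  refine imm_of_cover _ (fun z : t => kf k (F z.1)) hFR ?_ (fun z => hBaff z.1) fun z b => ?_
  · intro w hw
    obtain ⟨z, hz, hwz⟩ := Set.mem_iUnion₂.1 (ht hw)
    exact Opens.mem_iSup.2 ⟨⟨z, hz⟩, hwz⟩
  set T := Subring.closure (A ∪ (R : Set Γ(X, G)))
  set H := resX X (hBG z.1) (kf k (F z.1))
  have hb : b ∈ Subring.closure (Set.range (f.appLE V (B z.1) ((hBG z.1).trans hG)) ∪ (S z.1 : Set Γ(X, B z.1))) := by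
    rw [hS z.1]; trivial
  induction hb using Subring.closure_induction with
  | mem w hw =>
    rcases hw with ⟨c, rfl⟩ | hw
    · refine ⟨0, (f.appLE V G hG).hom c, Subring.subset_closure (Or.inl ⟨c, rfl⟩), ?_⟩
      rw [pow_zero, mul_one]
      exact (congr(($(Scheme.Hom.appLE_map f hG (homOfLE (hBG z.1)).op)).hom c)).symm
    · refine ⟨N z.1 w, kf k (a z.1 w), ?_, ha z.1 w⟩
      exact Subring.closure_mono (Set.union_subset_union le_rfl fun v hv => Finset.mem_biUnion.2
        ⟨z.1, z.2, Finset.mem_union_right _ (Finset.mem_biUnion.2 ⟨w, hw, hv⟩)⟩) (htA z.1 w)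
  | zero => exact ⟨0, 0, zero_mem _, by simp⟩
  | one => exact ⟨0, 1, one_mem _, by simp⟩
  | add x y _ _ hx hy =>
    obtain ⟨n, c, hc, ex⟩ := hx
    obtain ⟨m, d, hd, ey⟩ := hy
    refine ⟨n + m, c * kf k (F z.1) ^ m + d * kf k (F z.1) ^ n,
      add_mem (mul_mem hc (pow_mem (hFR z) m)) (mul_mem hd (pow_mem (hFR z) n)), ?_⟩
    simp only [map_add, map_mul, map_pow, ← ex, ← ey]
    ring
  | neg x _ hx =>
    obtain ⟨n, c, hc, ex⟩ := hx
    exact ⟨n, -c, neg_mem hc, by rw [map_neg, ← ex, neg_mul]⟩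
  | mul x y _ _ hx hy =>
    obtain ⟨n, c, hc, ex⟩ := hx
    obtain ⟨m, d, hd, ey⟩ := hy
    refine ⟨n + m, c * d, mul_mem hc hd, ?_⟩
    simp only [map_mul, ← ex, ← ey]
    ring

end Groth.RelVA
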