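import Groth.Agent.RelVA.Local
import Groth.Agent.RelVA.Basis
import Groth.Agent.RelVA.FiniteImm
import Groth.Agent.Chow.ExtendSec
import Groth.Agent.PicAux.QCoh

/-!
# Very ample modules for a composite
-/

universe u

open CategoryTheory CategoryTheory.Limits AlgebraicGeometry Opposite TopologicalSpace

set_option backward.isDefEq.respectTransparency.types false

noncomputable section

namespace Groth.RelVA

open Groth.PicAux Groth.RelTw Groth.PropsBasic.Ample

/-- Functions of an affine base may be replaced by functions immersing it. -/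
theorem imm_subst {X Y : Scheme.{u}} (f : X ⟶ Y) {V : Y.Opens} (hV : IsAffineOpen V) {TV : Subring Γ(Y, V)}
    (hVI : Imm V TV) {G : X.Opens} (hG : G ≤ f ⁻¹ᵁ V) {R : Set Γ(X, G)}
    (hI : Imm G (Subring.closure (Set.range (f.appLE V G hG).hom ∪ R))) {T : Subring Γ(X, G)}
    (hTV : ∀ x ∈ TV, (f.appLE V G hG).hom x ∈ T) (hR : R ⊆ T) : Imm G T := by
  obtain ⟨DV, hDV, kV, hkV, hkVT⟩ := hVI
  obtain ⟨D, hD, k, hk, hkT⟩ := hI
  have := hk
  have := hkV
  have : IsAffine (V : Scheme.{u}) := hV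
  let C : CommRingCat.{u} := CommRingCat.of (MvPolynomial R (ULift.{u} ℤ))
  let ev : C ⟶ Γ(X, G) := CommRingCat.ofHom
    (MvPolynomial.eval₂Hom ((Int.castRingHom _).comp ULift.ringEquiv.toRingHom) (fun r : R => r.1))
  let b : (G : Scheme.{u}) ⟶ Spec C := (G : Scheme.{u}).toSpecΓ ≫ Spec.map (ev ≫ G.topIso.inv)
  have hb : ∀ p : C, kf b ((Scheme.ΓSpecIso C).inv.hom p) = ev.hom p := by
    intro p
    have e1 : b.appTop = (Scheme.ΓSpecIso C).hom ≫ ev ≫ G.topIso.inv := by
      rw [Scheme.Hom.comp_appTop, Scheme.toSpecΓ_appTop, Scheme.ΓSpecIso_naturality]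
    rw [kf, e1, Category.assoc, Category.assoc, Iso.inv_hom_id, Category.comp_id]
    exact congrArg ev.hom (congr(($((Scheme.ΓSpecIso C).inv_hom_id)).hom p))
  let a := f.resLE V G hG
  have hkfa : ∀ x : Γ(Y, V), kf a (V.topIso.inv.hom x) = (f.appLE V G hG).hom x := fun x => by
    refine Eq.trans ?_ (congrArg (f.appLE V G hG).hom (congr(($(V.topIso.inv_hom_id)).hom x)))
    exact kf_resLE f hG (𝟙 (V : Scheme.{u})) (V.topIso.inv.hom x)
  have himm : IsImmersion (pair a b) := by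
    refine isImmersion_of_range (pair a b) k fun x => ?_
    have hle : Subring.closure (Set.range (f.appLE V G hG).hom ∪ R) ≤ (kf (pair a b)).range := by
      refine Subring.closure_le.2 ?_
      rintro _ (⟨v, rfl⟩ | hr)
      · refine ⟨(pullback.fst (terminal.from (V : Scheme.{u})) (terminal.from (Spec C))).appTop.hom
          (V.topIso.inv.hom v), ?_⟩
        rw [← kf_comp, pair, pullback.lift_fst, hkfa]
      · rename_i r
        refine ⟨(pullback.snd (terminal.from (V : Scheme.{u})) (terminal.from (Spec C))).appTop.hom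
          ((Scheme.ΓSpecIso C).inv.hom (MvPolynomial.X ⟨r, hr⟩)), ?_⟩
        rw [← kf_comp, pair, pullback.lift_snd, hb]
        exact MvPolynomial.eval₂Hom_X' _ _ _
    obtain ⟨y, hy⟩ := hle (hkT x)
    exact ⟨y, (ConcreteCategory.bijective_of_isIso G.topIso.hom).1 hy⟩
  let m := pullback.map (terminal.from (V : Scheme.{u})) (terminal.from (Spec C))
    (terminal.from DV) (terminal.from (Spec C)) kV (𝟙 _) (𝟙 _) (Subsingleton.elim _ _) (Subsingleton.elim _ _)
  have : IsImmersion m := MorphismProperty.pullbackMap (P := @IsImmersion) hkV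
    (MorphismProperty.id_mem @IsImmersion (Spec C)) (Subsingleton.elim _ _) (Subsingleton.elim _ _)
  refine ⟨pullback (terminal.from DV) (terminal.from (Spec C)), inferInstance, pair a b ≫ m, inferInstance,
    fun F => ?_⟩
  refine (Subring.closure_le (t := T.comap (kf (pair a b ≫ m)))).2 ?_ (appTop_mem_closure DV (Spec C) F)
  rintro _ (⟨x, rfl⟩ | ⟨x, rfl⟩)
  · change kf (pair a b ≫ m) _ ∈ T
    rw [← kf_comp, show (pair a b ≫ m) ≫ pullback.fst _ _ = a ≫ kV by
      simp only [pair, m, pullback.map, Category.assoc]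
      rw [pullback.lift_fst, pullback.lift_fst_assoc], kf_resLE]
    exact hTV _ (hkVT x)
  · change kf (pair a b ≫ m) _ ∈ T
    rw [← kf_comp, show (pair a b ≫ m) ≫ pullback.snd _ _ = b by
      simp only [pair, m, pullback.map, Category.assoc, Category.comp_id]
      rw [pullback.lift_snd, pullback.lift_snd]]
    have e : (Scheme.ΓSpecIso C).inv.hom ((Scheme.ΓSpecIso C).hom.hom x) = x :=
      congr(($((Scheme.ΓSpecIso C).hom_inv_id)).hom x)
    rw [← e, hb]
    generalize (Scheme.ΓSpecIso C).hom.hom x = p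
    induction p using MvPolynomial.induction_on with
    | C n =>
      obtain ⟨n⟩ := n
      rw [CommRingCat.hom_ofHom, MvPolynomial.eval₂Hom_C]
      exact intCast_mem T n
    | add p p' hp hp' => rw [map_add]; exact add_mem hp hp'
    | mul_X p r hp =>
      rw [map_mul]
      refine mul_mem hp ?_
      rw [CommRingCat.hom_ofHom, MvPolynomial.eval₂Hom_X']
      exact hR r.2

/-- A factor of a generating tensor generates. -/
theorem gen_of_tmul_gen {X : Scheme.{u}} {A B : X.Modules} (hA : PicF.IsInvertible A) {U : X.Opens}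
    {a : Γ(A, U)} {b : Γ(B, U)} (hb : Gen B U b) (h : Gen (CohB1.tensorMod A B) U (tmulSec a b)) :
    Gen A U a := by
  obtain ⟨W, e, -, hx, he, -⟩ := PropsBasic.Ample.exists_gen_cover hA
  refine Gen.of_cover (fun x : X => U ⊓ W x) (fun _ => inf_le_left)
    (fun z hz => Opens.mem_iSup.2 ⟨z, hz, hx z⟩) fun x => ?_
  obtain ⟨c, hc⟩ := (he x).exists_coeff (inf_le_right : U ⊓ W x ≤ W x) (res A inf_le_left a)
  rw [hc]
  refine ((he x).res inf_le_right).smul_unit ?_
  have h1 := h.res (inf_le_left : U ⊓ W x ≤ U)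
  rw [res_tmulSec, hc, tmulSec_smul_left] at h1
  exact (((he x).res inf_le_right).tensor (hb.res inf_le_left)).isUnit_of_smul h1

section canon

variable {X S : Scheme.{u}} (q : X ⟶ S) (M : X.Modules)

theorem genLoc_canon (t : Γ(M, ⊤)) : (canonData q M).genLoc ⊤ t = gloc t := by
  refine le_antisymm (le_gloc ?_) ((canonData q M).le_genLoc le_top (gen_gloc t le_rfl))
  exact (canonData q M).gen_genLoc ⊤ t

theorem imm_canon {t : Γ(M, ⊤)} {G : X.Opens} (hG : gloc t = G)
    (h : Imm G (Subring.closure (Set.range (q.appLE ⊤ G le_top).hom ∪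
      {r | ∃ t' : Γ(M, ⊤), res M (le_top : G ≤ ⊤) t' = r • res M (le_top : G ≤ ⊤) t}))) :
    Imm ((canonData q M).genLoc ⊤ t) (rGen (canonData q M) ⊤ t) := by
  have e : (canonData q M).genLoc ⊤ t = G := (genLoc_canon q M t).trans hG
  refine h.restrict e.le fun x hx => ?_
  refine (Subring.closure_le (t := (rGen (canonData q M) ⊤ t).comap (resX X e.le))).2 ?_ hx
  rintro _ (⟨v, rfl⟩ | ⟨t', ht'⟩)
  · rw [SetLike.mem_coe, Subring.mem_comap]
    refine (congrArg (· ∈ rGen (canonData q M) ⊤ t) ?_).mpr (base_mem_rGen (canonData q M) ⊤ t v)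
    exact resX_rAp q le_top e.le v
  · rw [SetLike.mem_coe, Subring.mem_comap]
    refine (congrArg (· ∈ rGen (canonData q M) ⊤ t) ?_).mpr (ratio_mem_rGen (canonData q M) ⊤ t t')
    refine (canonData q M).eq_ratio ?_
    have h1 := congrArg (res M e.le) ht'
    rw [PicAux.res_smul, PicAux.res_res, PicAux.res_res] at h1
    exact h1.symm

theorem isRelVeryAmple_tensorPow {L : X.Modules} (hva : RelProj.IsRelVeryAmple q L) :
    ∀ m : ℕ, RelProj.IsRelVeryAmple q (CohB1.tensorPow L (m + 1))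
  | 0 => isRelVeryAmple_of_iso (tensorPow_one L).some.symm hva
  | m + 1 => by
    obtain ⟨E', hE', σ', hσ'⟩ := exists_isEmb hva
    obtain ⟨E, hE, σ, hσ⟩ := exists_isEmb (isRelVeryAmple_tensorPow hva m)
    exact isRelVeryAmple_tensor hσ hE' (IsEmb.hepi σ' hσ')

end canon

variable {X Y Z : Scheme.{u}} (f : X ⟶ Y) (g : Y ⟶ Z)

theorem exists_isRelVeryAmple_comp_affine [IsAffine Z] [QuasiCompact f] [LocallyOfFiniteType f]
    [QuasiCompact g] {L : X.Modules} (hL : PicF.IsInvertible L) (hLva : RelProj.IsRelVeryAmple f L)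
    {K : Y.Modules} (hK : PicF.IsInvertible K) (hKva : RelProj.IsRelVeryAmple g K) :
    ∃ n₀ : ℕ, ∀ n, n₀ ≤ n → RelProj.IsRelVeryAmple (f ≫ g)
      (CohB1.tensorMod L ((Scheme.Modules.pullback f).obj (CohB1.tensorPow K n))) := by
  classical
  have : IsSeparated f := isSeparated_of_isRelVeryAmple hLva
  have : IsSeparated g := isSeparated_of_isRelVeryAmple hKva
  haveI : CompactSpace Y := QuasiCompact.compactSpace_of_compactSpace g
  haveI : CompactSpace X := QuasiCompact.compactSpace_of_compactSpace f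
  haveI : Y.IsSeparated := ⟨by rw [← Limits.terminal.comp_from g]; infer_instance⟩
  haveI : X.IsSeparated := ⟨by rw [← Limits.terminal.comp_from f]; infer_instance⟩
  have hKA : CohB1.IsAmple K := by
    have h1 := Groth.Ega2Proj.isAmple_of_isRelAmple (isRelAmple_of_isRelVeryAmple g hKva)
      ⟨⊤, isAffineOpen_top Z⟩ (𝟙 Y) (fun _ _ => trivial)
    exact Groth.Ega2Proj.isAmple_of_iso
      (Groth.Ega2Proj.restrictIsoPullback (𝟙 Y) K ≪≫ (Scheme.Modules.pullbackId Y).app K) h1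
  obtain ⟨EL, hEL, σL, hσL⟩ := exists_isEmb hLva
  obtain ⟨EK, hEK, σK, hσK⟩ := exists_isEmb hKva
  let M : ℕ → X.Modules := fun n => CohB1.tensorMod L ((Scheme.Modules.pullback f).obj (CohB1.tensorPow K n))
  have hMi : ∀ n, PicF.IsInvertible (M n) := fun n =>
    isInvertible_tensorMod hL (isInvertible_pullback f (isInvertible_tensorPow hK n))
  suffices key : ∀ z : X, ∃ (N : ℕ) (O : X.Opens), z ∈ O ∧ ∀ n, N ≤ n → ∃ t : Γ(M n, ⊤),
      gloc t = O ∧ Imm ((canonData (f ≫ g) (M n)).genLoc ⊤ t) (rGen (canonData (f ≫ g) (M n)) ⊤ t) by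
    choose N O hzO hN using key
    obtain ⟨s, hs⟩ := isCompact_univ.elim_finite_subcover (fun z => (O z : Set X)) (fun z => (O z).isOpen)
      (fun z _ => Set.mem_iUnion.2 ⟨z, hzO z⟩)
    refine ⟨s.sup N, fun n hn => ?_⟩
    have : (M n).IsQuasicoherent := isQCoh_of_isInvertible (hMi n)
    have : ((Scheme.Modules.pushforward (f ≫ g)).obj (M n)).IsQuasicoherent :=
      Groth.QCohMod.isQCoh_pushforward (M := M n) (f ≫ g)
    refine isRelVeryAmple_of_isEmb (σ := canonData (f ≫ g) (M n)) fun w => ?_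
    obtain ⟨z, hz, hwz⟩ := Set.mem_iUnion₂.1 (hs (Set.mem_univ w))
    obtain ⟨t, ht, hI⟩ := hN z n ((Finset.le_sup hz).trans hn)
    refine ⟨⊤, isAffineOpen_top Z, t, ?_, hI⟩
    rw [genLoc_canon, ht]
    exact hwz
  intro z
  -- an affine piece of the middle scheme
  obtain ⟨m, s₀, hys, hVa⟩ := hKA.2.2 (f z)
  rw [genLocus_eq_gloc] at hys hVa
  let Km := CohB1.tensorPow K (m + 1)
  have hKm : PicF.IsInvertible Km := isInvertible_tensorPow hK (m + 1)
  let T₀ : Γ(Km, ⊤) := gsec s₀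
  let V : Y.Opens := gloc T₀
  have hσm : IsEmb (canonData g Km) := isEmb_canonData (fun _ : PUnit.{u + 1} => (⊤ : Z.Opens))
    iSup_const fun _ => isRelVeryAmple_restrict ⊤ (isRelVeryAmple_tensorPow g hKva m)
  have : Km.IsQuasicoherent := isQCoh_of_isInvertible hKm
  have : ((Scheme.Modules.pushforward g).obj Km).IsQuasicoherent :=
    Groth.QCohMod.isQCoh_pushforward (M := Km) g
  have eV : (canonData g Km).genLoc ⊤ T₀ = V := genLoc_canon g Km T₀
  let TV : Subring Γ(Y, V) := Subring.closure (Set.range (g.appLE ⊤ V le_top).hom ∪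
    {r | ∃ P : Γ(Km, ⊤), res Km (le_top : V ≤ ⊤) P = r • res Km (le_top : V ≤ ⊤) T₀})
  have hVI : Imm V TV := by
    refine (hσm.imm ⊤ (isAffineOpen_top Z) T₀).restrict eV.ge fun x hx => ?_
    refine (Subring.closure_le (t := TV.comap (resX Y eV.ge))).2 ?_ hx
    rintro _ (⟨v, rfl⟩ | ⟨P, rfl⟩)
    · rw [SetLike.mem_coe, Subring.mem_comap]
      exact Subring.subset_closure (Or.inl ⟨v, (resX_rAp g _ eV.ge v).symm⟩)
    · rw [SetLike.mem_coe, Subring.mem_comap]
      refine Subring.subset_closure (Or.inr ⟨P, ?_⟩)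
      have h1 := congrArg (res Km eV.ge) ((canonData g Km).ratio_smul ⊤ T₀ P)
      rw [PicAux.res_smul, PicAux.res_res, PicAux.res_res] at h1
      exact h1.symm
  -- the piece upstairs
  obtain ⟨e, hze⟩ := exists_genLoc_of_hepi (IsEmb.hepi σL hσL) V hVa hys
  let G₀ := σL.genLoc V e
  have hG₀ : G₀ ≤ f ⁻¹ᵁ V := σL.genLoc_le V e
  have hc : IsCompact (G₀ : Set X) := by
    obtain ⟨W, eW, -, hx, he, -⟩ := PropsBasic.Ample.exists_gen_cover hL
    have haff : ∀ x : X, x ∈ f ⁻¹ᵁ V → ∃ A : X.Opens, IsAffineOpen A ∧ x ∈ A ∧ A ≤ W x ⊓ f ⁻¹ᵁ V := fun x h => by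
      obtain ⟨A, hA, hxA, hle⟩ := exists_isAffineOpen_mem_and_subset (x := x) (U := W x ⊓ f ⁻¹ᵁ V) ⟨hx x, h⟩
      exact ⟨A, hA, hxA, hle⟩
    choose A hA hxA hAle using haff
    obtain ⟨s, hs⟩ := (f.isCompact_preimage hVa.isCompact).elim_finite_subcover
      (fun x : (f ⁻¹ᵁ V : X.Opens) => (A x.1 x.2 : Set X)) (fun x => (A x.1 x.2).isOpen)
      (fun x hx => Set.mem_iUnion.2 ⟨⟨x, hx⟩, hxA x hx⟩)
    have hcomp : ∀ x : (f ⁻¹ᵁ V : X.Opens), IsCompact ((G₀ ⊓ A x.1 x.2 : X.Opens) : Set X) := fun x => by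
      have hA2 : A x.1 x.2 ≤ f ⁻¹ᵁ V := (hAle x.1 x.2).trans inf_le_right
      have ht := (he x.1).res ((hAle x.1 x.2).trans inf_le_left)
      obtain ⟨c, hc⟩ := ht.exists_coeff le_rfl (res L hA2 (σL.app V e))
      rw [PicAux.res_self] at hc
      have e1 : G₀ ⊓ A x.1 x.2 = X.basicOpen c :=
        le_antisymm (inf_le_basicOpen σL hA2 ht hc)
          (le_inf (basicOpen_le_genLoc σL hA2 ht hc) (X.basicOpen_le c))
      rw [e1]
      exact ((hA x.1 x.2).basicOpen c).isCompact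
    have e2 : (G₀ : Set X) = ⋃ x ∈ s, ((G₀ ⊓ A x.1 x.2 : X.Opens) : Set X) := by
      refine Set.Subset.antisymm (fun w hw => ?_) ?_
      · obtain ⟨x, hxs, hwx⟩ := Set.mem_iUnion₂.1 (hs (hG₀ hw))
        exact Set.mem_iUnion₂.2 ⟨x, hxs, hw, hwx⟩
      · exact Set.iUnion₂_subset fun x _ w hw => hw.1
    rw [e2]
    exact s.finite_toSet.isCompact_biUnion fun x _ => hcomp x
  obtain ⟨R, hRs, hRI⟩ := exists_finite_imm f hVa hG₀ hc (Set.range (σL.ratio V e)) (hσL.imm V hVa e)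
  choose e' he' using fun r : R => hRs r.2
  -- extend
  let P₀ : Γ((Scheme.Modules.pullback f).obj Km, ⊤) := pullSec f Km T₀
  have hP₀ : gloc P₀ = f ⁻¹ᵁ V := gloc_pullSec f hKm T₀
  have hF : PicF.IsInvertible ((Scheme.Modules.pullback f).obj Km) := isInvertible_pullback f hKm
  choose k₀ hk₀ using fun x : Γ(EL, V) =>
    Groth.Chow.exists_extend_sec hL hF P₀ (res L hP₀.le (σL.app V x))
  let k := max (k₀ e) (Finset.univ.sup fun r : R => k₀ (e' r))
  obtain ⟨b, hb⟩ := hk₀ e k (le_max_left _ _)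
  choose b' hb' using fun r : R =>
    hk₀ (e' r) k ((Finset.le_sup (f := fun r : R => k₀ (e' r)) (Finset.mem_univ r)).trans (le_max_right _ _))
  obtain ⟨eK, hyK⟩ := exists_genLoc_of_hepi (IsEmb.hepi σK hσK) ⊤ (isAffineOpen_top Z) (z := f z) trivial
  let sK : Γ(K, ⊤) := σK.app ⊤ eK
  have hysK : f z ∈ gloc sK := le_gloc (σK.gen_genLoc ⊤ eK) hyK
  let O := G₀ ⊓ f ⁻¹ᵁ gloc sK
  refine ⟨(m + 1) * k + (m + 2), O, ⟨hze, hysK⟩, fun n hn => ?_⟩
  obtain ⟨j, rfl⟩ : ∃ j, n = (m + 1) * k + ((m + 1) + (j + 1)) := ⟨n - ((m + 1) * k + (m + 2)), by omega⟩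
  let u : Γ(CohB1.tensorPow K (j + 1), ⊤) := powSec sK (j + 1)
  have hu : gloc u = gloc sK := gloc_powSec hK sK (Nat.succ_pos j)
  have hKj := isInvertible_tensorPow hK (j + 1)
  let A := CohB1.tensorMod L (CohB1.tensorPow ((Scheme.Modules.pullback f).obj Km) k)
  let B := (Scheme.Modules.pullback f).obj (CohB1.tensorMod Km (CohB1.tensorPow K (j + 1)))
  have hAi : PicF.IsInvertible A := isInvertible_tensorMod hL (isInvertible_tensorPow hF k)
  have hBi : PicF.IsInvertible B := isInvertible_pullback f (isInvertible_tensorMod hKm hKj)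
  let mk : Γ(A, ⊤) → Γ(Km, ⊤) → Γ(CohB1.tensorMod A B, ⊤) := fun a P =>
    tmulSec a (pullSec f _ (tmulSec P u))
  obtain ⟨iso⟩ : Nonempty (CohB1.tensorMod A B ≅ M ((m + 1) * k + ((m + 1) + (j + 1)))) :=
    ⟨(exists_associator _ _ _).choose ≪≫ PicGrp.tensorModIso (Iso.refl L)
      (PicGrp.tensorModIso (pullback_tensorPow f Km k).some.symm (Iso.refl B) ≪≫
        (exists_pullback_tensorMod f _ _).choose.symm ≪≫
        (Scheme.Modules.pullback f).mapIso (PicGrp.tensorModIso (tensorPow_mul K (m + 1) k).some.symm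
          (tensorPow_add K (m + 1) (j + 1)).some.symm ≪≫ (tensorPow_add K _ _).some.symm))⟩
  let t := mk b T₀
  have hgt : gloc t = O := by
    rw [gloc_tmulSec hAi hBi, gloc_pullSec f (isInvertible_tensorMod hKm hKj), gloc_tmulSec hKm hKj, hu,
      Scheme.Hom.preimage_inf, ← inf_assoc]
    congr 1
    refine le_antisymm ?_ (le_inf (le_gloc ?_) hG₀)
    · have hW : gloc b ⊓ f ⁻¹ᵁ V ≤ gloc P₀ := inf_le_right.trans hP₀.ge
      refine σL.le_genLoc inf_le_right ?_
      have h1 := (gen_gloc b (inf_le_left : gloc b ⊓ f ⁻¹ᵁ V ≤ _))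
      rw [← PicAux.res_res (M := A) (h := (le_top : gloc P₀ ≤ ⊤)) (h' := hW), hb, res_tmulSec, res_powSec,
        PicAux.res_res, PicAux.res_res] at h1
      exact gen_of_tmul_gen hL ((gen_gloc P₀ hW).pow k) h1
    · have hW : G₀ ≤ gloc P₀ := hG₀.trans hP₀.ge
      rw [← PicAux.res_res (M := A) (h := (le_top : gloc P₀ ≤ ⊤)) (h' := hW), hb, res_tmulSec, res_powSec,
        PicAux.res_res, PicAux.res_res]
      exact (σL.gen_genLoc V e).tensor ((gen_gloc P₀ hW).pow k)
  refine ⟨iso.hom.app ⊤ t, by rw [gloc_map iso.hom, hgt], ?_⟩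
  refine imm_canon (f ≫ g) _ (G := O) (by rw [gloc_map iso.hom, hgt]) ?_
  set T : Subring Γ(X, O) := Subring.closure (Set.range ((f ≫ g).appLE ⊤ O le_top).hom ∪
    {r | ∃ t' : Γ(M ((m + 1) * k + ((m + 1) + (j + 1))), ⊤),
      res _ (le_top : O ≤ ⊤) t' = r • res _ (le_top : O ≤ ⊤) (iso.hom.app ⊤ t)})
  have hT : ∀ {r : Γ(X, O)} (t' : Γ(CohB1.tensorMod A B, ⊤)), res _ (le_top : O ≤ ⊤) t' = r • res _ (le_top : O ≤ ⊤) t → r ∈ T := by
    intro r t' h1
    refine Subring.subset_closure (Or.inr ⟨iso.hom.app ⊤ t', ?_⟩)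
    rw [← PicAux.app_res, ← PicAux.app_res, h1, Scheme.Modules.Hom.app_smul]
  suffices hI : Imm G₀ (T.comap (resX X (inf_le_left : O ≤ G₀))) from hI.restrict inf_le_left fun _ h => h
  refine imm_subst f hVa hVI hG₀ hRI (fun x hx => ?_) fun r hr => ?_
  · refine (Subring.closure_le (t := (T.comap (resX X (inf_le_left : O ≤ G₀))).comap
      (f.appLE V G₀ hG₀).hom)).2 ?_ hx
    rintro _ (⟨v, rfl⟩ | ⟨P, hP⟩)
    · rw [SetLike.mem_coe, Subring.mem_comap, Subring.mem_comap]
      refine Subring.subset_closure (Or.inl ⟨v, ?_⟩)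
      rw [← CommRingCat.comp_apply, Scheme.Hom.appLE_comp_appLE]
      exact (resX_rAp (f ≫ g) le_top inf_le_left v).symm
    · rw [SetLike.mem_coe, Subring.mem_comap, Subring.mem_comap]
      refine hT (mk b P) ?_
      simp only [t, mk]
      rw [res_tmulSec, res_tmulSec, ← tmulSec_smul_right]
      congr 1
      have hOV : O ≤ f ⁻¹ᵁ V := inf_le_left.trans hG₀
      have e3 : ∀ Q : Γ(Km, ⊤), res B (le_top : O ≤ ⊤) (pullSec f _ (tmulSec Q u)) =
          res B hOV (pullSec f _ (res _ (le_top : V ≤ ⊤) (tmulSec Q u))) := fun Q => by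
        rw [← res_pullSec]
        exact (PicAux.res_res (M := B) (f.preimage_mono le_top) hOV _).symm
      rw [e3, e3, res_tmulSec, res_tmulSec, hP,
        tmulSec_smul_left, pullSec_smul, PicAux.res_smul]
      congr 1
      rw [Scheme.Hom.app_eq_appLE]
      exact (resX_rAp f le_rfl hOV _).trans (resX_rAp f hG₀ inf_le_left _).symm
  · refine Subring.mem_comap.2 (hT (mk (b' ⟨r, hr⟩) T₀) ?_)
    simp only [t, mk]
    rw [res_tmulSec, res_tmulSec, ← tmulSec_smul_left]
    congr 1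
    have hOP : O ≤ gloc P₀ := (inf_le_left.trans hG₀).trans hP₀.ge
    rw [← PicAux.res_res (M := A) (h := (le_top : gloc P₀ ≤ ⊤)) (h' := hOP), hb',
      ← PicAux.res_res (M := A) (h := (le_top : gloc P₀ ≤ ⊤)) (h' := hOP), hb, res_tmulSec, res_tmulSec,
      ← tmulSec_smul_left]
    congr 1
    have h1 := congrArg (res L (inf_le_left : O ≤ G₀)) (σL.ratio_smul V e (e' ⟨r, hr⟩))
    rw [PicAux.res_smul, PicAux.res_res, PicAux.res_res, he'] at h1
    rw [PicAux.res_res, PicAux.res_res]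
    exact h1.symm

/-- `L ⊗ f^* K^n` is very ample for the composite for large `n`. -/
theorem exists_isRelVeryAmple_comp [CompactSpace Z] [QuasiCompact f] [LocallyOfFiniteType f]
    [QuasiCompact g] {L : X.Modules} (hL : PicF.IsInvertible L) (hLva : RelProj.IsRelVeryAmple f L)
    {K : Y.Modules} (hK : PicF.IsInvertible K) (hKva : RelProj.IsRelVeryAmple g K) :
    ∃ n₀ : ℕ, 0 < n₀ ∧ ∀ n, n₀ ≤ n → RelProj.IsRelVeryAmple (f ≫ g)
      (CohB1.tensorMod L ((Scheme.Modules.pullback f).obj (CohB1.tensorPow K n))) := by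
  classical
  choose W hW hzW _ using fun z : Z =>
    exists_isAffineOpen_mem_and_subset (x := z) (U := (⊤ : Z.Opens)) trivial
  obtain ⟨s, hs⟩ := isCompact_univ.elim_finite_subcover (fun z => (W z : Set Z)) (fun z => (W z).isOpen)
    (fun z _ => Set.mem_iUnion.2 ⟨z, hzW z⟩)
  have hkey : ∀ z : Z, ∃ n₀ : ℕ, ∀ n, n₀ ≤ n → RelProj.IsRelVeryAmple ((f ≫ g) ∣_ W z)
      ((CohB1.tensorMod L ((Scheme.Modules.pullback f).obj (CohB1.tensorPow K n))).restrict
        ((f ≫ g) ⁻¹ᵁ W z).ι) := by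
    intro z
    have : IsAffine (W z : Scheme.{u}) := hW z
    let U : Y.Opens := g ⁻¹ᵁ W z
    obtain ⟨n₀, hn₀⟩ := exists_isRelVeryAmple_comp_affine (f ∣_ U) (g ∣_ W z)
      (Groth.Ega2Proj.isInvertible_restrict _ hL) (isRelVeryAmple_restrict U hLva)
      (Groth.Ega2Proj.isInvertible_restrict _ hK) (isRelVeryAmple_restrict (W z) hKva)
    refine ⟨n₀, fun n hn => ?_⟩
    rw [morphismRestrict_comp]
    refine isRelVeryAmple_of_iso ?_ (hn₀ n hn)
    refine PicGrp.tensorModIso (Iso.refl _) ?_ ≪≫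
      (Groth.Ega2Proj.exists_tensorMod_restrict (f ⁻¹ᵁ U).ι).some.symm
    exact (Scheme.Modules.pullback (f ∣_ U)).mapIso
        ((Groth.Ega2Proj.exists_tensorPow_restrict (L := K) U.ι n).some.symm ≪≫
          Groth.Ega2Proj.restrictIsoPullback U.ι _) ≪≫
      (Scheme.Modules.pullbackComp (f ∣_ U) U.ι).app _ ≪≫
      (Scheme.Modules.pullbackCongr (morphismRestrict_ι f U)).app _ ≪≫
      ((Scheme.Modules.pullbackComp (f ⁻¹ᵁ U).ι f).app _).symm ≪≫
      (Groth.Ega2Proj.restrictIsoPullback (f ⁻¹ᵁ U).ι _).symm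
  choose n₀ hn₀ using hkey
  refine ⟨s.sup n₀ + 1, Nat.succ_pos _, fun n hn => ?_⟩
  refine isRelVeryAmple_of_local (ι := s) (fun z => W z.1) (eq_top_iff.2 fun w _ => ?_)
    (isQCoh_of_isInvertible (isInvertible_tensorMod hL (isInvertible_pullback f (isInvertible_tensorPow hK n))))
    fun z => hn₀ z.1 n ((Finset.le_sup z.2).trans (by omega))
  obtain ⟨z, hz, hwz⟩ := Set.mem_iUnion₂.1 (hs (Set.mem_univ w))
  exact Opens.mem_iSup.2 ⟨⟨z, hz⟩, hwz⟩

end Groth.RelVA
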