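import Groth.Agent.RelVA.GenDegOne
import Groth.Agent.QCohMod.Category
import Groth.Agent.LocFree.AffineHom

/-!
# Very ampleness on a disjoint union
-/

universe u

open CategoryTheory CategoryTheory.Limits AlgebraicGeometry Opposite TopologicalSpace

set_option backward.isDefEq.respectTransparency.types false

noncomputable section

namespace Groth.RelVA

open Groth.PicAux Groth.RelTw

theorem isRelVeryAmple_pullback_immersion {X Y Z : Scheme.{u}} {f : X ⟶ Y} {L : X.Modules}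
    (h : RelProj.IsRelVeryAmple f L) (i : Z ⟶ X) [IsImmersion i] {g : Z ⟶ Y} (hg : i ≫ f = g) :
    RelProj.IsRelVeryAmple g ((Scheme.Modules.pullback i).obj L) := by
  obtain ⟨E, hE, σ, hσ⟩ := exists_isEmb h
  have sq : i ≫ f = g ≫ 𝟙 Y := by rw [Category.comp_id, hg]
  obtain ⟨σ', hσ'⟩ := exists_pullData σ sq
  have := isImmersion_pair_of_left i g
  exact isRelVeryAmple_of_isEmb (isEmb_pull sq hσ' hσ)

variable {X Y : Scheme.{u}} {f : X ⟶ Y} {L : X.Modules}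

/-- Extension by zero from a complemented open. -/
theorem exists_ext_zero {R R' : X.Opens} (hd : R ⊓ R' = ⊥) (hc : R ⊔ R' = ⊤) {E : Y.Modules}
    (τ : LinData (R.ι ≫ f) E (L.restrict R.ι)) :
    ∃ φ : E ⟶ (Scheme.Modules.pushforward f).obj L, ∀ (U : Y.Opens), IsAffineOpen U → ∀ e : Γ(E, U),
      res L (R.ι.image_preimage_le (f ⁻¹ᵁ U)) (φ.app U e : Γ(L, f ⁻¹ᵁ U)) =
          (τ.app U e : Γ(L, R.ι ''ᵁ (R.ι ⁻¹ᵁ f ⁻¹ᵁ U))) ∧
        res L (inf_le_right : R' ⊓ f ⁻¹ᵁ U ≤ f ⁻¹ᵁ U) (φ.app U e : Γ(L, f ⁻¹ᵁ U)) = 0 := by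
  let V : Y.Opens → Bool → X.Opens := fun U b => bif b then R.ι ''ᵁ (R.ι ⁻¹ᵁ f ⁻¹ᵁ U) else R' ⊓ f ⁻¹ᵁ U
  have hV : ∀ U b, V U b ≤ f ⁻¹ᵁ U := fun U b => by
    cases b
    · exact inf_le_right
    · exact R.ι.image_preimage_le _
  have hcov : ∀ U, f ⁻¹ᵁ U ≤ iSup (V U) := fun U z hz => by
    rcases Opens.mem_sup.1 (hc.ge (Opens.mem_top z)) with h | h
    · exact Opens.mem_iSup.2 ⟨true, ⟨z, h⟩, hz, rfl⟩
    · exact Opens.mem_iSup.2 ⟨false, h, hz⟩
  have hex : ∀ (U : Y.Opens) (e : Γ(E, U)), ∃ s : Γ(L, f ⁻¹ᵁ U),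
      res L (hV U true) s = (τ.app U e : Γ(L, R.ι ''ᵁ (R.ι ⁻¹ᵁ f ⁻¹ᵁ U))) ∧ res L (hV U false) s = 0 := by
    intro U e
    let F : ∀ b, Γ(L, V U b) := fun b => match b with
      | true => (τ.app U e : Γ(L, R.ι ''ᵁ (R.ι ⁻¹ᵁ f ⁻¹ᵁ U)))
      | false => 0
    obtain ⟨s, hs, -⟩ := res_glue (M := L) (V U) (hV U) (hcov U) F fun a b => by
      cases a <;> cases b
      · rfl
      · refine res_ext (M := L) (fun i : PEmpty.{u + 1} => i.elim) (fun i => i.elim) (fun z hz => ?_) fun i => i.elim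
        obtain ⟨w, -, rfl⟩ := hz.2
        exact (hd.le ⟨w.2, hz.1.1⟩).elim
      · refine res_ext (M := L) (fun i : PEmpty.{u + 1} => i.elim) (fun i => i.elim) (fun z hz => ?_) fun i => i.elim
        obtain ⟨w, -, rfl⟩ := hz.1
        exact (hd.le ⟨w.2, hz.2.1⟩).elim
      · rfl
    exact ⟨s, hs true, hs false⟩
  choose s hs hs' using hex
  have key : ∀ (U : Y.Opens) (x y : Γ(L, f ⁻¹ᵁ U)), res L (hV U true) x = res L (hV U true) y →
      res L (hV U false) x = res L (hV U false) y → x = y := fun U x y h1 h2 =>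
    res_ext (V U) (hV U) (hcov U) fun b => by cases b; exacts [h2, h1]
  obtain ⟨φ, hφ⟩ := Groth.LocFree.exists_hom_of_affine (L := E) (M := (Scheme.Modules.pushforward f).obj L)
    (fun U _ =>
      { toFun := s U
        map_add' := fun a b => by
          change s U (a + b) = (s U a + s U b : Γ(L, f ⁻¹ᵁ U))
          refine key U _ _ ?_ ?_
          · rw [res_add, hs, hs, hs, map_add]; rfl
          · rw [res_add, hs', hs', hs']; exact (add_zero _).symm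
        map_smul' := fun r a => by
          change s U (r • a) = f.app U r • s U a
          refine key U _ _ ?_ ?_
          · rw [PicAux.res_smul, hs, hs, τ.app_smul]
            refine (restrict_smul R (R.ι ⁻¹ᵁ f ⁻¹ᵁ U) _ _).trans ?_
            let y : Γ(L, R.ι ''ᵁ (R.ι ⁻¹ᵁ f ⁻¹ᵁ U)) := τ.app U a
            refine congrArg (fun t : Γ(X, R.ι ''ᵁ (R.ι ⁻¹ᵁ f ⁻¹ᵁ U)) => t • y) ?_
            change ((R.ι.app (f ⁻¹ᵁ U)) ((f.app U) r) : Γ(X, R.ι ''ᵁ (R.ι ⁻¹ᵁ f ⁻¹ᵁ U))) = _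
            rw [Scheme.Opens.ι_app]
            rfl
          · rw [PicAux.res_smul, hs', hs', smul_zero] })
    (fun U W hU hW h x => by
      change res L (f.preimage_mono h) (s U x) = s W (res E h x)
      refine key W _ _ ?_ ?_
      · rw [PicAux.res_res, hs, ← τ.app_res U W h x]
        refine (PicAux.res_res (M := L) (hV U true) (R.ι.image_mono (R.ι.preimage_mono (f.preimage_mono h))) _).symm.trans ?_
        rw [hs]
        rfl
      · rw [PicAux.res_res, hs', ← res_zero (M := L) (show V W false ≤ V U false from inf_le_inf_left _ (f.preimage_mono h)),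
          ← hs' U x, PicAux.res_res])
  exact ⟨φ, fun U hU e => by
    rw [show (φ.app U e : Γ(L, f ⁻¹ᵁ U)) = s U e from hφ U hU e]
    exact ⟨hs U e, hs' U e⟩⟩

/-- A section vanishing on `R'` generates only on the complement. -/
theorem le_bot_of_gen_zero {G : X.Opens} (h : Gen L G (0 : Γ(L, G))) : G ≤ ⊥ := by
  have h1 : Gen L G ((0 : Γ(X, G)) • (0 : Γ(L, G))) := by rwa [zero_smul]
  have hu : IsUnit (0 : Γ(X, G)) := Gen.isUnit_of_smul h h1
  rw [← Scheme.basicOpen_of_isUnit X hu, Scheme.basicOpen_zero]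

/-- Data embedding the part `R` and extending it by zero. -/
theorem exists_emb_part {R R' : X.Opens} (_hd : R ⊓ R' = ⊥) (hc : R ⊔ R' = ⊤) {E E' : Y.Modules}
    [E.IsQuasicoherent] {τ : LinData (R.ι ≫ f) E (L.restrict R.ι)} (hτ : IsEmb τ) (ι' : E ⟶ E')
    (φ : E ⟶ (Scheme.Modules.pushforward f).obj L)
    (hφ : ∀ (U : Y.Opens), IsAffineOpen U → ∀ e : Γ(E, U),
      res L (R.ι.image_preimage_le (f ⁻¹ᵁ U)) (φ.app U e : Γ(L, f ⁻¹ᵁ U)) =
          (τ.app U e : Γ(L, R.ι ''ᵁ (R.ι ⁻¹ᵁ f ⁻¹ᵁ U))) ∧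
        res L (inf_le_right : R' ⊓ f ⁻¹ᵁ U ≤ f ⁻¹ᵁ U) (φ.app U e : Γ(L, f ⁻¹ᵁ U)) = 0)
    (ρ : LinData f E' L) (hρ : ∀ (U : Y.Opens) (e : Γ(E, U)), ρ.app U (ι'.app U e) = φ.app U e)
    {z : X} (hz : z ∈ R) :
    ∃ (U : Y.Opens) (_ : IsAffineOpen U) (e : Γ(E', U)),
      z ∈ ρ.genLoc U e ∧ Imm (ρ.genLoc U e) (rGen ρ U e) := by
  obtain ⟨U, hU, e, hze, hI⟩ := hτ ⟨z, hz⟩
  let G := τ.genLoc U e
  have hGle : R.ι ''ᵁ G ≤ R.ι ''ᵁ (R.ι ⁻¹ᵁ f ⁻¹ᵁ U) := R.ι.image_mono (τ.genLoc_le U e)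
  have hG : R.ι ''ᵁ G ≤ f ⁻¹ᵁ U := hGle.trans (R.ι.image_preimage_le _)
  have happ : ∀ {W : X.Opens} (hW : W ≤ R.ι ''ᵁ (R.ι ⁻¹ᵁ f ⁻¹ᵁ U)) (x : Γ(E, U)),
      res L (hW.trans (R.ι.image_preimage_le _)) (ρ.app U (ι'.app U x)) =
        res L hW (τ.app U x : Γ(L, R.ι ''ᵁ (R.ι ⁻¹ᵁ f ⁻¹ᵁ U))) := fun hW x => by
    rw [hρ, ← (hφ U hU x).1]
    exact (PicAux.res_res _ hW _).symm
  have hgenLoc : ρ.genLoc U (ι'.app U e) = R.ι ''ᵁ G := by
    refine le_antisymm (fun w hw => ?_) (ρ.le_genLoc hG ?_)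
    · rcases Opens.mem_sup.1 (hc.ge (Opens.mem_top w)) with hwR | hwR
      · let Z : (R : Scheme.{u}).Opens := R.ι ⁻¹ᵁ ρ.genLoc U (ι'.app U e)
        have hZ : Z ≤ R.ι ⁻¹ᵁ f ⁻¹ᵁ U := R.ι.preimage_mono (ρ.genLoc_le U _)
        refine ⟨⟨w, hwR⟩, τ.le_genLoc hZ ?_ hw, rfl⟩
        have h1 := (ρ.gen_genLoc U (ι'.app U e)).res (R.ι.image_preimage_le _)
        rw [PicAux.res_res, happ (R.ι.image_mono hZ)] at h1
        intro Z' hZ'
        refine (congrArg Function.Bijective (funext fun r => restrict_smul R Z' r _)).mpr ?_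
        exact h1 _ (R.ι.image_mono hZ')
      · have h1 := (ρ.gen_genLoc U (ι'.app U e)).res (inf_le_right : R' ⊓ ρ.genLoc U (ι'.app U e) ≤ _)
        rw [PicAux.res_res, hρ, ← PicAux.res_res (inf_le_right : R' ⊓ f ⁻¹ᵁ U ≤ f ⁻¹ᵁ U)
          (inf_le_inf_left R' (ρ.genLoc_le U _)), (hφ U hU e).2, res_zero] at h1
        exact (le_bot_of_gen_zero h1 ⟨hwR, hw⟩).elim
    · rw [happ hGle]
      exact gen_image_of_restrict R (τ.gen_genLoc U e)
  refine ⟨U, hU, ι'.app U e, hgenLoc.ge ⟨⟨z, hz⟩, hze, rfl⟩, ?_⟩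
  let T : Subring Γ(X, R.ι ''ᵁ G) := (rGen ρ U (ι'.app U e)).map (resX X hgenLoc.ge)
  suffices hI' : Imm (R.ι ''ᵁ G) T by
    refine hI'.restrict hgenLoc.le fun a ha => ?_
    obtain ⟨b, hb, rfl⟩ := ha
    change resX X hgenLoc.le (resX X hgenLoc.ge b) ∈ _
    rw [resX_resX, resX_self]
    exact hb
  refine hI.image fun a ha => ?_
  refine (Subring.closure_le (t := (T : Subring Γ((R : Scheme.{u}), G)))).2 ?_ ha
  rintro _ (⟨b, rfl⟩ | ⟨x, rfl⟩)
  · refine ⟨_, base_mem_rGen ρ U (ι'.app U e) b, ?_⟩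
    refine (resX_rAp f (ρ.genLoc_le U _) hgenLoc.ge b).trans ?_
    rw [Scheme.Hom.comp_appLE, Scheme.Hom.app_eq_appLE, CommRingCat.comp_apply, Scheme.Opens.ι_appLE]
    exact (resX_rAp f le_rfl hG b).symm
  · refine ⟨_, ratio_mem_rGen ρ U (ι'.app U e) (ι'.app U x), ?_⟩
    refine τ.eq_ratio ?_
    refine (restrict_smul R _ _ _).trans ?_
    have h2 := congrArg (res L hgenLoc.ge) (ρ.ratio_smul U (ι'.app U e) (ι'.app U x))
    rw [PicAux.res_smul, PicAux.res_res, PicAux.res_res, happ hGle, happ hGle] at h2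
    exact h2

theorem isRelVeryAmple_of_parts {R R' : X.Opens} (hd : R ⊓ R' = ⊥) (hc : R ⊔ R' = ⊤)
    (h : RelProj.IsRelVeryAmple (R.ι ≫ f) (L.restrict R.ι))
    (h' : RelProj.IsRelVeryAmple (R'.ι ≫ f) (L.restrict R'.ι)) : RelProj.IsRelVeryAmple f L := by
  obtain ⟨E, hE, τ, hτ⟩ := exists_isEmb h
  obtain ⟨E', hE', τ', hτ'⟩ := exists_isEmb h'
  obtain ⟨φ, hφ⟩ := exists_ext_zero hd hc τ
  obtain ⟨φ', hφ'⟩ := exists_ext_zero (R := R') (R' := R) (by rw [inf_comm, hd]) (by rw [sup_comm, hc]) τ'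
  let ψ : (E ⊞ E') ⟶ (Scheme.Modules.pushforward f).obj L := biprod.desc φ φ'
  let ρ : LinData f (E ⊞ E') L :=
    { app := fun U => AddMonoidHom.mk' (fun e => (ψ.app U e : Γ(L, f ⁻¹ᵁ U))) fun a b => map_add _ a b
      app_smul := fun U a e => ψ.app_smul a e
      app_res := fun U V hle e => (PicAux.app_res ψ hle e).symm }
  refine isRelVeryAmple_of_isEmb (σ := ρ) fun z => ?_
  rcases Opens.mem_sup.1 (hc.ge (Opens.mem_top z)) with hz | hz
  · exact exists_emb_part hd hc hτ biprod.inl φ hφ ρ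
      (fun U e => congr(($(biprod.inl_desc φ φ')).app U e)) hz
  · exact exists_emb_part (by rw [inf_comm, hd]) (by rw [sup_comm, hc]) hτ' biprod.inr φ' hφ' ρ
      (fun U e => congr(($(biprod.inr_desc φ φ')).app U e)) hz

theorem isRelVeryAmple_coprod_iff {X X' : Scheme.{u}} (f : X ⨿ X' ⟶ Y) (L : (X ⨿ X').Modules) :
    RelProj.IsRelVeryAmple f L ↔
      RelProj.IsRelVeryAmple (coprod.inl ≫ f) ((Scheme.Modules.pullback (coprod.inl : X ⟶ X ⨿ X')).obj L) ∧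
        RelProj.IsRelVeryAmple (coprod.inr ≫ f) ((Scheme.Modules.pullback (coprod.inr : X' ⟶ X ⨿ X')).obj L) := by
  refine ⟨fun h => ⟨isRelVeryAmple_pullback_immersion h _ rfl, isRelVeryAmple_pullback_immersion h _ rfl⟩,
    fun h => ?_⟩
  have key : ∀ {Z : Scheme.{u}} (i : Z ⟶ X ⨿ X') [IsOpenImmersion i],
      RelProj.IsRelVeryAmple (i ≫ f) ((Scheme.Modules.pullback i).obj L) →
      RelProj.IsRelVeryAmple (i.opensRange.ι ≫ f) (L.restrict i.opensRange.ι) := by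
    intro Z i _ hi
    refine isRelVeryAmple_of_iso ?_ (isRelVeryAmple_pullback_immersion hi i.isoOpensRange.inv
      (g := i.opensRange.ι ≫ f) (by rw [← Category.assoc, Scheme.Hom.isoOpensRange_inv_comp]))
    exact (Scheme.Modules.pullbackComp i.isoOpensRange.inv i).app L ≪≫
      (Scheme.Modules.pullbackCongr (Scheme.Hom.isoOpensRange_inv_comp i)).app L ≪≫
      ((Scheme.Modules.restrictFunctorIsoPullback i.opensRange.ι).app L).symm
  have hcompl := isCompl_opensRange_inl_inr X X'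
  exact isRelVeryAmple_of_parts hcompl.inf_eq_bot hcompl.sup_eq_top (key _ h.1) (key _ h.2)

end Groth.RelVA
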