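import Mathlib.AlgebraicGeometry.Morphisms.Immersion
import Mathlib.AlgebraicGeometry.Limits
import Groth.Agent.PicAux.Sections

/-!
# Immersions into affine schemes with prescribed functions
-/

universe u

open CategoryTheory CategoryTheory.Limits AlgebraicGeometry Opposite TopologicalSpace

set_option backward.isDefEq.respectTransparency.types false

noncomputable section

namespace Groth.RelVA

/-! ### A criterion for immersions -/

/-- A morphism to an affine scheme is an immersion once an immersion into an affine scheme uses only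
functions coming from it. -/
theorem isImmersion_of_range {V W D : Scheme.{u}} [IsAffine W] [IsAffine D] (r : V ⟶ W) (i : V ⟶ D)
    [IsImmersion i] (h : ∀ a, ∃ b, r.appTop.hom b = i.appTop.hom a) : IsImmersion r := by
  choose β hβ using h
  let C : CommRingCat.{u} := CommRingCat.of (MvPolynomial Γ(D, ⊤) (ULift.{u} ℤ))
  let γD : C ⟶ Γ(D, ⊤) := CommRingCat.ofHom
    (MvPolynomial.eval₂Hom ((Int.castRingHom _).comp ULift.ringEquiv.toRingHom) id)
  let γW : C ⟶ Γ(W, ⊤) := CommRingCat.ofHom
    (MvPolynomial.eval₂Hom ((Int.castRingHom _).comp ULift.ringEquiv.toRingHom) β)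
  have hsurj : Function.Surjective γD := fun a => ⟨MvPolynomial.X a, MvPolynomial.eval₂Hom_X' _ _ _⟩
  let qD : D ⟶ Spec C := D.toSpecΓ ≫ Spec.map γD
  let qW : W ⟶ Spec C := W.toSpecΓ ≫ Spec.map γW
  have key : ∀ {Z : Scheme.{u}} (γ : C ⟶ Γ(Z, ⊤)),
      (Z.toSpecΓ ≫ Spec.map γ).appTop = (Scheme.ΓSpecIso C).hom ≫ γ := fun γ => by
    rw [Scheme.Hom.comp_appTop, Scheme.toSpecΓ_appTop, Scheme.ΓSpecIso_naturality]
  have : IsClosedImmersion (Spec.map γD) := IsClosedImmersion.spec_of_surjective γD hsurj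
  have e : r ≫ qW = i ≫ qD := by
    refine ext_of_isAffine ?_
    rw [Scheme.Hom.comp_appTop r, Scheme.Hom.comp_appTop i, key, key, Category.assoc, Category.assoc]
    congr 1
    refine CommRingCat.hom_ext (MvPolynomial.ringHom_ext (fun n => ?_) fun a => ?_)
    · obtain ⟨n⟩ := n
      simp [γW, γD]
    · simp [γW, γD, hβ]
  have : IsImmersion (r ≫ qW) := e ▸ inferInstance
  exact IsImmersion.of_comp r qW

/-! ### Functions along a map into an affine scheme -/

variable {X : Scheme.{u}}

/-- The functions of `D` on the open `G`. -/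
def kf {G : X.Opens} {D : Scheme.{u}} (k : (G : Scheme.{u}) ⟶ D) : Γ(D, ⊤) →+* Γ(X, G) :=
  (k.appTop ≫ G.topIso.hom).hom

theorem kf_comp {G : X.Opens} {D D' : Scheme.{u}} (k : (G : Scheme.{u}) ⟶ D) (l : D ⟶ D') (a : Γ(D', ⊤)) :
    kf (k ≫ l) a = kf k (l.appTop.hom a) := rfl

theorem kf_homOfLE {G G' : X.Opens} (h : G' ≤ G) {D : Scheme.{u}} (k : (G : Scheme.{u}) ⟶ D) (a : Γ(D, ⊤)) :
    kf (X.homOfLE h ≫ k) a = X.presheaf.map (homOfLE h).op (kf k a) := by
  refine congr(($(show (X.homOfLE h ≫ k).appTop ≫ G'.topIso.hom =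
    (k.appTop ≫ G.topIso.hom) ≫ X.presheaf.map (homOfLE h).op from ?_)).hom a)
  rw [Scheme.Hom.comp_appTop, Category.assoc, Category.assoc, Scheme.homOfLE_appTop]
  simp only [Scheme.Opens.topIso_hom]
  exact congrArg (k.appTop ≫ ·) ((X.presheaf.map_comp _ _).symm.trans
    ((congrArg _ (Subsingleton.elim _ _)).trans (X.presheaf.map_comp _ _)))

theorem kf_resLE {A : Scheme.{u}} (a : X ⟶ A) {H : A.Opens} {G : X.Opens} (h : G ≤ a ⁻¹ᵁ H)
    {D : Scheme.{u}} (k : (H : Scheme.{u}) ⟶ D) (x : Γ(D, ⊤)) :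
    kf (a.resLE H G h ≫ k) x = (a.appLE H G h).hom (kf k x) := by
  refine congr(($(show (a.resLE H G h ≫ k).appTop ≫ G.topIso.hom =
    (k.appTop ≫ H.topIso.hom) ≫ a.appLE H G h from ?_)).hom x)
  rw [Scheme.Hom.comp_appTop, Category.assoc, Category.assoc]
  congr 1
  rw [Scheme.Hom.appTop, ← Scheme.Hom.appLE_eq_app, Scheme.Hom.resLE_appLE]
  simp only [Scheme.Opens.topIso_hom]
  exact (Scheme.Hom.appLE_map a _ _).trans (Scheme.Hom.map_appLE a h _).symm

/-- `G` immerses in an affine scheme by means of functions in `T`. -/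
def Imm (G : X.Opens) (T : Subring Γ(X, G)) : Prop :=
  ∃ (D : Scheme.{u}) (_ : IsAffine D) (k : (G : Scheme.{u}) ⟶ D), IsImmersion k ∧ ∀ a, kf k a ∈ T

theorem Imm.mono {G : X.Opens} {T T' : Subring Γ(X, G)} (h : Imm G T) (hT : T ≤ T') : Imm G T' := by
  obtain ⟨D, hD, k, hk, hkT⟩ := h
  exact ⟨D, hD, k, hk, fun a => hT (hkT a)⟩

theorem Imm.restrict {G G' : X.Opens} {T : Subring Γ(X, G)} (h : Imm G T) (hle : G' ≤ G)
    {T' : Subring Γ(X, G')} (hT : ∀ a ∈ T, X.presheaf.map (homOfLE hle).op a ∈ T') : Imm G' T' := by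
  obtain ⟨D, hD, k, hk, hkT⟩ := h
  exact ⟨D, hD, X.homOfLE hle ≫ k, inferInstance, fun a => by rw [kf_homOfLE]; exact hT _ (hkT a)⟩

theorem imm_of_isAffineOpen {G : X.Opens} (hG : IsAffineOpen G) : Imm G ⊤ :=
  ⟨G, hG, 𝟙 _, inferInstance, fun _ => trivial⟩

/-! ### Products -/

/-- The pairing into the absolute product. -/
def pair {A B : Scheme.{u}} (a : X ⟶ A) (b : X ⟶ B) : X ⟶ pullback (terminal.from A) (terminal.from B) :=
  pullback.lift a b (Subsingleton.elim _ _)

theorem appTop_mem_closure (A B : Scheme.{u}) [IsAffine A] [IsAffine B] :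
    ∀ F : Γ(pullback (terminal.from A) (terminal.from B), ⊤), F ∈ Subring.closure (Set.range (pullback.fst (terminal.from A) (terminal.from B)).appTop ∪
      Set.range (pullback.snd (terminal.from A) (terminal.from B)).appTop) := by
  set P := pullback (terminal.from A) (terminal.from B)
  set T : Subring Γ(P, ⊤) := Subring.closure (Set.range (pullback.fst (terminal.from A) (terminal.from B)).appTop ∪
      Set.range (pullback.snd (terminal.from A) (terminal.from B)).appTop)
  intro F
  let ι : CommRingCat.of T ⟶ Γ(P, ⊤) := CommRingCat.ofHom T.subtype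
  let π : P ⟶ Spec (CommRingCat.of T) := P.toSpecΓ ≫ Spec.map ι
  have hπ : π.appTop = (Scheme.ΓSpecIso _).hom ≫ ι := by
    rw [Scheme.Hom.comp_appTop, Scheme.toSpecΓ_appTop, Scheme.ΓSpecIso_naturality]
  have fac : ∀ {C : Scheme.{u}} [IsAffine C] (pr : P ⟶ C), (∀ x, pr.appTop.hom x ∈ T) →
      ∃ q : Spec (CommRingCat.of T) ⟶ C, π ≫ q = pr := by
    intro C _ pr hpr
    let δ : Γ(C, ⊤) ⟶ CommRingCat.of T := CommRingCat.ofHom (pr.appTop.hom.codRestrict T hpr)
    refine ⟨Spec.map δ ≫ C.isoSpec.inv, ext_of_isAffine ?_⟩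
    rw [Scheme.Hom.comp_appTop, Scheme.Hom.comp_appTop, hπ, Category.assoc,
      Scheme.ΓSpecIso_naturality_assoc]
    have h1 : C.isoSpec.inv.appTop ≫ (Scheme.ΓSpecIso Γ(C, ⊤)).hom = 𝟙 _ := by
      have h2 : (C.isoSpec.hom ≫ C.isoSpec.inv).appTop = 𝟙 _ := by rw [Iso.hom_inv_id]; rfl
      rwa [Scheme.Hom.comp_appTop, Scheme.isoSpec_hom, Scheme.toSpecΓ_appTop] at h2
    rw [← Category.assoc C.isoSpec.inv.appTop, h1, Category.id_comp]
    ext x
    rfl
  obtain ⟨q₁, hq₁⟩ := fac (pullback.fst _ _) fun x => Subring.subset_closure (Or.inl ⟨x, rfl⟩)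
  obtain ⟨q₂, hq₂⟩ := fac (pullback.snd _ _) fun x => Subring.subset_closure (Or.inr ⟨x, rfl⟩)
  let q : Spec (CommRingCat.of T) ⟶ P := pullback.lift q₁ q₂ (Subsingleton.elim _ _)
  have hq : π ≫ q = 𝟙 P := by
    refine pullback.hom_ext ?_ ?_
    · rw [Category.assoc, pullback.lift_fst, hq₁, Category.id_comp]
    · rw [Category.assoc, pullback.lift_snd, hq₂, Category.id_comp]
  have h := congr(($(congrArg Scheme.Hom.appTop hq)).hom F)
  rw [Scheme.Hom.comp_appTop, hπ] at h
  have h' : (ι.hom ((Scheme.ΓSpecIso _).hom.hom (q.appTop.hom F))) = F := h.trans (by rfl)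
  refine (congrArg (· ∈ T) h').mp ?_
  exact ((Scheme.ΓSpecIso _).hom.hom (q.appTop.hom F)).2

/-- Immersions into affine schemes for two factors of an immersion into a product. -/
theorem imm_pair {A B : Scheme.{u}} (a : X ⟶ A) (b : X ⟶ B) [IsImmersion (pair a b)] {HA : A.Opens}
    {HB : B.Opens} {TA : Subring Γ(A, HA)} {TB : Subring Γ(B, HB)} (hA : Imm HA TA) (hB : Imm HB TB)
    {G : X.Opens} (ha : G ≤ a ⁻¹ᵁ HA) (hb : G ≤ b ⁻¹ᵁ HB) {T : Subring Γ(X, G)}
    (hTA : ∀ x ∈ TA, (a.appLE HA G ha).hom x ∈ T) (hTB : ∀ x ∈ TB, (b.appLE HB G hb).hom x ∈ T) :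
    Imm G T := by
  obtain ⟨DA, hDA, kA, hkA, hkAT⟩ := hA
  obtain ⟨DB, hDB, kB, hkB, hkBT⟩ := hB
  let a' := a.resLE HA G ha
  let b' := b.resLE HB G hb
  have hι : IsImmersion (pair a' b') := by
    have e : pair a' b' ≫ pullback.map (terminal.from (HA : Scheme.{u})) (terminal.from (HB : Scheme.{u}))
        (terminal.from A) (terminal.from B) HA.ι HB.ι (𝟙 _) (Subsingleton.elim _ _) (Subsingleton.elim _ _) =
        G.ι ≫ pair a b := by
      refine pullback.hom_ext ?_ ?_
      · simp only [pair, pullback.map, Category.assoc]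
        rw [pullback.lift_fst, pullback.lift_fst, pullback.lift_fst_assoc]
        exact Scheme.Hom.resLE_comp_ι _ _
      · simp only [pair, pullback.map, Category.assoc]
        rw [pullback.lift_snd, pullback.lift_snd, pullback.lift_snd_assoc]
        exact Scheme.Hom.resLE_comp_ι _ _
    have : IsImmersion (G.ι ≫ pair a b) := inferInstance
    rw [← e] at this
    exact IsImmersion.of_comp (pair a' b') (pullback.map (terminal.from (HA : Scheme.{u}))
      (terminal.from (HB : Scheme.{u})) (terminal.from A) (terminal.from B) HA.ι HB.ι (𝟙 _)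
      (Subsingleton.elim _ _) (Subsingleton.elim _ _))
  let m := pullback.map (terminal.from (HA : Scheme.{u})) (terminal.from (HB : Scheme.{u}))
    (terminal.from DA) (terminal.from DB) kA kB (𝟙 _) (Subsingleton.elim _ _) (Subsingleton.elim _ _)
  have : IsImmersion m := MorphismProperty.pullbackMap (P := @IsImmersion) hkA hkB (Subsingleton.elim _ _) (Subsingleton.elim _ _)
  refine ⟨pullback (terminal.from DA) (terminal.from DB), inferInstance, pair a' b' ≫ m, inferInstance,
    fun F => ?_⟩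
  refine (Subring.closure_le (t := T.comap (kf (pair a' b' ≫ m)))).2 ?_ (appTop_mem_closure DA DB F)
  rintro _ (⟨x, rfl⟩ | ⟨x, rfl⟩)
  · change kf (pair a' b' ≫ m) _ ∈ T
    rw [← kf_comp, show (pair a' b' ≫ m) ≫ pullback.fst _ _ = a' ≫ kA by
      simp only [pair, m, pullback.map, Category.assoc]
      rw [pullback.lift_fst, pullback.lift_fst_assoc], kf_resLE]
    exact hTA _ (hkAT x)
  · change kf (pair a' b' ≫ m) _ ∈ T
    rw [← kf_comp, show (pair a' b' ≫ m) ≫ pullback.snd _ _ = b' ≫ kB by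
      simp only [pair, m, pullback.map, Category.assoc]
      rw [pullback.lift_snd, pullback.lift_snd_assoc], kf_resLE]
    exact hTB _ (hkBT x)

/-- A morphism with a left inverse immerses into a product. -/
theorem isImmersion_pair_of_left {A B : Scheme.{u}} (a : X ⟶ A) [IsImmersion a] (b : X ⟶ B) :
    IsImmersion (pair a b) := by
  have : IsImmersion (pair a b ≫ pullback.fst _ _) := by
    rw [pair, pullback.lift_fst]
    infer_instance
  exact IsImmersion.of_comp (pair a b) (pullback.fst _ _)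

/-- A fibre product immerses into the absolute product. -/
theorem isImmersion_pair_of_isPullback {A B S : Scheme.{u}} {a : X ⟶ A} {b : X ⟶ B} {f : A ⟶ S} {g : B ⟶ S}
    (h : IsPullback a b f g) : IsImmersion (pair a b) := by
  let m := pullback.mapDesc f g (terminal.from S)
  have e : h.isoPullback.hom ≫ m ≫ (pullback.congrHom (Subsingleton.elim (f ≫ terminal.from S) (terminal.from A))
      (Subsingleton.elim (g ≫ terminal.from S) (terminal.from B))).hom = pair a b := by
    refine pullback.hom_ext ?_ ?_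
    · simp only [pair, m, pullback.mapDesc, pullback.congrHom_hom, pullback.map, Category.assoc]
      rw [pullback.lift_fst, pullback.lift_fst, pullback.lift_fst_assoc]
      simp
    · simp only [pair, m, pullback.mapDesc, pullback.congrHom_hom, pullback.map, Category.assoc]
      rw [pullback.lift_snd, pullback.lift_snd, pullback.lift_snd_assoc]
      simp
  rw [← e]
  infer_instance

end Groth.RelVA
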