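import Groth.Agent.RelVA.Emb
import Groth.Agent.PicAux.PullTensor
import Groth.Agent.PicAux.Powers
import Groth.Agent.QCohMod.Tensor
import Groth.Agent.QCohMod.PullbackQCoh

/-!
# Operations on linear systems: inverse images and tensor products
-/

universe u

open CategoryTheory CategoryTheory.Limits AlgebraicGeometry Opposite TopologicalSpace
open scoped HomogeneousIdeal

set_option backward.isDefEq.respectTransparency.types false

noncomputable section

namespace Groth.RelVA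

open Groth.PicAux Groth.RelTw

variable {S X : Scheme.{u}} {E : S.Modules} {g : X ⟶ S} {L : X.Modules}

theorem isRelVeryAmple_of_iso {L' : X.Modules} (e : L ≅ L') (h : RelProj.IsRelVeryAmple g L) :
    RelProj.IsRelVeryAmple g L' := by
  obtain ⟨E, hE, 𝒮, j, hj, P, p, chart, hP, O1, lam, hO1, i, hi, hc, ⟨τ⟩⟩ := h
  exact ⟨E, hE, 𝒮, j, hj, P, p, chart, hP, O1, lam, hO1, i, hi, hc, ⟨e.symm ≪≫ τ⟩⟩

/-! ### Generating loci -/

variable (σ : LinData g E L)

theorem basicOpen_le_genLoc {U : S.Opens} {e : Γ(E, U)} {V₀ : X.Opens} (hV₀ : V₀ ≤ g ⁻¹ᵁ U) {t : Γ(L, V₀)}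
    (ht : Gen L V₀ t) {c : Γ(X, V₀)} (hc : res L hV₀ (σ.app U e) = c • t) :
    X.basicOpen c ≤ σ.genLoc U e := by
  refine σ.le_genLoc ((X.basicOpen_le c).trans hV₀) ?_
  have h := congrArg (res L (X.basicOpen_le c)) hc
  rw [PicAux.res_res, PicAux.res_smul] at h
  rw [h]
  exact (ht.res (X.basicOpen_le c)).smul_unit (X.toRingedSpace.isUnit_res_basicOpen c)

theorem inf_le_basicOpen {U : S.Opens} {e : Γ(E, U)} {V₀ : X.Opens} (hV₀ : V₀ ≤ g ⁻¹ᵁ U) {t : Γ(L, V₀)}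
    (ht : Gen L V₀ t) {c : Γ(X, V₀)} (hc : res L hV₀ (σ.app U e) = c • t) :
    σ.genLoc U e ⊓ V₀ ≤ X.basicOpen c := by
  have h1 := (σ.gen_genLoc U e).res (inf_le_left : σ.genLoc U e ⊓ V₀ ≤ _)
  have h := congrArg (res L (inf_le_right : σ.genLoc U e ⊓ V₀ ≤ V₀)) hc
  rw [PicAux.res_res, PicAux.res_smul] at h
  rw [PicAux.res_res, h] at h1
  have hu := (ht.res (inf_le_right : σ.genLoc U e ⊓ V₀ ≤ V₀)).isUnit_of_smul h1
  intro z hz
  have h2 : z ∈ X.basicOpen (resX X (inf_le_right : σ.genLoc U e ⊓ V₀ ≤ V₀) c) :=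
    (Scheme.basicOpen_of_isUnit X hu).ge hz
  exact (inf_le_right : _ ⊓ X.basicOpen c ≤ _) ((Scheme.basicOpen_res X c _).le h2)

/-- A candidate for the generating locus is the generating locus. -/
theorem genLoc_eq {U : S.Opens} {e : Γ(E, U)} {G : X.Opens} (hG : G ≤ g ⁻¹ᵁ U)
    (hgen : Gen L G (res L hG (σ.app U e)))
    (hcov : ∀ z, g z ∈ U → ∃ (V₀ : X.Opens) (hV₀ : V₀ ≤ g ⁻¹ᵁ U) (t : Γ(L, V₀)) (c : Γ(X, V₀)),
      z ∈ V₀ ∧ Gen L V₀ t ∧ res L hV₀ (σ.app U e) = c • t ∧ X.basicOpen c ≤ G) :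
    σ.genLoc U e = G := by
  refine le_antisymm (fun z hz => ?_) (σ.le_genLoc hG hgen)
  obtain ⟨V₀, hV₀, t, c, hzV, ht, hc, hle⟩ := hcov z (σ.genLoc_le U e hz)
  exact hle (inf_le_basicOpen σ hV₀ ht hc ⟨hz, hzV⟩)

/-- The ratio locus. -/
theorem basicOpen_ratio_le (U : S.Opens) (e₀ e : Γ(E, U)) :
    X.basicOpen (σ.ratio U e₀ e) ≤ σ.genLoc U e :=
  basicOpen_le_genLoc σ (σ.genLoc_le U e₀) (σ.gen_genLoc U e₀) (σ.ratio_smul U e₀ e).symm

/-! ### Inverse images -/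

section pull

variable {X' S' : Scheme.{u}} {g' : X' ⟶ X} {f' : X' ⟶ S'} {h : S' ⟶ S} (sq : g' ≫ g = f' ≫ h)

include sq in
theorem preimage_sq (U : S.Opens) : f' ⁻¹ᵁ (h ⁻¹ᵁ U) = g' ⁻¹ᵁ (g ⁻¹ᵁ U) := by
  rw [← Scheme.Hom.comp_preimage, ← Scheme.Hom.comp_preimage, sq]

include sq in
theorem exists_pullData :
    ∃ σ' : LinData f' ((Scheme.Modules.pullback h).obj E) ((Scheme.Modules.pullback g').obj L),
      ∀ (U : S.Opens) (e : Γ(E, U)), σ'.app (h ⁻¹ᵁ U) (pullSec h E e) =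
        res _ (preimage_sq sq U).le (pullSec g' L (σ.app U e)) := by
  let F := (Scheme.Modules.pullback g').obj L
  obtain ⟨ψ, hψ⟩ := Groth.LocFree.exists_hom_of_affine (L := E)
    (M := (Scheme.Modules.pushforward h).obj ((Scheme.Modules.pushforward f').obj F))
    (fun U _ =>
      { toFun := fun e => (res F (preimage_sq sq U).le (pullSec g' L (σ.app U e)) : Γ(F, f' ⁻¹ᵁ (h ⁻¹ᵁ U)))
        map_add' := fun a b => by
          change (res F _ _ : Γ(F, f' ⁻¹ᵁ (h ⁻¹ᵁ U))) = _ + _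
          rw [map_add, show pullSec g' L (σ.app U a + σ.app U b) =
            pullSec g' L (σ.app U a) + pullSec g' L (σ.app U b) from map_add _ _ _, res_add]
        map_smul' := fun a e => by
          change (res F _ _ : Γ(F, f' ⁻¹ᵁ (h ⁻¹ᵁ U))) = (f'.app (h ⁻¹ᵁ U)).hom ((h.app U).hom a) •
            res F (preimage_sq sq U).le (pullSec g' L (σ.app U e))
          rw [σ.app_smul, pullSec_smul, PicAux.res_smul]
          congr 1
          have key : ∀ {q : X' ⟶ S} (_ : q = f' ≫ h) (hle : (f' ≫ h) ⁻¹ᵁ U ≤ q ⁻¹ᵁ U),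
              resX X' hle (q.app U a) = (f'.app (h ⁻¹ᵁ U)).hom ((h.app U).hom a) := by
            rintro q rfl hle
            exact (congrArg (fun m => (X'.presheaf.map m).hom ((f' ≫ h).app U a)) (Subsingleton.elim _ (𝟙 _))).trans
              (congr(($(X'.presheaf.map_id (op ((f' ≫ h) ⁻¹ᵁ U)))).hom ((f' ≫ h).app U a)))
          exact key sq (preimage_sq sq U).le })
    fun U V _ _ hVU e => by
      change res F (f'.preimage_mono (h.preimage_mono hVU)) (res F (preimage_sq sq U).le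
        (pullSec g' L (σ.app U e))) = res F (preimage_sq sq V).le (pullSec g' L (σ.app V _))
      rw [← σ.app_res U V hVU, ← res_pullSec, PicAux.res_res, PicAux.res_res]
  let H := ((Scheme.Modules.pullbackPushforwardAdjunction h).homEquiv E
    ((Scheme.Modules.pushforward f').obj F)).symm ψ
  refine ⟨{ app := fun U => AddMonoidHom.mk' (fun e => (H.app U e : Γ(F, f' ⁻¹ᵁ U))) fun a b => map_add _ a b
            app_smul := fun U a e => H.app_smul a e
            app_res := fun U V hle e => (PicAux.app_res H hle e).symm }, fun U e => ?_⟩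
  refine (symm_app_pullSec h ψ e).trans ?_
  refine res_ext (fun V : {V : S.affineOpens // V.1 ≤ U} => f' ⁻¹ᵁ (h ⁻¹ᵁ V.1.1))
    (fun V => f'.preimage_mono (h.preimage_mono V.2)) (fun z hz => ?_) fun V => ?_
  · obtain ⟨V, hV, hzV, hVU⟩ := exists_isAffineOpen_mem_and_subset (x := h (f' z)) (U := U) hz
    exact Opens.mem_iSup.2 ⟨⟨⟨V, hV⟩, hVU⟩, hzV⟩
  refine Eq.trans (b := ψ.app V.1.1 (res E V.2 e)) (PicAux.app_res ψ V.2 e).symm ?_
  rw [hψ V.1.1 V.1.2]
  change res F (preimage_sq sq V.1.1).le (pullSec g' L (σ.app V.1.1 (res E V.2 e))) = _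
  rw [← σ.app_res U V.1.1 V.2, ← res_pullSec, PicAux.res_res, PicAux.res_res]

variable {σ}
variable {σ' : LinData f' ((Scheme.Modules.pullback h).obj E) ((Scheme.Modules.pullback g').obj L)}
  (hσ' : ∀ (U : S.Opens) (e : Γ(E, U)), σ'.app (h ⁻¹ᵁ U) (pullSec h E e) =
    res _ (preimage_sq sq U).le (pullSec g' L (σ.app U e)))

include hσ' in
theorem pull_app_res {U : S.Opens} {V : S'.Opens} (hV : V ≤ h ⁻¹ᵁ U) (e : Γ(E, U)) :
    σ'.app V (res _ hV (pullSec h E e)) =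
      res _ ((f'.preimage_mono hV).trans (preimage_sq sq U).le) (pullSec g' L (σ.app U e)) := by
  rw [← σ'.app_res (h ⁻¹ᵁ U) V hV, hσ', PicAux.res_res]

variable [E.IsQuasicoherent]
  (hepi : ∀ z : X, ∃ (U : S.Opens) (_ : IsAffineOpen U) (e : Γ(E, U)), z ∈ σ.genLoc U e)

include hσ' hepi in
theorem genLoc_pull {U : S.Opens} (hU : IsAffineOpen U) {V : S'.Opens} (hV : V ≤ h ⁻¹ᵁ U) (e : Γ(E, U)) :
    σ'.genLoc V (res _ hV (pullSec h E e)) = g' ⁻¹ᵁ σ.genLoc U e ⊓ f' ⁻¹ᵁ V := by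
  refine genLoc_eq σ' inf_le_right ?_ fun z hz => ?_
  · rw [pull_app_res sq hσ', PicAux.res_res]
    have h1 := ((σ.gen_genLoc U e).pull g').res (inf_le_left : g' ⁻¹ᵁ σ.genLoc U e ⊓ f' ⁻¹ᵁ V ≤ _)
    rw [← res_pullSec g' L (σ.genLoc_le U e), PicAux.res_res] at h1
    exact h1
  · have hgz : g (g' z) ∈ U := ((f'.preimage_mono hV).trans (preimage_sq sq U).le) hz
    obtain ⟨e₀, he₀⟩ := exists_genLoc_of_hepi hepi U hU hgz
    let V₀ := g' ⁻¹ᵁ σ.genLoc U e₀ ⊓ f' ⁻¹ᵁ V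
    let c₀ : Γ(X', g' ⁻¹ᵁ σ.genLoc U e₀) := (g'.app (σ.genLoc U e₀)).hom (σ.ratio U e₀ e)
    refine ⟨V₀, inf_le_right,
      res _ inf_le_left (pullSec g' L (res L (σ.genLoc_le U e₀) (σ.app U e₀))), resX X' inf_le_left c₀,
      ⟨he₀, hz⟩, ((σ.gen_genLoc U e₀).pull g').res _, ?_, ?_⟩
    · rw [pull_app_res sq hσ', PicAux.res_res, ← PicAux.res_smul, ← pullSec_smul, σ.ratio_smul,
        ← res_pullSec g' L (σ.genLoc_le U e₀), PicAux.res_res]
    · intro w hw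
      have hw' := (Scheme.basicOpen_res X' c₀ _).le hw
      refine ⟨basicOpen_ratio_le σ U e₀ e ((Scheme.preimage_basicOpen g' _).ge hw'.2), hw'.1.2⟩

include hσ' hepi in
theorem hepi_pull (z : X') :
    ∃ (V : S'.Opens) (_ : IsAffineOpen V) (e : Γ((Scheme.Modules.pullback h).obj E, V)), z ∈ σ'.genLoc V e := by
  obtain ⟨U, hU, hzU, -⟩ := exists_isAffineOpen_mem_and_subset (x := h (f' z)) (U := (⊤ : S.Opens)) trivial
  obtain ⟨V, hV, hzV, hVU⟩ := exists_isAffineOpen_mem_and_subset (x := f' z) (U := h ⁻¹ᵁ U) hzU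
  obtain ⟨e, he⟩ := exists_genLoc_of_hepi hepi U hU (z := g' z) ((preimage_sq sq U).le hzU)
  exact ⟨V, hV, res _ hVU (pullSec h E e), (genLoc_pull sq hσ' hepi hU hVU e).ge ⟨he, hzV⟩⟩

include hσ' in
omit [E.IsQuasicoherent] in
theorem rGen_pull {U : S.Opens} {V : S'.Opens} (hV : V ≤ h ⁻¹ᵁ U) (e : Γ(E, U))
    (hle : σ'.genLoc V (res _ hV (pullSec h E e)) ≤ g' ⁻¹ᵁ σ.genLoc U e) (x : Γ(X, σ.genLoc U e))
    (hx : x ∈ rGen σ U e) :
    (g'.appLE (σ.genLoc U e) _ hle).hom x ∈ rGen σ' V (res _ hV (pullSec h E e)) := by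
  refine (Subring.closure_le (t := (rGen σ' V (res _ hV (pullSec h E e))).comap
    (g'.appLE (σ.genLoc U e) _ hle).hom)).2 ?_ hx
  rintro _ (⟨a, rfl⟩ | ⟨e', rfl⟩)
  · have h1 : (g'.appLE (σ.genLoc U e) _ hle).hom ((g.appLE U (σ.genLoc U e) (σ.genLoc_le U e)).hom a) =
        (f'.appLE V _ (σ'.genLoc_le V (res _ hV (pullSec h E e)))).hom ((h.appLE U V hV).hom a) := by
      rw [← CommRingCat.comp_apply, ← CommRingCat.comp_apply, Scheme.Hom.appLE_comp_appLE,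
        Scheme.Hom.appLE_comp_appLE]
      exact congr(($(appLE_congr_hom sq _ _)).hom a)
    rw [SetLike.mem_coe, Subring.mem_comap, h1]
    exact base_mem_rGen σ' V _ _
  · have h1 : (g'.appLE (σ.genLoc U e) _ hle).hom (σ.ratio U e e') =
        σ'.ratio V (res _ hV (pullSec h E e)) (res _ hV (pullSec h E e')) := by
      refine σ'.eq_ratio ?_
      rw [pull_app_res sq hσ', pull_app_res sq hσ', PicAux.res_res, PicAux.res_res]
      have h2 := congrArg (fun v => res ((Scheme.Modules.pullback g').obj L) hle (pullSec g' L v))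
        (σ.ratio_smul U e e')
      rw [pullSec_smul, PicAux.res_smul, ← res_pullSec g' L (σ.genLoc_le U e),
        ← res_pullSec g' L (σ.genLoc_le U e), PicAux.res_res, PicAux.res_res] at h2
      exact h2
    rw [SetLike.mem_coe, Subring.mem_comap, h1]
    exact ratio_mem_rGen σ' V _ _
where
  appLE_congr_hom {Z Y : Scheme.{u}} {a a' : Z ⟶ Y} (e : a = a') {V : Y.Opens} {W : Z.Opens}
      (h : W ≤ a ⁻¹ᵁ V) (h' : W ≤ a' ⁻¹ᵁ V) : a.appLE V W h = a'.appLE V W h' := by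
    subst e; rfl

include hσ' in
theorem isEmb_pull [IsImmersion (pair g' f')] (hσ : IsEmb σ) : IsEmb σ' := by
  intro z
  obtain ⟨U, hU, hzU, -⟩ := exists_isAffineOpen_mem_and_subset (x := h (f' z)) (U := (⊤ : S.Opens)) trivial
  obtain ⟨V, hV, hzV, hVU⟩ := exists_isAffineOpen_mem_and_subset (x := f' z) (U := h ⁻¹ᵁ U) hzU
  obtain ⟨e, he⟩ := exists_genLoc_of_hepi (IsEmb.hepi σ hσ) U hU (z := g' z) ((preimage_sq sq U).le hzU)
  have hG := genLoc_pull sq hσ' (IsEmb.hepi σ hσ) hU hVU e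
  refine ⟨V, hV, res _ hVU (pullSec h E e), hG.ge ⟨he, hzV⟩, ?_⟩
  refine imm_pair g' f' (hσ.imm U hU e) (imm_of_isAffineOpen hV) (hG.le.trans inf_le_left)
    (σ'.genLoc_le V _) (fun x hx => rGen_pull sq hσ' hVU e _ x hx) fun x _ => base_mem_rGen σ' V _ x

end pull

/-! ### Tensor products -/

section tensor

variable {E₂ : S.Modules} {L₂ : X.Modules} (σ₂ : LinData g E₂ L₂)

theorem exists_tensorData :
    ∃ τ : LinData g (CohB1.tensorMod E E₂) (CohB1.tensorMod L L₂),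
      ∀ (U : S.Opens) (a : Γ(E, U)) (b : Γ(E₂, U)),
        τ.app U (tmulSec a b) = tmulSec (σ.app U a) (σ₂.app U b) := by
  let M := (Scheme.Modules.pushforward g).obj (CohB1.tensorMod L L₂)
  obtain ⟨φ, hφ⟩ := exists_tensor_lift (L := E) (M := E₂) (P := M)
    (fun W => LinearMap.mk₂ _
      (fun a b => (tmulSec (σ.app W a) (σ₂.app W b) : Γ(CohB1.tensorMod L L₂, g ⁻¹ᵁ W)))
      (fun a a' b => by rw [map_add]; exact tmulSec_add_left _ _ _)
      (fun r a b => by rw [σ.app_smul]; exact tmulSec_smul_left _ _ _)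
      (fun a b b' => by rw [map_add]; exact tmulSec_add_right _ _ _)
      (fun r a b => by rw [σ₂.app_smul]; exact tmulSec_smul_right _ _ _))
    fun W W' hle a b => by
      change res (CohB1.tensorMod L L₂) (g.preimage_mono hle) (tmulSec (σ.app W a) (σ₂.app W b)) =
        tmulSec (σ.app W' (res E hle a)) (σ₂.app W' (res E₂ hle b))
      rw [res_tmulSec, σ.app_res W W' hle, σ₂.app_res W W' hle]
  exact ⟨{ app := fun U => AddMonoidHom.mk' (fun x => (φ.app U x : Γ(CohB1.tensorMod L L₂, g ⁻¹ᵁ U)))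
              fun a b => map_add _ a b
           app_smul := fun U a e => φ.app_smul a e
           app_res := fun U V hle e => (PicAux.app_res φ hle e).symm }, fun U a b => hφ U a b⟩

variable {σ} {σ₂} {τ : LinData g (CohB1.tensorMod E E₂) (CohB1.tensorMod L L₂)}
  (hτ : ∀ (U : S.Opens) (a : Γ(E, U)) (b : Γ(E₂, U)),
    τ.app U (tmulSec a b) = tmulSec (σ.app U a) (σ₂.app U b))
  [E.IsQuasicoherent] [E₂.IsQuasicoherent]
  (h₁ : ∀ z : X, ∃ (U : S.Opens) (_ : IsAffineOpen U) (e : Γ(E, U)), z ∈ σ.genLoc U e)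
  (h₂ : ∀ z : X, ∃ (U : S.Opens) (_ : IsAffineOpen U) (e : Γ(E₂, U)), z ∈ σ₂.genLoc U e)

include hτ h₁ h₂ in
theorem genLoc_tensor {U : S.Opens} (hU : IsAffineOpen U) (a : Γ(E, U)) (b : Γ(E₂, U)) :
    τ.genLoc U (tmulSec a b) = σ.genLoc U a ⊓ σ₂.genLoc U b := by
  refine genLoc_eq τ (inf_le_left.trans (σ.genLoc_le U a)) ?_ fun z hz => ?_
  · rw [hτ, res_tmulSec]
    have h1 := ((σ.gen_genLoc U a).res (inf_le_left : σ.genLoc U a ⊓ σ₂.genLoc U b ≤ _)).tensor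
      ((σ₂.gen_genLoc U b).res (inf_le_right : σ.genLoc U a ⊓ σ₂.genLoc U b ≤ _))
    rwa [PicAux.res_res, PicAux.res_res] at h1
  · obtain ⟨a₀, ha₀⟩ := exists_genLoc_of_hepi h₁ U hU hz
    obtain ⟨b₀, hb₀⟩ := exists_genLoc_of_hepi h₂ U hU hz
    let V₀ := σ.genLoc U a₀ ⊓ σ₂.genLoc U b₀
    refine ⟨V₀, inf_le_left.trans (σ.genLoc_le U a₀),
      tmulSec (res L inf_le_left (res L (σ.genLoc_le U a₀) (σ.app U a₀)))
        (res L₂ inf_le_right (res L₂ (σ₂.genLoc_le U b₀) (σ₂.app U b₀))),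
      resX X inf_le_left (σ.ratio U a₀ a) * resX X inf_le_right (σ₂.ratio U b₀ b),
      ⟨ha₀, hb₀⟩, ((σ.gen_genLoc U a₀).res _).tensor ((σ₂.gen_genLoc U b₀).res _), ?_, ?_⟩
    · rw [hτ, res_tmulSec, mul_smul, ← tmulSec_smul_right, ← tmulSec_smul_left, ← PicAux.res_smul,
        ← PicAux.res_smul, σ.ratio_smul, σ₂.ratio_smul, PicAux.res_res, PicAux.res_res]
    · rw [Scheme.basicOpen_mul]
      refine inf_le_inf (fun w hw => ?_) fun w hw => ?_
      · exact basicOpen_ratio_le σ U a₀ a ((Scheme.basicOpen_res X _ _).le hw).2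
      · exact basicOpen_ratio_le σ₂ U b₀ b ((Scheme.basicOpen_res X _ _).le hw).2

include hτ in
omit [E.IsQuasicoherent] [E₂.IsQuasicoherent] in
theorem rGen_tensor_left {U : S.Opens} (a : Γ(E, U)) (b : Γ(E₂, U))
    (hle : τ.genLoc U (tmulSec a b) ≤ σ.genLoc U a) (x : Γ(X, σ.genLoc U a)) (hx : x ∈ rGen σ U a) :
    resX X hle x ∈ rGen τ U (tmulSec a b) := by
  refine (Subring.closure_le (t := (rGen τ U (tmulSec a b)).comap (resX X hle))).2 ?_ hx
  rintro _ (⟨r, rfl⟩ | ⟨a', rfl⟩)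
  · rw [SetLike.mem_coe, Subring.mem_comap]
    refine (congrArg (· ∈ rGen τ U (tmulSec a b)) ?_).mpr (base_mem_rGen τ U _ r)
    exact resX_rAp g (σ.genLoc_le U a) hle r
  · rw [SetLike.mem_coe, Subring.mem_comap]
    refine (congrArg (· ∈ rGen τ U (tmulSec a b)) ?_).mpr (ratio_mem_rGen τ U (tmulSec a b) (tmulSec a' b))
    refine τ.eq_ratio ?_
    rw [hτ, hτ, res_tmulSec, res_tmulSec, ← tmulSec_smul_left]
    have h2 := congrArg (res L hle) (σ.ratio_smul U a a')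
    rw [PicAux.res_smul, PicAux.res_res, PicAux.res_res] at h2
    rw [h2]

include hτ in
omit [E.IsQuasicoherent] [E₂.IsQuasicoherent] in
theorem rGen_tensor_right {U : S.Opens} (a : Γ(E, U)) (b : Γ(E₂, U))
    (hle : τ.genLoc U (tmulSec a b) ≤ σ₂.genLoc U b) (x : Γ(X, σ₂.genLoc U b)) (hx : x ∈ rGen σ₂ U b) :
    resX X hle x ∈ rGen τ U (tmulSec a b) := by
  refine (Subring.closure_le (t := (rGen τ U (tmulSec a b)).comap (resX X hle))).2 ?_ hx
  rintro _ (⟨r, rfl⟩ | ⟨b', rfl⟩)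
  · rw [SetLike.mem_coe, Subring.mem_comap]
    refine (congrArg (· ∈ rGen τ U (tmulSec a b)) ?_).mpr (base_mem_rGen τ U _ r)
    exact resX_rAp g (σ₂.genLoc_le U b) hle r
  · rw [SetLike.mem_coe, Subring.mem_comap]
    refine (congrArg (· ∈ rGen τ U (tmulSec a b)) ?_).mpr (ratio_mem_rGen τ U (tmulSec a b) (tmulSec a b'))
    refine τ.eq_ratio ?_
    rw [hτ, hτ, res_tmulSec, res_tmulSec, ← tmulSec_smul_right]
    have h2 := congrArg (res L₂ hle) (σ₂.ratio_smul U b b')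
    rw [PicAux.res_smul, PicAux.res_res, PicAux.res_res] at h2
    rw [h2]

include hτ h₂ in
theorem isEmb_tensor (hσ : IsEmb σ) : IsEmb τ := by
  intro z
  obtain ⟨U, hU, hzU, -⟩ := exists_isAffineOpen_mem_and_subset (x := g z) (U := (⊤ : S.Opens)) trivial
  obtain ⟨a, ha⟩ := exists_genLoc_of_hepi (IsEmb.hepi σ hσ) U hU hzU
  obtain ⟨b, hb⟩ := exists_genLoc_of_hepi h₂ U hU hzU
  have hG := genLoc_tensor hτ (IsEmb.hepi σ hσ) h₂ hU a b
  exact ⟨U, hU, tmulSec a b, hG.ge ⟨ha, hb⟩,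
    (hσ.imm U hU a).restrict (hG.le.trans inf_le_left) fun x hx => rGen_tensor_left hτ a b _ x hx⟩

omit [E₂.IsQuasicoherent] in
/-- A very ample module tensor a generated one is very ample. -/
theorem isRelVeryAmple_tensor (hσ : IsEmb σ) (hE₂ : E₂.IsQuasicoherent)
    (hepi₂ : ∀ z : X, ∃ (U : S.Opens) (_ : IsAffineOpen U) (e : Γ(E₂, U)), z ∈ σ₂.genLoc U e) :
    RelProj.IsRelVeryAmple g (CohB1.tensorMod L L₂) := by
  obtain ⟨τ, hτ⟩ := exists_tensorData σ σ₂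
  have : (CohB1.tensorMod E E₂).IsQuasicoherent := Groth.QCohMod.isQCoh_tensorMod
  exact isRelVeryAmple_of_isEmb (isEmb_tensor hτ hepi₂ hσ)

end tensor

end Groth.RelVA
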