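import Groth.Agent.RelVA.Emb
import Groth.Agent.RelTwist.ProjInv
import Groth.Agent.Ega2Proj2.QMap

/-!
# The morphism of a linear system and the morphism of a graded algebra map
-/

universe u

open CategoryTheory CategoryTheory.Limits AlgebraicGeometry Opposite TopologicalSpace
open scoped HomogeneousIdeal

set_option backward.isDefEq.respectTransparency.types false

noncomputable section

namespace Groth.RelVA

open Groth.PicAux Groth.RelTw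

theorem awayι_appLE {A σ : Type u} [CommRing A] [SetLike σ A] [AddSubgroupClass σ A] (𝒜 : ℕ → σ) [GradedRing 𝒜]
    (f : A) {m : ℕ} (hf : f ∈ 𝒜 m) (hm : 0 < m)
    (h : ⊤ ≤ Proj.awayι 𝒜 f hf hm ⁻¹ᵁ Proj.basicOpen 𝒜 f) :
    (Proj.basicOpenIsoAway 𝒜 f hf hm).hom ≫ (Proj.awayι 𝒜 f hf hm).appLE (Proj.basicOpen 𝒜 f) ⊤ h =
      (Scheme.ΓSpecIso _).inv := by
  have e0 : (Proj.awayι 𝒜 f hf hm).appLE (Proj.basicOpen 𝒜 f) ⊤ h =
      (Proj.basicOpen 𝒜 f).topIso.inv ≫ (Proj.basicOpenIsoSpec 𝒜 f hf hm).inv.appTop := by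
    change ((Proj.basicOpenIsoSpec 𝒜 f hf hm).inv ≫ (Proj.basicOpen 𝒜 f).ι).appLE _ _ _ = _
    rw [← Scheme.Hom.appLE_comp_appLE _ _ (Proj.basicOpen 𝒜 f) ⊤ ⊤ (by simp) le_rfl, Scheme.Opens.ι_appLE,
      Scheme.Hom.appLE]
    exact congrArg₂ (· ≫ ·) rfl (by simp)
  rw [e0, Proj.basicOpenIsoAway_hom]
  have e1 : Proj.awayToSection 𝒜 f ≫ (Proj.basicOpen 𝒜 f).topIso.inv =
      (Scheme.ΓSpecIso _).inv ≫ (Proj.basicOpenToSpec 𝒜 f).appTop :=
    ((Iso.inv_comp_eq _).2 (Proj.basicOpenToSpec_app_top 𝒜 f)).symm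
  rw [reassoc_of% e1, ← Proj.basicOpenIsoSpec_hom 𝒜 f hf hm, ← Scheme.Hom.comp_appTop, Iso.inv_hom_id,
    Scheme.Hom.id_appTop]
  exact Category.comp_id _

section coord

variable {S P : Scheme.{u}} {E : S.Modules} {𝒮 : RelProj.QCGrAlg S} {j : E ⟶ 𝒮.toModule}
  (hj : RelProj.IsGrSymAlg E 𝒮 j) {p : P ⟶ S}
  {chart : ∀ (U : S.Opens) (hU : IsAffineOpen U), (((p ⁻¹ᵁ U : P.Opens) : Scheme.{u}) ≅ Proj (𝒮.deg U hU))}

theorem le_awayι_emb (U : S.Opens) (hU : IsAffineOpen U) (e : Γ(E, U)) :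
    ⊤ ≤ (Proj.awayι (𝒮.deg U hU) (jel 𝒮 j U e) (hj.2 U hU e) one_pos ≫ RelProj.emb p chart U hU) ⁻¹ᵁ
      dPlus p chart j U hU e := fun w _ =>
  ⟨(Proj.awayι (𝒮.deg U hU) (jel 𝒮 j U e) (hj.2 U hU e) one_pos).base w,
    (Proj.opensRange_awayι (𝒮.deg U hU) (jel 𝒮 j U e) (hj.2 U hU e) one_pos).le ⟨w, rfl⟩, rfl⟩

theorem awayι_emb_appLE_coord (U : S.Opens) (hU : IsAffineOpen U) (e : Γ(E, U))
    (c : HomogeneousLocalization.Away (𝒮.deg U hU) (jel 𝒮 j U e)) :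
    (Proj.awayι (𝒮.deg U hU) (jel 𝒮 j U e) (hj.2 U hU e) one_pos ≫ RelProj.emb p chart U hU).appLE
        (dPlus p chart j U hU e) ⊤ (le_awayι_emb hj U hU e) ((coord hj chart U hU e).hom c) =
      (Scheme.ΓSpecIso _).inv c := by
  have h1 : ⊤ ≤ Proj.awayι (𝒮.deg U hU) (jel 𝒮 j U e) (hj.2 U hU e) one_pos ⁻¹ᵁ
      Proj.basicOpen (𝒮.deg U hU) (jel 𝒮 j U e) := fun w _ =>
    (Proj.opensRange_awayι (𝒮.deg U hU) (jel 𝒮 j U e) (hj.2 U hU e) one_pos).le ⟨w, rfl⟩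
  have h2 : Proj.basicOpen (𝒮.deg U hU) (jel 𝒮 j U e) ≤ RelProj.emb p chart U hU ⁻¹ᵁ dPlus p chart j U hU e :=
    fun w hw => ⟨w, hw, rfl⟩
  rw [← Scheme.Hom.appLE_comp_appLE _ _ (dPlus p chart j U hU e) (Proj.basicOpen (𝒮.deg U hU) (jel 𝒮 j U e)) ⊤ h2 h1]
  refine Eq.trans ?_ (congr(($(awayι_appLE (𝒮.deg U hU) (jel 𝒮 j U e) (hj.2 U hU e) one_pos h1)).hom c))
  rw [CommRingCat.comp_apply, CommRingCat.comp_apply]
  refine congrArg _ ?_
  exact congr(($((RelProj.emb p chart U hU).appIso_inv_appLE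
    (U := Proj.basicOpen (𝒮.deg U hU) (jel 𝒮 j U e)) (V := Proj.basicOpen (𝒮.deg U hU) (jel 𝒮 j U e)) h2)).hom
      ((Proj.basicOpenIsoAway (𝒮.deg U hU) (jel 𝒮 j U e) (hj.2 U hU e) one_pos).hom c)).trans (by simp)

end coord

variable {X Y P PL : Scheme.{u}} {q : X ⟶ Y} {L : X.Modules} [L.IsQuasicoherent]
  {E : Y.Modules} [E.IsQuasicoherent]
  {𝒮L : RelProj.QCGrAlg X} {jL : L ⟶ 𝒮L.toModule} (hjL : RelProj.IsGrSymAlg L 𝒮L jL)
  {pL : PL ⟶ X}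
  {chartL : ∀ (U : X.Opens) (hU : IsAffineOpen U), (((pL ⁻¹ᵁ U : PL.Opens) : Scheme.{u}) ≅ Proj (𝒮L.deg U hU))}
  (hPL : RelProj.IsRelProj 𝒮L pL chartL)
  {𝒯 : RelProj.QCGrAlg Y} {j : E ⟶ 𝒯.toModule} (hj : RelProj.IsGrSymAlg E 𝒯 j)
  {p : P ⟶ Y}
  {chart : ∀ (U : Y.Opens) (hU : IsAffineOpen U), (((p ⁻¹ᵁ U : P.Opens) : Scheme.{u}) ≅ Proj (𝒯.deg U hU))}
  (hP : RelProj.IsRelProj 𝒯 p chart)
  (σ : LinData q E L) (w : RelProj.QGrHom q 𝒯 𝒮L)
  (hw : ∀ (U : Y.Opens) (x : Γ(E, U)), (w.app U).hom (jel 𝒯 j U x) = jel 𝒮L jL (q ⁻¹ᵁ U) (σ.app U x))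
  (hepi : ∀ z : X, ∃ (U : Y.Opens) (_ : IsAffineOpen U) (e : Γ(E, U)), z ∈ σ.genLoc U e)

include hw in
theorem appLE_jel (U : Y.Opens) (V : X.Opens) (h : V ≤ q ⁻¹ᵁ U) (x : Γ(E, U)) :
    (w.appLE U V h).hom (jel 𝒯 j U x) = jel 𝒮L jL V (res L h (σ.app U x)) :=
  (congrArg (𝒮L.presheaf.map (homOfLE h).op).hom (hw U x)).trans
    (PicAux.app_res jL h (σ.app U x)).symm

include hepi in
theorem exists_affine_genLoc (z : X) : ∃ (U : Y.Opens) (_ : IsAffineOpen U) (e : Γ(E, U)) (V : X.Opens)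
    (_ : IsAffineOpen V) (h : V ≤ q ⁻¹ᵁ U), z ∈ V ∧ V ≤ σ.genLoc U e ∧ Gen L V (res L h (σ.app U e)) := by
  obtain ⟨U, hU, e, he⟩ := hepi z
  obtain ⟨V, hV, hzV, hle⟩ := exists_isAffineOpen_mem_and_subset (x := z) (U := σ.genLoc U e) he
  refine ⟨U, hU, e, V, hV, fun w hw => σ.genLoc_le U e (hle hw), hzV, hle, ?_⟩
  have h1 := (σ.gen_genLoc U e).res (V := V) hle
  rwa [PicAux.res_res] at h1

include hw hjL hj in
theorem gradedAt_basicOpen_eq_top {U : Y.Opens} (hU : IsAffineOpen U) {V : X.Opens} (hV : IsAffineOpen V)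
    (h : V ≤ q ⁻¹ᵁ U) (e : Γ(E, U)) (hg : Gen L V (res L h (σ.app U e))) :
    Proj.basicOpen (𝒮L.deg V hV) (w.gradedAt U hU V hV h (jel 𝒯 j U e)) = ⊤ := by
  rw [show w.gradedAt U hU V hV h (jel 𝒯 j U e) = jel 𝒮L jL V (res L h (σ.app U e)) from
    appLE_jel σ w hw U V h e]
  exact basicOpen_eq_top hjL hg

include hw hjL hj hPL hepi in
theorem exists_chart_cover (z : PL) : ∃ i : Groth.Ega2P2.ChartIdx (g := q) (𝒮 := 𝒯),
    (∃ (e : Γ(E, i.U)), i.d = 1 ∧ i.f = jel 𝒯 j i.U e ∧ i.U' ≤ σ.genLoc i.U e ∧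
      Gen L i.U' (res L i.hle (σ.app i.U e))) ∧
    z ∈ Set.range (RelProj.awayEmb w pL chartL i.U i.hU i.U' i.hU' i.hle i.hd i.f i.hf).base := by
  obtain ⟨U, hU, e, V, hV, h, hzV, hle, hg⟩ := exists_affine_genLoc σ hepi (pL z)
  refine ⟨⟨U, hU, V, hV, h, 1, one_pos, jel 𝒯 j U e, hj.2 U hU e⟩, ⟨e, rfl, rfl, hle, hg⟩, ?_⟩
  obtain ⟨y, hy⟩ : ∃ y, (RelProj.emb pL chartL V hV).base y = z :=
    ⟨(chartL V hV).hom.base ⟨z, hzV⟩, by
      change ((chartL V hV).hom ≫ (chartL V hV).inv ≫ (pL ⁻¹ᵁ V).ι).base ⟨z, hzV⟩ = z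
      rw [Iso.hom_inv_id_assoc]; rfl⟩
  rw [← hy]
  exact (Groth.Ega2P2.emb_mem_range_awayEmb w hU hV h one_pos _ (hj.2 U hU e) y).2
    ((gradedAt_basicOpen_eq_top hjL hj σ w hw hU hV h e hg).ge trivial)

include hw hjL hj hPL hepi in
theorem domQ_eq_top : RelProj.domQ w pL chartL = ⊤ := by
  refine eq_top_iff.2 fun z _ => ?_
  obtain ⟨i, -, hi⟩ := exists_chart_cover hjL hPL hj σ w hw hepi z
  have := Groth.Ega2P2.range_awayEmb_mem_domQ (p' := pL) (chart' := chartL) w i hi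
  rwa [Scheme.Opens.range_ι] at this

include hPL in
theorem awayι_chartL_appLE {V : X.Opens} (hV : IsAffineOpen V) {d : ℕ} (f' : 𝒮L.presheaf.obj (op V))
    (hf' : f' ∈ 𝒮L.deg V hV d) (hd : 0 < d)
    (hk : ⊤ ≤ (Proj.awayι (𝒮L.deg V hV) f' hf' hd ≫ RelProj.emb pL chartL V hV ≫ pL) ⁻¹ᵁ V) (a : Γ(X, V)) :
    (Proj.awayι (𝒮L.deg V hV) f' hf' hd ≫ RelProj.emb pL chartL V hV ≫ pL).appLE V ⊤ hk a =
      (Scheme.ΓSpecIso _).inv
        (HomogeneousLocalization.fromZeroRingHom (𝒮L.deg V hV) (Submonoid.powers f') ((𝒮L.strZero V hV).hom a)) := by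
  have key : ∀ (k : Spec (CommRingCat.of (HomogeneousLocalization.Away (𝒮L.deg V hV) f')) ⟶ X)
      (_ : k = Spec.map (𝒮L.strZero V hV ≫ CommRingCat.ofHom
        (HomogeneousLocalization.fromZeroRingHom (𝒮L.deg V hV) (Submonoid.powers f'))) ≫ hV.fromSpec)
      (hk : ⊤ ≤ k ⁻¹ᵁ V), k.appLE V ⊤ hk a = (Scheme.ΓSpecIso _).inv
        (HomogeneousLocalization.fromZeroRingHom (𝒮L.deg V hV) (Submonoid.powers f') ((𝒮L.strZero V hV).hom a)) := by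
    rintro k rfl hk
    rw [appLE_toAffine hV]
    exact congr(($(Scheme.ΓSpecIso_inv_naturality (𝒮L.strZero V hV ≫ CommRingCat.ofHom
      (HomogeneousLocalization.fromZeroRingHom (𝒮L.deg V hV) (Submonoid.powers f'))))).hom a).symm
  exact key _ (Groth.Ega2P2.awayι_emb_p hPL V hV f' hf' hd) hk

theorem top_le_qTgt {U : Y.Opens} (hU : IsAffineOpen U) (e : Γ(E, U)) {V : X.Opens} (hV : IsAffineOpen V)
    (h : V ≤ q ⁻¹ᵁ U) :
    ⊤ ≤ Groth.Ega2P2.qTgt w p chart U hU V hV h one_pos (jel 𝒯 j U e) (hj.2 U hU e) ⁻¹ᵁ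
      dPlus p chart j U hU e := by
  have h0 := (Spec.map (CommRingCat.ofHom
    (HomogeneousLocalization.Away.map (w.gradedAt U hU V hV h) (jel 𝒯 j U e)))).preimage_mono
      (le_awayι_emb (p := p) (chart := chart) hj U hU e)
  rw [Scheme.Hom.preimage_top] at h0
  exact h0

theorem qTgt_appLE_coord {U : Y.Opens} (hU : IsAffineOpen U) (e : Γ(E, U)) {V : X.Opens} (hV : IsAffineOpen V)
    (h : V ≤ q ⁻¹ᵁ U) (x : HomogeneousLocalization.Away (𝒯.deg U hU) (jel 𝒯 j U e)) :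
    (Groth.Ega2P2.qTgt w p chart U hU V hV h one_pos (jel 𝒯 j U e) (hj.2 U hU e)).appLE
        (dPlus p chart j U hU e) ⊤ (top_le_qTgt hj w hU e hV h) ((coord hj chart U hU e).hom x) =
      (Scheme.ΓSpecIso _).inv
        (HomogeneousLocalization.Away.map (w.gradedAt U hU V hV h) (jel 𝒯 j U e) x) := by
  unfold Groth.Ega2P2.qTgt
  have hS : ∀ {A B : CommRingCat.{u}} (φ : A ⟶ B) (hh : ⊤ ≤ Spec.map φ ⁻¹ᵁ ⊤),
      (Spec.map φ).appLE ⊤ ⊤ hh = (Spec.map φ).appTop := fun φ hh => by simp [Scheme.Hom.appLE]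
  rw [← Scheme.Hom.appLE_comp_appLE _ _ (dPlus p chart j U hU e) ⊤ ⊤ (le_awayι_emb hj U hU e) le_top,
    CommRingCat.comp_apply, awayι_emb_appLE_coord hj U hU e, hS]
  exact congr(($(Scheme.ΓSpecIso_inv_naturality (CommRingCat.ofHom
    (HomogeneousLocalization.Away.map (w.gradedAt U hU V hV h) (jel 𝒯 j U e))))).hom x).symm

include hw in
theorem map_jfrac_eq {U : Y.Opens} (hU : IsAffineOpen U) (e e' : Γ(E, U)) {V : X.Opens} (hV : IsAffineOpen V)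
    (h : V ≤ q ⁻¹ᵁ U) (a : Γ(X, V)) (hrel : a • res L h (σ.app U e) = res L h (σ.app U e')) :
    HomogeneousLocalization.Away.map (w.gradedAt U hU V hV h) (jel 𝒯 j U e) (jfrac hj U hU e 1 (hj.2 U hU e')) =
      HomogeneousLocalization.fromZeroRingHom (𝒮L.deg V hV)
        (Submonoid.powers (w.gradedAt U hU V hV h (jel 𝒯 j U e))) ((𝒮L.strZero V hV).hom a) := by
  refine HomogeneousLocalization.val_injective _ ?_
  have hu : w.gradedAt U hU V hV h (jel 𝒯 j U e') =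
      (𝒮L.str.app (op V)).hom a * w.gradedAt U hU V hV h (jel 𝒯 j U e) := by
    rw [show w.gradedAt U hU V hV h (jel 𝒯 j U e') = jel 𝒮L jL V (res L h (σ.app U e')) from
        appLE_jel σ w hw U V h e',
      show w.gradedAt U hU V hV h (jel 𝒯 j U e) = jel 𝒮L jL V (res L h (σ.app U e)) from
        appLE_jel σ w hw U V h e, ← hrel]
    exact jL.app_smul a _
  rw [HomogeneousLocalization.Away.map_mk, HomogeneousLocalization.Away.val_mk]
  change _ = Localization.mk ((𝒮L.str.app (op V)).hom a) 1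
  rw [Localization.mk_eq_mk_iff, Localization.r_iff_exists]
  refine ⟨1, ?_⟩
  simp only [pow_one, OneMemClass.coe_one, one_mul, hu]
  ring

include hw hPL hj hP in
theorem chart_comp_eq {U : Y.Opens} (hU : IsAffineOpen U) (e : Γ(E, U)) {V : X.Opens} (hV : IsAffineOpen V)
    (h : V ≤ q ⁻¹ᵁ U) (hle : V ≤ σ.genLoc U e) {r₀ : X ⟶ P} (h₀ : Fits σ hj chart r₀)
    (hbase : Groth.Ega2P2.qTgt w p chart U hU V hV h one_pos (jel 𝒯 j U e) (hj.2 U hU e) ≫ p =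
      RelProj.awayEmb w pL chartL U hU V hV h one_pos (jel 𝒯 j U e) (hj.2 U hU e) ≫ pL ≫ q) :
    RelProj.awayEmb w pL chartL U hU V hV h one_pos (jel 𝒯 j U e) (hj.2 U hU e) ≫ pL ≫ r₀ =
      Groth.Ega2P2.qTgt w p chart U hU V hV h one_pos (jel 𝒯 j U e) (hj.2 U hU e) := by
  rw [← Category.assoc]
  set c := RelProj.awayEmb w pL chartL U hU V hV h one_pos (jel 𝒯 j U e) (hj.2 U hU e) ≫ pL with hc
  have hc' : c = Proj.awayι (𝒮L.deg V hV) (w.gradedAt U hU V hV h (jel 𝒯 j U e))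
      ((w.gradedAt U hU V hV h).map_mem (hj.2 U hU e)) one_pos ≫ RelProj.emb pL chartL V hV ≫ pL := by
    rw [hc, RelProj.awayEmb, Category.assoc]
  have hcV : ⊤ ≤ c ⁻¹ᵁ V := fun z _ => by
    rw [hc', Groth.Ega2P2.awayι_emb_p hPL V hV _ _ one_pos]
    exact hV.range_fromSpec.le ⟨_, rfl⟩
  have hG : V ≤ r₀ ⁻¹ᵁ dPlus p chart j U hU e := hle.trans (h₀.pre U hU e).ge
  have hl : ⊤ ≤ (c ≫ r₀) ⁻¹ᵁ dPlus p chart j U hU e := hcV.trans (c.preimage_mono hG)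
  refine ext_affine (isAffineOpen_dPlus hj U hU e) hl (top_le_qTgt hj w hU e hV h) ?_
  refine CommRingCat.hom_ext (hom_ext_dPlus hj hP U hU e _ _ (fun a => ?_) fun e' => ?_)
  · have e1 : ∀ (k : Spec (CommRingCat.of (HomogeneousLocalization.Away (𝒮L.deg V hV)
          (w.gradedAt U hU V hV h (jel 𝒯 j U e)))) ⟶ P) (hk : ⊤ ≤ k ⁻¹ᵁ dPlus p chart j U hU e),
        k.appLE (dPlus p chart j U hU e) ⊤ hk (resX P (dPlus_le U hU e) (p.app U a)) =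
          (k ≫ p).appLE U ⊤ (hk.trans (k.preimage_mono (dPlus_le U hU e))) a := fun k hk => by
      rw [← Scheme.Hom.appLE_comp_appLE k p U (dPlus p chart j U hU e) ⊤ (dPlus_le U hU e) hk]
      rfl
    rw [e1, e1]
    have e2 : (c ≫ r₀) ≫ p = Groth.Ega2P2.qTgt w p chart U hU V hV h one_pos (jel 𝒯 j U e) (hj.2 U hU e) ≫ p := by
      rw [hbase, Category.assoc, h₀.comp, hc, Category.assoc]
    have key : ∀ (k k' : Spec (CommRingCat.of (HomogeneousLocalization.Away (𝒮L.deg V hV)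
          (w.gradedAt U hU V hV h (jel 𝒯 j U e)))) ⟶ Y) (_ : k = k') (h1 : ⊤ ≤ k ⁻¹ᵁ U) (h2 : ⊤ ≤ k' ⁻¹ᵁ U),
        k.appLE U ⊤ h1 a = k'.appLE U ⊤ h2 a := by
      rintro k k' rfl h1 h2; rfl
    exact key _ _ e2 _ _
  · have hlhs : (c ≫ r₀).appLE (dPlus p chart j U hU e) ⊤ hl
        ((coord hj chart U hU e).hom (jfrac hj U hU e 1 (hj.2 U hU e'))) =
        c.appLE V ⊤ hcV (resX X hle (σ.ratio U e e')) := by
      rw [← Scheme.Hom.appLE_comp_appLE c r₀ (dPlus p chart j U hU e) V ⊤ hG hcV,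
        ← r₀.appLE_map (h₀.pre U hU e).ge (homOfLE hle).op, h₀.fn, CommRingCat.comp_apply,
        CommRingCat.comp_apply, σ.rho_coord, σ.fracHom_jfrac, σ.algHom_j]
      rfl
    refine hlhs.trans (Eq.trans ?_ (qTgt_appLE_coord hj w hU e hV h _).symm)
    have hrel : (resX X hle (σ.ratio U e e') : Γ(X, V)) • res L h (σ.app U e) = res L h (σ.app U e') := by
      have h1 := congrArg (res L hle) (σ.ratio_smul U e e')
      rw [PicAux.res_smul, PicAux.res_res, PicAux.res_res] at h1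
      exact h1
    rw [map_jfrac_eq hj σ w hw hU e e' hV h _ hrel]
    clear_value c
    subst hc'
    exact awayι_chartL_appLE hPL hV _ _ one_pos hcV _

include hw hjL hPL hj hP hepi in
/-- The morphism of the graded map is the morphism of the linear system. -/
theorem projQMapOn_eq_fits (hL : PicF.IsInvertible L) {r₀ : X ⟶ P} (h₀ : Fits σ hj chart r₀)
    {r : ((RelProj.domQ w pL chartL : PL.Opens) : Scheme.{u}) ⟶ P}
    (hr : RelProj.IsProjQMapOn w p chart pL chartL (RelProj.domQ w pL chartL) r) :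
    r = (RelProj.domQ w pL chartL).ι ≫ pL ≫ r₀ := by
  choose i hi hz using exists_chart_cover hjL hPL hj σ w hw hepi
  refine Groth.Ega2P2.fam_hom_ext _
    (fun z : PL => Groth.Ega2P2.qLift (p' := pL) (chart' := chartL) w (i z)) (fun x => ?_) fun z => ?_
  · obtain ⟨y, hy⟩ := hz x.1
    refine ⟨x.1, y, (RelProj.domQ w pL chartL).ι.isOpenEmbedding.injective ?_⟩
    refine Eq.trans ?_ hy
    change (Groth.Ega2P2.qLift w (i x.1) ≫ (RelProj.domQ w pL chartL).ι).base y = _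
    rw [Groth.Ega2P2.qLift_ι]
  · rw [Groth.Ega2P2.qLift_ι_assoc]
    refine Eq.trans (show _ = Groth.Ega2P2.qTgt w p chart (i z).U (i z).hU (i z).U' (i z).hU' (i z).hle (i z).hd
      (i z).f (i z).hf from hr _ _ _ _ _ _ _ _ _ _) ?_
    obtain ⟨e, hd1, hfe, hle, -⟩ := hi z
    suffices ∀ (k : Groth.Ega2P2.ChartIdx (g := q) (𝒮 := 𝒯)) (e : Γ(E, k.U)), k.d = 1 → k.f = jel 𝒯 j k.U e →
        k.U' ≤ σ.genLoc k.U e → Groth.Ega2P2.qTgt w p chart k.U k.hU k.U' k.hU' k.hle k.hd k.f k.hf =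
          RelProj.awayEmb w pL chartL k.U k.hU k.U' k.hU' k.hle k.hd k.f k.hf ≫ pL ≫ r₀ from
      this (i z) e hd1 hfe hle
    intro k
    have hb := Groth.Ega2P2.qTgt_comp_p w hP hPL k
    revert hb
    obtain ⟨U, hU, V, hV, h, d, hd, f, hf⟩ := k
    dsimp only
    intro hb e hd1 hfe hle
    subst hd1 hfe
    exact (chart_comp_eq hPL hj hP σ w hw hU e hV h hle h₀ hb).symm

include hw hjL hPL hj hP hepi in
/-- An embedding system gives an everywhere defined immersion. -/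
theorem domQ_top_and_isImmersion (hL : PicF.IsInvertible L) (hσ : IsEmb σ)
    {r : ((RelProj.domQ w pL chartL : PL.Opens) : Scheme.{u}) ⟶ P}
    (hr : RelProj.IsProjQMapOn w p chart pL chartL (RelProj.domQ w pL chartL) r) :
    RelProj.domQ w pL chartL = ⊤ ∧ IsImmersion r := by
  have hO1 := Groth.RelTw.isRelTwist_relTwist hP 1
  obtain ⟨φ, hφ⟩ := Groth.RelTw.exists_phi hj hP hO1
  let B : Bdl E := ⟨𝒯, j, hj, P, p, chart, hP, _, _, hO1, φ, hφ⟩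
  obtain ⟨r₀, h₀⟩ := exists_fits (hj := hj) (hP := hP) (hO1 := hO1) (hφ := hφ) σ hepi
  have : IsImmersion r₀ := isImmersion_of_isEmb (B := B) h₀ hσ
  have htop := domQ_eq_top hjL hPL hj σ w hw hepi
  have : IsIso pL := isIso_p hjL hPL hL
  have : IsIso (RelProj.domQ w pL chartL).ι := by
    rw [htop]; exact (Scheme.topIso PL).isIso_hom
  refine ⟨htop, ?_⟩
  rw [projQMapOn_eq_fits hjL hPL hj hP σ w hw hepi hL h₀ hr]
  infer_instance

end Groth.RelVA
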